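import Cfsg.Agent.Lib.AEightSyl.Defs

/-!
# S2918, piece B: permutation groups on the vectors of `A`

Additive permutations containing the four-group of the flags as a Sylow two-subgroup, with soluble
stabiliser of the central vector: the facts about a single flag.
-/

set_option autoImplicit false
set_option linter.style.haveILetI false
set_option linter.unusedSimpArgs false
set_option synthInstance.maxSize 4000
set_option linter.unusedSectionVars false

namespace CfsgLib.AEightSyl

open Subgroup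

/-- Permutations of the vectors. -/
abbrev PV : Type := Equiv.Perm Vec

theorem act_act : ∀ (s : Top) (v : Vec), act s (act s v) = v := by decide

/-- The permutation of a flag. -/
def pf (i : Fin 3) : PV := ⟨act (flag i), act (flag i), act_act _, act_act _⟩

@[simp] theorem pf_apply (i : Fin 3) (v : Vec) : pf i v = act (flag i) v := rfl

theorem pf_mul_self : ∀ i, pf i * pf i = 1 := by decide +kernel

theorem pf_mul : ∀ i, pf i * pf (i + 1) = pf (i + 2) ∧ pf (i + 1) * pf i = pf (i + 2) := by decide +kernel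

theorem pf_ne_one : ∀ i, pf i ≠ 1 := by decide +kernel

theorem pf_inj : ∀ i j, pf i = pf j → i = j := by decide +kernel

theorem pf_comm : ∀ i j, pf i * pf j = pf j * pf i := by decide +kernel

theorem pf_inv (i : Fin 3) : (pf i)⁻¹ = pf i := inv_eq_of_mul_eq_one_right (pf_mul_self i)

theorem pf_closed : ∀ i j, pf i * pf j = 1 ∨ ∃ k, pf i * pf j = pf k := by decide +kernel

/-- The four-group of the flags. -/
def Vs : Subgroup PV where
  carrier := {g | g = 1 ∨ ∃ i, g = pf i}
  one_mem' := Or.inl rfl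
  mul_mem' := by
    rintro a b (rfl | ⟨i, rfl⟩) (rfl | ⟨j, rfl⟩)
    · exact Or.inl (one_mul 1)
    · exact Or.inr ⟨j, one_mul _⟩
    · exact Or.inr ⟨i, mul_one _⟩
    · exact pf_closed i j
  inv_mem' := by
    rintro a (rfl | ⟨i, rfl⟩)
    · exact Or.inl inv_one
    · exact Or.inr ⟨i, pf_inv i⟩

theorem mem_Vs {g : PV} : g ∈ Vs ↔ g = 1 ∨ ∃ i, g = pf i := Iff.rfl

theorem pf_mem_Vs (i : Fin 3) : pf i ∈ Vs := Or.inr ⟨i, rfl⟩

theorem Vs_sq {g : PV} (h : g ∈ Vs) : g * g = 1 := by
  rcases h with rfl | ⟨i, rfl⟩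
  exacts [one_mul 1, pf_mul_self i]

theorem Vs_comm {g h : PV} (hg : g ∈ Vs) (hh : h ∈ Vs) : g * h = h * g := by
  rcases hg with rfl | ⟨i, rfl⟩
  · rw [one_mul, mul_one]
  rcases hh with rfl | ⟨j, rfl⟩
  · rw [one_mul, mul_one]
  exact pf_comm i j

theorem Vs_fix_z {g : PV} (h : g ∈ Vs) : g vz = vz := by
  rcases h with rfl | ⟨i, rfl⟩
  · rfl
  · revert i; decide

theorem mem_line_iff : ∀ i v, v ∈ lineV i ↔ act (flag i) v = v := by decide

theorem line_unique {i j : Fin 3} {v : Vec} (hij : i ≠ j) (hi : v ∈ lineV i) (hj : v ∈ lineV j) :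
    v = v0 ∨ v = vz := by
  have key : ∀ i j v, i ≠ j → act (flag i) v = v → act (flag j) v = v → v = v0 ∨ v = vz := by decide
  exact key i j v hij ((mem_line_iff i v).1 hi) ((mem_line_iff j v).1 hj)

theorem only_z : ∀ v, v ≠ v0 → (∀ i, act (flag i) v = v) → v = vz := by decide

theorem offH_vadd : ∀ v w, offH (vadd v w) = xor (offH v) (offH w) := by decide

theorem vadd_comm : ∀ v w, vadd v w = vadd w v := by decide

theorem vadd_self : ∀ v, vadd v v = v0 := by decide

theorem vadd_act_mem : ∀ i v, vadd (act (flag i) v) v ∈ lineV i := by decide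

theorem vadd_cancel : ∀ v w, vadd (vadd v w) w = v := by decide

theorem span_z : ∀ t, t ≠ v0 → t = vz ∨ vadd t (act (flag 0) t) = vz ∨ vadd t (act (flag 1) t) = vz ∨
    vadd (vadd t (act (flag 0) t)) (vadd (act (flag 1) t) (act (flag 2) t)) = vz := by decide

/-- Powers in two coprime exponents. -/
theorem mem_of_pow_coprime {G : Type*} [Group G] {K : Subgroup G} {x : G} {a b : ℕ} (ha : x ^ a ∈ K)
    (hb : x ^ b ∈ K) (h : Nat.Coprime a b) : x ∈ K := by
  have e := Nat.gcd_eq_gcd_ab a b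
  rw [h.gcd_eq_one, Nat.cast_one] at e
  have h1 : x ^ ((1 : ℤ)) ∈ K := by
    rw [e, zpow_add, zpow_mul, zpow_mul, zpow_natCast, zpow_natCast]
    exact mul_mem (K.zpow_mem ha _) (K.zpow_mem hb _)
  rwa [zpow_one] at h1

/-- A group of additive permutations with the flags as Sylow subgroup. -/
structure Auto (X : Subgroup PV) : Prop where
  add : ∀ g ∈ X, ∀ v w, g (vadd v w) = vadd (g v) (g w)
  flags : ∀ i, pf i ∈ X
  sylow : ¬ 2 ∣ Vs.relIndex X
  sol : IsSolvable ↥(X ⊓ MulAction.stabilizer PV vz)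

/-- The stabiliser of the central vector. -/
abbrev StY (X : Subgroup PV) : Subgroup PV := X ⊓ MulAction.stabilizer PV vz

variable {X : Subgroup PV} (h : Auto X)
include h

theorem Auto.apply_zero {g : PV} (hg : g ∈ X) : g v0 = v0 := by
  have e := h.add g hg v0 v0
  rw [vadd_self] at e
  have e2 := vadd_self (g v0)
  rwa [← e] at e2

theorem Auto.apply_ne_zero {g : PV} (hg : g ∈ X) {v : Vec} (hv : v ≠ v0) : g v ≠ v0 := fun e =>
  hv (g.injective (e.trans (h.apply_zero hg).symm))

theorem Auto.Vs_le : Vs ≤ X := by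
  rintro g (rfl | ⟨i, rfl⟩)
  exacts [X.one_mem, h.flags i]

theorem Auto.Vs_le_Y : Vs ≤ StY X := fun _ hg => ⟨h.Vs_le hg, Vs_fix_z hg⟩

theorem Auto.mem_Y {g : PV} (hg : g ∈ X) (hz : g vz = vz) : g ∈ StY X := ⟨hg, hz⟩

theorem Auto.sylowY : ¬ 2 ∣ Vs.relIndex (StY X) := fun hd =>
  h.sylow (hd.trans (Dvd.intro _ (Subgroup.relIndex_mul_relIndex Vs (StY X) X h.Vs_le_Y inf_le_left)))

/-- An element of odd order commuting with a flag and fixing `z` is trivial. -/
theorem Auto.star {c : PV} (hc : c ∈ X) {i : Fin 3} (hci : Commute c (pf i)) (hz : c vz = vz)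
    (hodd : Odd (orderOf c)) : c = 1 := by
  have hadd := h.add c hc
  have hcomm : ∀ v, c (act (flag i) v) = act (flag i) (c v) := fun v => congrArg (fun g : PV => g v) hci.eq
  have hL : ∀ v ∈ lineV i, c v ∈ lineV i := fun v hv => by
    rw [mem_line_iff] at hv ⊢
    rw [← hcomm, hv]
  have hL2 : ∀ v ∈ lineV i, c (c v) = v := by
    intro v hv
    by_cases h0 : v = v0
    · rw [h0, h.apply_zero hc, h.apply_zero hc]
    by_cases hv1 : v = vz
    · rw [hv1, hz, hz]
    have hz' : vz ≠ v0 := by decide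
    have key : ∀ (i : Fin 3) (v w : Vec), act (flag i) v = v → act (flag i) w = w →
        v = v0 ∨ v = vz ∨ w = v0 ∨ w = vz ∨ w = v ∨ w = vadd v vz := by decide
    have hne : c v ≠ vz := fun e => hv1 (c.injective (e.trans hz.symm))
    rcases key i v (c v) ((mem_line_iff i v).1 hv) ((mem_line_iff i _).1 (hL v hv)) with e | e | e | e | e | e
    · exact absurd e h0
    · exact absurd e hv1
    · exact absurd e (h.apply_ne_zero hc h0)
    · exact absurd e hne
    · rw [e, e]
    · rw [e, hadd, hz, e, vadd_cancel]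
  have h4 : c ^ 4 = 1 := by
    refine Equiv.ext fun v => ?_
    show c (c (c (c v))) = v
    have hd : vadd (c (c v)) v ∈ lineV i := by
      rw [mem_line_iff]
      have e1 := hL2 _ (vadd_act_mem i v)
      rw [hadd, hadd, hcomm, hcomm] at e1
      have key : ∀ (i : Fin 3) (a b : Vec), vadd (act (flag i) a) a = vadd (act (flag i) b) b →
          act (flag i) (vadd a b) = vadd a b := by decide
      exact key i _ _ e1
    have e2 := hL2 _ hd
    rw [hadd, hadd] at e2
    have key : ∀ a b w : Vec, vadd a b = vadd b w → a = w := by decide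
    exact key _ _ _ e2
  have h1 : orderOf c ∣ 2 ^ 2 := orderOf_dvd_of_pow_eq_one h4
  exact orderOf_eq_one_iff.1
    (Nat.eq_one_of_dvd_coprimes (Nat.Coprime.pow_right _ (Nat.coprime_two_right.2 hodd)) dvd_rfl h1)

/-- Elements fixed by a flag in an odd set closed under the flag. -/
theorem Auto.exists_inverted {D : Subgroup PV} (hD : ∀ d ∈ D, Odd (orderOf d)) {i : Fin 3}
    (hn : ∀ d ∈ D, pf i * d * pf i ∈ D) (hfree : ∀ d ∈ D, Commute d (pf i) → d = 1) {d : PV} (hd : d ∈ D) :
    pf i * d * pf i = d⁻¹ := by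
  obtain ⟨y, hy⟩ : ∃ y, y = d⁻¹ * (pf i * d * pf i) := ⟨_, rfl⟩
  have hym : y ∈ D := hy ▸ mul_mem (inv_mem hd) (hn d hd)
  obtain ⟨m, hm⟩ := hD y hym
  have hsy : pf i * y * pf i = y⁻¹ := by
    rw [hy, mul_inv_rev, inv_inv, mul_inv_rev, mul_inv_rev, pf_inv]
    simp only [mul_assoc]
    rw [pf_mul_self, mul_one]
  have hy1 : y ^ (m + 1) * y ^ (m + 1) = y := by
    rw [← pow_add, show m + 1 + (m + 1) = orderOf y + 1 by omega, pow_succ, pow_orderOf_eq_one, one_mul]
  have hsy1 : pf i * y ^ (m + 1) * pf i = (y ^ (m + 1))⁻¹ := by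
    have e := conj_pow (a := pf i) (b := y) (i := m + 1)
    rw [pf_inv, hsy, inv_pow] at e
    exact e.symm
  have hfix : pf i * (d * y ^ (m + 1)) * pf i = d * y ^ (m + 1) := by
    calc pf i * (d * y ^ (m + 1)) * pf i
        = pf i * d * (pf i * pf i) * y ^ (m + 1) * pf i := by rw [pf_mul_self, mul_one]; group
      _ = d * (d⁻¹ * (pf i * d * pf i)) * (pf i * y ^ (m + 1) * pf i) := by group
      _ = d * (y ^ (m + 1) * y ^ (m + 1)) * (y ^ (m + 1))⁻¹ := by rw [← hy, hsy1, hy1]
      _ = d * y ^ (m + 1) := by group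
  have h1 := hfree _ (mul_mem hd (pow_mem hym _)) (by
    show _ * pf i = pf i * _
    calc d * y ^ (m + 1) * pf i = pf i * (d * y ^ (m + 1)) * pf i * pf i := by rw [hfix]
      _ = pf i * (d * y ^ (m + 1)) := by rw [mul_assoc _ (pf i) (pf i), pf_mul_self, mul_one])
  have hd' : d = (y ^ (m + 1))⁻¹ := eq_inv_of_mul_eq_one_left h1
  rw [hd', inv_inv]
  have e := congrArg (·⁻¹) hsy1
  simpa [mul_inv_rev, pf_inv, mul_assoc] using e

/-- An odd subgroup of the stabiliser normalised by the flags is trivial. -/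
theorem Auto.odd_trivial {D : Subgroup PV} (hDY : D ≤ StY X) (hD : ∀ d ∈ D, Odd (orderOf d))
    (hn : ∀ i, ∀ d ∈ D, pf i * d * pf i ∈ D) {d : PV} (hd : d ∈ D) : d = 1 := by
  have inv : ∀ i, pf i * d * pf i = d⁻¹ := fun i =>
    h.exists_inverted hD (hn i) (fun e he hc => h.star (hDY he).1 hc (hDY he).2 (hD e he)) hd
  have e1 : pf 2 * d * pf 2 = d := by
    have e : pf 2 * d * pf 2 = pf 0 * (pf 1 * d * pf 1) * pf 0 := by
      rw [show pf 2 = pf 0 * pf 1 from ((pf_mul 0).1).symm]
      nth_rewrite 2 [show pf 0 * pf 1 = pf 1 * pf 0 from pf_comm _ _]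
      simp only [mul_assoc]
    rw [e, inv 1]
    have e2 := congrArg (·⁻¹) (inv 0)
    simpa [mul_inv_rev, pf_inv, mul_assoc] using e2
  rw [inv 2] at e1
  have h2 : d ^ 2 = 1 := by
    rw [pow_two]; nth_rewrite 1 [← e1]; exact inv_mul_cancel d
  exact orderOf_eq_one_iff.1
    (Nat.eq_one_of_dvd_coprimes (Nat.coprime_two_right.2 (hD d hd)) dvd_rfl (orderOf_dvd_of_pow_eq_one h2))

end CfsgLib.AEightSyl
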