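import Cfsg.Agent.Lib.AEightSyl.AutoDefs

/-!
# S2918, piece B: the possible elements of order three centralising a flag
-/

set_option autoImplicit false
set_option linter.style.haveILetI false
set_option linter.unusedSimpArgs false
set_option linter.unusedSectionVars false
set_option synthInstance.maxSize 4000

namespace CfsgLib.AEightSyl

/-- A multiple of a vector. -/
def sm (b : Bool) (x : Vec) : Vec := if b then x else v0

/-- A generator of the module of the flags. -/
def gen : Vec := (false, false, true, false)

/-- Coefficients on the generator and its images. -/
def coef : Fin 3 → Vec → Bool × Bool × Bool × Bool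
  | 0, (a, b, c, d) => (xor (xor a b) (xor c d), xor a b, xor b d, b)
  | 1, (a, b, c, d) => (xor (xor a b) (xor c d), xor b d, b, xor a b)
  | 2, (a, b, c, d) => (xor (xor a b) (xor c d), b, xor a b, xor b d)

/-- The map commuting with the flag with given values. -/
def cf (i : Fin 3) (a w v : Vec) : Vec :=
  vadd (vadd (sm (coef i v).1 a) (sm (coef i v).2.1 (act (flag i) a)))
    (vadd (sm (coef i v).2.2.1 w) (sm (coef i v).2.2.2 (act (flag i) w)))

theorem cf_gen : ∀ i v, cf i gen (act (flag (i + 1)) gen) v = v := by decide +kernel

/-- The four candidates for each flag. -/
def cand : Fin 3 → List (Vec × Vec)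
  | 0 => [((false, false, false, true), (false, false, true, false)),
      ((false, false, true, true), (false, false, false, true)),
      ((true, true, false, true), (true, false, true, false)),
      ((true, true, true, true), (true, false, false, true))]
  | 1 => [((true, false, false, false), (false, false, true, true)),
      ((true, false, true, false), (true, true, false, false)),
      ((true, true, false, true), (false, false, true, false)),
      ((true, true, true, true), (true, true, false, true))]
  | 2 => [((false, false, false, true), (true, true, true, true)),
      ((false, false, true, true), (false, true, false, true)),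
      ((true, false, false, false), (false, false, true, false)),
      ((true, false, true, false), (true, false, false, false))]

theorem cand_spec : ∀ i a w, (∀ v, cf i a w (cf i a w (cf i a w v)) = v) →
    (∀ v, cf i a w (act (flag (i + 1)) (cf i a w v)) = act (flag (i + 1)) v) →
    cf i a w vz ≠ vz → (a, w) ∈ cand i := by decide +kernel

/-- The product of a flag and two candidate maps. -/
def word (m i j : Fin 3) (x y : Vec × Vec) (v : Vec) : Vec :=
  act (flag m) (cf i x.1 x.2 (cf j y.1 y.2 v))

/-- A map of order four. -/
def OrdFour (f : Vec → Vec) : Prop := (∀ v, f (f (f (f v))) = v) ∧ ∃ v, f (f v) ≠ v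

instance (f : Vec → Vec) : Decidable (OrdFour f) := inferInstanceAs (Decidable (_ ∧ _))

theorem cand_four : ∀ x ∈ cand 0, ∀ y ∈ cand 1, ∀ w ∈ cand 2,
    OrdFour (word 0 0 1 x y) ∨ OrdFour (word 0 0 2 x w) ∨ OrdFour (word 1 1 2 y w) := by decide +kernel

end CfsgLib.AEightSyl
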