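import Cfsg.Agent.Lib.AEightSyl.AutoY

/-!
# S2918, piece B: the orbit of the central vector, definitions and small checks
-/

set_option autoImplicit false
set_option linter.style.haveILetI false
set_option linter.unusedSimpArgs false
set_option linter.unusedSectionVars false
set_option synthInstance.maxSize 4000

namespace CfsgLib.AEightSyl

open Subgroup

/-- A vector in the orbit of the central vector. -/
def Orb (X : Subgroup PV) (v : Vec) : Prop := ∃ g ∈ X, g vz = v

/-- A representative of each line. -/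
def pl : Fin 3 → Vec := ![(true, false, false, false), (false, false, false, true), (true, false, false, true)]

/-- A representative of each class off the hyperplane. -/
def orep : Bool → Vec
  | true => (false, false, true, false)
  | false => (false, true, true, false)

/-- A union of classes containing the central vector. -/
def inSet (a0 a1 a2 b0 b1 : Bool) (v : Vec) : Bool :=
  (v == vz) || (a0 && (v == pl 0 || v == vadd (pl 0) vz)) || (a1 && (v == pl 1 || v == vadd (pl 1) vz)) ||
    (a2 && (v == pl 2 || v == vadd (pl 2) vz)) || (offH v && ((singular v && b1) || (!singular v && b0)))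

theorem vec_cases : ∀ v : Vec, v ≠ v0 →
    v = vz ∨ (∃ i, v = pl i ∨ v = vadd (pl i) vz) ∨ offH v = true := by decide

theorem off_orbit : ∀ v w : Vec, offH v = true → offH w = true → singular v = singular w →
    v = w ∨ ∃ i, act (flag i) v = w := by decide

theorem orep_spec : ∀ b, offH (orep b) = true ∧ singular (orep b) = b := by decide

theorem pl_spec : ∀ i, act (flag i) (pl i) = pl i ∧ pl i ≠ v0 ∧ pl i ≠ vz ∧
    act (flag (i + 1)) (pl i) = vadd (pl i) vz := by decide

theorem line_cases : ∀ i v, act (flag i) v = v → v = v0 ∨ v = vz ∨ v = pl i ∨ v = vadd (pl i) vz := by decide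

theorem mem_line_pl : ∀ i, pl i ∈ lineV i ∧ vadd (pl i) vz ∈ lineV i := fun i => by
  revert i; simp only [mem_line_iff]; decide

theorem flag_other : ∀ i j v, act (flag i) v = v → v ≠ v0 → v ≠ vz → j ≠ i →
    act (flag j) v = vadd v vz := by decide

theorem offH_line : ∀ i v, act (flag i) v = v → offH v = false := by decide

theorem vz_ne : vz ≠ v0 := by decide

variable {X : Subgroup PV} (h : Auto X)
include h

theorem Auto.orb_z : Orb X vz := ⟨1, X.one_mem, rfl⟩

theorem Auto.orb_apply {g : PV} (hg : g ∈ X) {v : Vec} : Orb X (g v) ↔ Orb X v := by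
  constructor
  · rintro ⟨k, hk, e⟩
    exact ⟨g⁻¹ * k, X.mul_mem (X.inv_mem hg) hk, by
      show g⁻¹ (k vz) = v
      rw [e]; exact g.symm_apply_apply v⟩
  · rintro ⟨k, hk, e⟩
    exact ⟨g * k, X.mul_mem hg hk, congrArg g e⟩

theorem Auto.orb_ne_zero {v : Vec} (hv : Orb X v) : v ≠ v0 := by
  obtain ⟨g, hg, rfl⟩ := hv
  exact h.apply_ne_zero hg vz_ne

theorem Auto.orb_line {i : Fin 3} {v : Vec} (hv : v = pl i ∨ v = vadd (pl i) vz) : Orb X v ↔ Orb X (pl i) := by
  rcases hv with rfl | rfl
  · rfl
  · rw [← (pl_spec i).2.2.2]; exact h.orb_apply (h.flags (i + 1))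

theorem Auto.orb_off {v : Vec} (hv : offH v = true) : Orb X v ↔ Orb X (orep (singular v)) := by
  obtain ⟨h1, h2⟩ := orep_spec (singular v)
  rcases off_orbit v (orep (singular v)) hv h1 h2.symm with e | ⟨i, e⟩
  · rw [← e]
  · rw [← e]; exact (h.orb_apply (h.flags i)).symm

/-- The orbit as a union of classes. -/
theorem Auto.orb_shape {a0 a1 a2 b0 b1 : Bool} (h0 : Orb X (pl 0) ↔ a0 = true) (h1 : Orb X (pl 1) ↔ a1 = true)
    (h2 : Orb X (pl 2) ↔ a2 = true) (k0 : Orb X (orep false) ↔ b0 = true) (k1 : Orb X (orep true) ↔ b1 = true)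
    (v : Vec) : Orb X v ↔ inSet a0 a1 a2 b0 b1 v = true := by
  by_cases hv0 : v = v0
  · subst hv0
    have key : ∀ a0 a1 a2 b0 b1 : Bool, inSet a0 a1 a2 b0 b1 v0 ≠ true := by decide
    exact iff_of_false (fun e => h.orb_ne_zero e rfl) (key _ _ _ _ _)
  rcases vec_cases v hv0 with rfl | ⟨i, hi⟩ | ho
  · exact iff_of_true h.orb_z (by simp [inSet])
  · rw [h.orb_line hi]
    have key : ∀ (i : Fin 3) (v : Vec) (a0 a1 a2 b0 b1 : Bool), v = pl i ∨ v = vadd (pl i) vz →
        inSet a0 a1 a2 b0 b1 v = ![a0, a1, a2] i := by decide +kernel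
    rw [key i v a0 a1 a2 b0 b1 hi]
    fin_cases i
    exacts [h0, h1, h2]
  · rw [h.orb_off ho]
    have key : ∀ (v : Vec) (a0 a1 a2 b0 b1 : Bool), offH v = true →
        inSet a0 a1 a2 b0 b1 v = if singular v then b1 else b0 := by decide +kernel
    rw [key v a0 a1 a2 b0 b1 ho]
    rcases hs : singular v <;> simp [k0, k1]

/-- A flag moves an element of `X` to an element mapping into the line. -/
theorem Auto.comm_line {c : PV} (hc : c ∈ X) {i : Fin 3} (hci : Commute c (pf i)) :
    act (flag i) (c vz) = c vz ∧ c vz ≠ v0 := by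
  refine ⟨?_, h.apply_ne_zero hc vz_ne⟩
  have e := congrArg (fun g : PV => g vz) hci.eq
  have e2 : pf i vz = vz := Vs_fix_z (pf_mem_Vs i)
  show pf i (c vz) = c vz
  simp only [Equiv.Perm.mul_apply, e2] at e
  exact e.symm

theorem Auto.flag_two {i j : Fin 3} (hij : i ≠ j) {c : PV} (hc : c ∈ X) (hi : Commute c (pf i))
    (hj : Commute c (pf j)) : c vz = vz := by
  obtain ⟨h1, h2⟩ := h.comm_line hc hi
  exact (line_unique hij ((mem_line_iff i _).2 h1) ((mem_line_iff j _).2 (h.comm_line hc hj).1)).resolve_left h2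

/-- A fixed vector of an element normalised by the flags forces the central vector to be fixed. -/
theorem Auto.fix_z {d : PV} (hd : d ∈ X) (hn : ∀ i, pf i * d * pf i = d ∨ pf i * d * pf i = d⁻¹) {t : Vec}
    (ht : t ≠ v0) (hfix : d t = t) : d vz = vz := by
  have hflag : ∀ i, d (act (flag i) t) = act (flag i) t := by
    intro i
    have h1 : (pf i * d * pf i) t = t := by
      rcases hn i with e | e <;> rw [e]
      · exact hfix
      · exact Equiv.Perm.inv_eq_iff_eq.2 hfix.symm
    have h2 : act (flag i) (d (act (flag i) t)) = t := h1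
    have h3 := congrArg (act (flag i)) h2
    rwa [act_act] at h3
  have hadd := h.add d hd
  rcases span_z t ht with e | e | e | e
  · rw [← e, hfix]
  · rw [← e, hadd, hfix, hflag]
  · rw [← e, hadd, hfix, hflag]
  · rw [← e, hadd, hadd, hadd, hfix, hflag, hflag, hflag]

/-- The fixed vectors of an element of order three. -/
theorem Auto.fix_count {c : PV} (hc : c ∈ X) (hc3 : c ^ 3 = 1) (hc1 : c ≠ 1) {v : Vec} (hv : v ≠ v0)
    (hfix : c v = v) : Nat.card {w // c w = w} % 3 = 1 ∧ 1 < Nat.card {w // c w = w} ∧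
      Nat.card {w // c w = w} < 16 := by
  haveI : Fact (Nat.Prime 3) := ⟨Nat.prime_three⟩
  have hp : IsPGroup 3 (zpowers c) := by
    rintro ⟨x, ⟨n, rfl⟩⟩
    refine ⟨1, Subtype.ext ?_⟩
    show (c ^ n) ^ (3 ^ 1) = 1
    rw [← zpow_natCast, ← zpow_mul, mul_comm, zpow_mul, zpow_natCast, pow_one, hc3, one_zpow]
  have h16 : Nat.card Vec = 16 := by simp [Nat.card_eq_fintype_card]
  have hm := hp.card_modEq_card_fixedPoints Vec
  have hset : ∀ w : Vec, w ∈ MulAction.fixedPoints (zpowers c) Vec ↔ c w = w := by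
    intro w
    refine ⟨fun hw => hw ⟨c, mem_zpowers c⟩, fun hw x => ?_⟩
    show (x : PV) w = w
    have : (zpowers c : Subgroup PV) ≤ MulAction.stabilizer PV w := zpowers_le.2 hw
    exact this x.2
  rw [Nat.card_congr (Equiv.subtypeEquivRight hset), h16] at hm
  refine ⟨hm.symm, ?_, ?_⟩
  · haveI : Nontrivial {w // c w = w} :=
      ⟨⟨⟨v0, h.apply_zero hc⟩, ⟨v, hfix⟩, fun e => hv (congrArg Subtype.val e).symm⟩⟩
    exact Finite.one_lt_card
  · refine lt_of_le_of_ne (h16 ▸ Nat.card_le_card_of_injective _ Subtype.val_injective) fun e => hc1 ?_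
    refine Equiv.ext fun w => ?_
    obtain ⟨x, rfl⟩ := ((Nat.bijective_iff_injective_and_card
      (Subtype.val : {w // c w = w} → Vec)).2 ⟨Subtype.val_injective, e.trans h16.symm⟩).2 w
    exact x.2

end CfsgLib.AEightSyl
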