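import Cfsg.Agent.Lib.AEightSyl.AutoFour

/-!
# S2918, piece B: stabilisers and transitivity without rotation
-/

set_option autoImplicit false
set_option linter.style.haveILetI false
set_option linter.unusedSimpArgs false
set_option linter.unusedSectionVars false
set_option synthInstance.maxSize 4000

namespace CfsgLib.AEightSyl

open Subgroup

theorem flag_pl : ∀ i m v, m ≠ i → (v = pl m ∨ v = vadd (pl m) vz) →
    act (flag i) v = vadd v vz ∧ v ≠ v0 ∧ v ≠ vz ∧ vadd v vz ≠ v0 ∧ vadd v vz ≠ vz ∧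
      (vadd v vz = pl m ∨ vadd v vz = vadd (pl m) vz) ∧ act (flag m) v = v := by decide

theorem flags_next : ∀ i : Fin 3, pf (i + 1) * pf (i + 2) = pf i ∧ i + 1 ≠ i ∧ i + 2 ≠ i ∧
    i + 1 ≠ i + 2 := by decide +kernel

/-- Three powers of an element of order three are distinct. -/
theorem pow_fin3 {G : Type*} [Group G] {c : G} (h3 : c ^ 3 = 1) (h1 : c ≠ 1) {a b : Fin 3}
    (e : c ^ (a : ℕ) = c ^ (b : ℕ)) : a = b := by
  have hc : orderOf c = 3 := orderOf_eq_prime (hp := ⟨Nat.prime_three⟩) h3 h1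
  refine Fin.ext ?_
  have := pow_injOn_Iio_orderOf (x := c) (show (a : ℕ) < orderOf c by omega) (show (b : ℕ) < orderOf c by omega) e
  exact this

variable {X D : Subgroup PV} (h : Auto X)
include h

/-- An element commuting with a flag that moves two vectors alike. -/
theorem Auto.comm_move {d : PV} (hd : d ∈ X) {i : Fin 3} (hc : Commute d (pf i)) {v w : Vec}
    (hv : act (flag i) v = vadd v vz) (hw : act (flag i) w = vadd w vz) (e : d v = w) : d vz = vz := by
  have e1 : d (act (flag i) v) = act (flag i) (d v) := congrArg (fun g : PV => g v) hc.eq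
  rw [hv, h.add d hd, e, hw] at e1
  have key : ∀ w a : Vec, vadd w a = vadd w vz → a = vz := by decide
  exact key _ _ e1

variable (hD : Compl X D)
include hD

theorem Compl.one_line_trans {i j k : Fin 3} (hjk : pf j * pf k = pf i) (hji : j ≠ i) (hki : k ≠ i)
    (hne : j ≠ k) (hi : Orb X (pl i)) (hj : ¬ Orb X (pl j)) (hk : ¬ Orb X (pl k)) :
    ∀ t, t ≠ v0 → ¬ Orb X t → ∃ m, m ≠ i ∧ ∃ g ∈ X, g (pl m) = t := by
  classical
  have hcomm : ∀ d ∈ D, Commute d (pf i) := by
    intro d hd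
    have e : pf i * d * pf i = d := by
      calc pf i * d * pf i = pf j * (pf k * d * pf k) * pf j := by
            rw [← hjk]
            nth_rewrite 2 [pf_comm j k]
            simp only [mul_assoc]
        _ = pf j * d⁻¹ * pf j := by rw [hD.inverts h hk hd]
        _ = d := by rw [hD.inverts h hj (inv_mem hd), inv_inv]
    calc d * pf i = pf i * d * pf i * pf i := by rw [e]
      _ = pf i * d := by rw [mul_assoc _ (pf i) (pf i), pf_mul_self, mul_one]
  obtain ⟨c, hc, -, hc3, hc1, -, -, -⟩ := hD.cent h hi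
  have hline := (hD.one_line h hjk hi hj hk).1
  let q : Fin 4 → Vec := ![pl j, vadd (pl j) vz, pl k, vadd (pl k) vz]
  let qm : Fin 4 → Fin 3 := ![j, j, k, k]
  have hq : ∀ r, (q r = pl (qm r) ∨ q r = vadd (pl (qm r)) vz) ∧ qm r ≠ i := by
    intro r; fin_cases r
    exacts [⟨Or.inl rfl, hji⟩, ⟨Or.inr rfl, hji⟩, ⟨Or.inl rfl, hki⟩, ⟨Or.inr rfl, hki⟩]
  have hqinj : Function.Injective q := by
    have key : ∀ j k : Fin 3, j ≠ k →
        Function.Injective (![pl j, vadd (pl j) vz, pl k, vadd (pl k) vz] : Fin 4 → Vec) := by decide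
    exact key j k hne
  let f : Fin 3 × Fin 4 → Vec := fun x => (c ^ (x.1 : ℕ)) (q x.2)
  have hf : Function.Injective f := by
    rintro ⟨a, r⟩ ⟨b, s⟩ e
    have hd : (c ^ (b : ℕ))⁻¹ * c ^ (a : ℕ) ∈ D := mul_mem (inv_mem (pow_mem hc _)) (pow_mem hc _)
    have e1 : ((c ^ (b : ℕ))⁻¹ * c ^ (a : ℕ)) (q r) = q s := by
      rw [Equiv.Perm.mul_apply, show (c ^ (a : ℕ)) (q r) = (c ^ (b : ℕ)) (q s) from e]
      exact (c ^ (b : ℕ)).symm_apply_apply _
    have e2 := hD.stab _ hd (h.comm_move (hD.le hd) (hcomm _ hd) (flag_pl i _ _ (hq r).2 (hq r).1).1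
      (flag_pl i _ _ (hq s).2 (hq s).1).1 e1)
    rw [e2] at e1
    rw [hqinj e1, pow_fin3 hc3 hc1 (inv_mul_eq_one.1 e2).symm]
  intro t ht hO
  have htl : ¬ act (flag i) t = t := fun e => hO ((hline t ht).2 ((mem_line_iff i t).2 e))
  have himg : Finset.univ.image f = Finset.univ.filter fun v => ¬ act (flag i) v = v := by
    refine Finset.eq_of_subset_of_card_le ?_ ?_
    · intro v hv
      obtain ⟨⟨a, r⟩, -, rfl⟩ := Finset.mem_image.1 hv
      refine Finset.mem_filter.2 ⟨Finset.mem_univ _, fun e => ?_⟩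
      have hne0 := h.apply_ne_zero (hD.le (pow_mem hc (a : ℕ))) (flag_pl i _ _ (hq r).2 (hq r).1).2.1
      have h1 := (hline _ hne0).2 ((mem_line_iff i _).2 e)
      rw [h.orb_apply (hD.le (pow_mem hc (a : ℕ))), h.orb_line (hq r).1] at h1
      fin_cases r
      exacts [hj h1, hj h1, hk h1, hk h1]
    · rw [Finset.card_image_of_injective _ hf]
      have key : ∀ i, (Finset.univ.filter fun v => ¬ act (flag i) v = v).card ≤
          (Finset.univ : Finset (Fin 3 × Fin 4)).card := by decide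
      exact key i
  obtain ⟨⟨a, r⟩, -, e⟩ := Finset.mem_image.1
    (himg ▸ Finset.mem_filter.2 ⟨Finset.mem_univ t, htl⟩ : t ∈ Finset.univ.image f)
  refine ⟨qm r, (hq r).2, ?_⟩
  rcases (hq r).1 with e1 | e1
  · exact ⟨c ^ (a : ℕ), hD.le (pow_mem hc _), by rw [← e1]; exact e⟩
  · refine ⟨c ^ (a : ℕ) * pf i, mul_mem (hD.le (pow_mem hc _)) (h.flags i), ?_⟩
    rw [Equiv.Perm.mul_apply, pf_apply, (flag_pl i _ _ (hq r).2 (Or.inl rfl)).1, ← e1]
    exact e

theorem Compl.two_lines_stab {i k : Fin 3} (hik : k ≠ i) (hi : Orb X (pl i)) (hk : ¬ Orb X (pl k))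
    (h9 : Nat.card D = 9) {b : Bool} (hb : ∀ v, v ≠ v0 →
      (Orb X v ↔ ((∃ m, m ≠ k ∧ act (flag m) v = v) ∨ (offH v = true ∧ singular v = b)))) :
    (∀ v, v = pl k ∨ v = vadd (pl k) vz → ∃ d, StabX X k v d) ∧
      ∀ t, t ≠ v0 → ¬ Orb X t → ∃ g ∈ X, g (pl k) = t := by
  classical
  haveI : Fact (Nat.Prime 3) := ⟨Nat.prime_three⟩
  obtain ⟨c, hc, hci, hc3, hc1, -, -, -⟩ := hD.cent h hi
  have key : ∀ v, v = pl k ∨ v = vadd (pl k) vz → ∀ t, t ≠ v0 → ¬ Orb X t → ∃ a : Fin 3,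
      (c ^ (a : ℕ)) v = t ∨ (c ^ (a : ℕ)) (vadd v vz) = t := by
    intro v hv t ht hO
    obtain ⟨hfi, hv0, hvz, hw0, hwz, hw, -⟩ := flag_pl i k v hik hv
    let q : Fin 2 → Vec := ![v, vadd v vz]
    have hq : ∀ r, q r = pl k ∨ q r = vadd (pl k) vz := by
      intro r; fin_cases r
      exacts [hv, hw]
    let f : Fin 3 × Fin 2 → Vec := fun x => (c ^ (x.1 : ℕ)) (q x.2)
    have hf : Function.Injective f := by
      rintro ⟨a, r⟩ ⟨a', s⟩ e
      have hd : (c ^ (a' : ℕ))⁻¹ * c ^ (a : ℕ) ∈ D := mul_mem (inv_mem (pow_mem hc _)) (pow_mem hc _)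
      have e1 : ((c ^ (a' : ℕ))⁻¹ * c ^ (a : ℕ)) (q r) = q s := by
        rw [Equiv.Perm.mul_apply, show (c ^ (a : ℕ)) (q r) = (c ^ (a' : ℕ)) (q s) from e]
        exact (c ^ (a' : ℕ)).symm_apply_apply _
      have e2 := hD.stab _ hd (h.comm_move (hD.le hd) ((hci.pow_left _).inv_left.mul_left (hci.pow_left _))
        (flag_pl i k _ hik (hq r)).1 (flag_pl i k _ hik (hq s)).1 e1)
      rw [e2] at e1
      have hqi : Function.Injective q := by
        have key : ∀ v : Vec, Function.Injective (![v, vadd v vz] : Fin 2 → Vec) := by decide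
        exact key v
      rw [hqi e1, pow_fin3 hc3 hc1 (inv_mul_eq_one.1 e2).symm]
    have himg : Finset.univ.image f = Finset.univ.filter fun v => v ≠ v0 ∧
        ¬ ((∃ m, m ≠ k ∧ act (flag m) v = v) ∨ (offH v = true ∧ singular v = b)) := by
      refine Finset.eq_of_subset_of_card_le ?_ ?_
      · intro w hw'
        obtain ⟨⟨a, r⟩, -, rfl⟩ := Finset.mem_image.1 hw'
        have hne0 := h.apply_ne_zero (hD.le (pow_mem hc (a : ℕ))) (flag_pl i k _ hik (hq r)).2.1
        refine Finset.mem_filter.2 ⟨Finset.mem_univ _, hne0, fun e => ?_⟩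
        have h1 := (hb _ hne0).2 e
        rw [h.orb_apply (hD.le (pow_mem hc (a : ℕ))), h.orb_line (hq r)] at h1
        exact hk h1
      · rw [Finset.card_image_of_injective _ hf]
        have key : ∀ k b, (Finset.univ.filter fun v : Vec => v ≠ v0 ∧
            ¬ ((∃ m, m ≠ k ∧ act (flag m) v = v) ∨ (offH v = true ∧ singular v = b))).card ≤
              (Finset.univ : Finset (Fin 3 × Fin 2)).card := by decide +kernel
        exact key k b
    obtain ⟨⟨a, r⟩, -, e⟩ := Finset.mem_image.1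
      (himg ▸ Finset.mem_filter.2 ⟨Finset.mem_univ t, ht, fun e => hO ((hb t ht).2 e)⟩ :
        t ∈ Finset.univ.image f)
    refine ⟨a, ?_⟩
    fin_cases r
    exacts [Or.inl e, Or.inr e]
  constructor
  · intro v hv
    obtain ⟨hfi, hv0, hvz, hw0, hwz, hw, hvk⟩ := flag_pl i k v hik hv
    have hnO : ¬ Orb X v := fun e => hk ((h.orb_line hv).1 e)
    have no_flip : ∀ d ∈ D, d v ≠ vadd v vz := by
      intro d hd e
      have e1 := hD.inverts h hk hd
      have e2 : d⁻¹ v = vadd v vz := by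
        rw [← e1, Equiv.Perm.mul_apply, Equiv.Perm.mul_apply, pf_apply, pf_apply, hvk, e]
        have key : ∀ k v, act (flag k) v = v → act (flag k) (vadd v vz) = vadd v vz := by decide
        exact key k v hvk
      have e3 : d (vadd v vz) = v := by rw [← e2]; exact d.apply_symm_apply v
      rw [h.add d (hD.le hd), e] at e3
      have key : ∀ v a : Vec, vadd (vadd v vz) a = v → a = vz := by decide
      have e4 := hD.stab d hd (key _ _ e3)
      rw [e4] at e
      have key2 : ∀ v : Vec, v ≠ vadd v vz := by decide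
      exact key2 v e
    let St : Subgroup PV := D ⊓ MulAction.stabilizer PV v
    let f : Fin 3 × St → D := fun x => ⟨c ^ (x.1 : ℕ) * x.2.1, mul_mem (pow_mem hc _) x.2.2.1⟩
    have hf : Function.Bijective f := by
      constructor
      · rintro ⟨a, s⟩ ⟨a', s'⟩ e
        have e' : c ^ (a : ℕ) * s.1 = c ^ (a' : ℕ) * s'.1 := congrArg Subtype.val e
        have e1 : ((c ^ (a' : ℕ))⁻¹ * c ^ (a : ℕ)) v = v := by
          have hs : s.1 v = v := s.2.2
          have hs' : s'.1 v = v := s'.2.2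
          have e2 : (c ^ (a : ℕ)) v = (c ^ (a' : ℕ)) v := by
            have := congrArg (fun g : PV => g v) e'
            simpa [hs, hs'] using this
          rw [Equiv.Perm.mul_apply, e2]
          exact (c ^ (a' : ℕ)).symm_apply_apply _
        have hd : (c ^ (a' : ℕ))⁻¹ * c ^ (a : ℕ) ∈ D := mul_mem (inv_mem (pow_mem hc _)) (pow_mem hc _)
        have e2 := hD.stab _ hd (h.comm_move (hD.le hd) ((hci.pow_left _).inv_left.mul_left (hci.pow_left _))
          hfi hfi e1)
        have e3 := pow_fin3 hc3 hc1 (inv_mul_eq_one.1 e2).symm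
        subst e3
        rw [Subtype.ext (mul_left_cancel e')]
      · rintro ⟨d, hd⟩
        obtain ⟨a, e⟩ := key v hv (d v) (h.apply_ne_zero (hD.le hd) hv0)
          (fun e => hnO ((h.orb_apply (hD.le hd)).1 e))
        have hd' : (c ^ (a : ℕ))⁻¹ * d ∈ D := mul_mem (inv_mem (pow_mem hc _)) hd
        rcases e with e | e
        · refine ⟨(a, ⟨(c ^ (a : ℕ))⁻¹ * d, hd', ?_⟩), Subtype.ext (mul_inv_cancel_left _ _)⟩
          show ((c ^ (a : ℕ))⁻¹ * d) v = v
          rw [Equiv.Perm.mul_apply, ← e]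
          exact (c ^ (a : ℕ)).symm_apply_apply _
        · refine absurd ?_ (no_flip _ hd')
          rw [Equiv.Perm.mul_apply, ← e]
          exact (c ^ (a : ℕ)).symm_apply_apply _
    have hcard := Nat.card_eq_of_bijective f hf
    rw [Nat.card_prod, Nat.card_fin, h9] at hcard
    have hSt : Nat.card St = 3 := by omega
    obtain ⟨d, hd1⟩ : ∃ d : St, d ≠ 1 := by
      haveI : Nontrivial St := Finite.one_lt_card_iff_nontrivial.1 (by rw [hSt]; norm_num)
      exact exists_ne 1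
    refine ⟨d, ⟨hD.le d.2.1, d.2.2, ?_, fun e => hd1 (Subtype.ext e), ?_, ?_⟩⟩
    · have e : d ^ 3 = 1 := hSt ▸ pow_card_eq_one'
      exact congrArg Subtype.val e
    · rw [hD.inverts h hk d.2.1, inv_mul_cancel]
    · intro n hn hnv
      obtain ⟨e, he, w, hw', rfl⟩ := hD.dec n hn
      have hwv : w v = v := by
        rcases hw' with rfl | ⟨m, rfl⟩
        · rfl
        by_cases hm : m = k
        · exact hm ▸ hvk
        refine absurd ?_ (no_flip _ (inv_mem he))
        show e⁻¹ v = vadd v vz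
        refine Equiv.Perm.inv_eq_iff_eq.2 ?_
        rw [← (flag_pl m k v (Ne.symm hm) hv).1]
        exact hnv.symm
      have hev : e v = v := by
        have : e (w v) = v := hnv
        rwa [hwv] at this
      obtain ⟨a, ha⟩ := mem_powers_of_prime_card hSt hd1 (g' := ⟨e, he, hev⟩)
      refine ⟨a, w, ?_, ?_⟩
      · rcases hw' with rfl | ⟨m, rfl⟩
        · exact Or.inl rfl
        refine Or.inr ?_
        by_contra hne
        have hm : m ≠ k := fun e => hne (e ▸ rfl)
        have hflag := (flag_pl m k v (Ne.symm hm) hv).1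
        rw [show act (flag m) v = v from hwv] at hflag
        have key2 : ∀ v : Vec, v ≠ vadd v vz := by decide
        exact key2 v hflag
      · have : (d : PV) ^ a = e := congrArg Subtype.val ha
        rw [this]
  · intro t ht hO
    obtain ⟨a, e⟩ := key (pl k) (Or.inl rfl) t ht hO
    rcases e with e | e
    · exact ⟨c ^ (a : ℕ), hD.le (pow_mem hc _), e⟩
    · refine ⟨c ^ (a : ℕ) * pf i, mul_mem (hD.le (pow_mem hc _)) (h.flags i), ?_⟩
      rw [Equiv.Perm.mul_apply, pf_apply, (flag_pl i k _ hik (Or.inl rfl)).1]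
      exact e

omit hD in
/-- The orbits when no element rotates the flags. -/
theorem Auto.noRot_cases (hR : ¬ RotX X) (hmove : ∃ v, v ≠ vz ∧ Orb X v) :
    (∃ i, (∀ v, v ≠ v0 → (Orb X v ↔ v ∈ lineV i)) ∧
      (∀ t, t ≠ v0 → ¬ Orb X t → ∀ n ∈ X, n t = t → n * n = 1) ∧
      ∀ t, t ≠ v0 → ¬ Orb X t → ∃ m, m ≠ i ∧ ∃ g ∈ X, g (pl m) = t) ∨
    ∃ k b, (∀ v, v ≠ v0 → (Orb X v ↔ ((∃ m, m ≠ k ∧ act (flag m) v = v) ∨ (offH v = true ∧ singular v = b)))) ∧
      (∀ v, v = pl k ∨ v = vadd (pl k) vz → ∃ d, StabX X k v d) ∧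
      ∀ t, t ≠ v0 → ¬ Orb X t → ∃ g ∈ X, g (pl k) = t := by
  obtain ⟨D, hD⟩ := h.exists_compl hR
  by_cases htwo : ∃ i j, i ≠ j ∧ Orb X (pl i) ∧ Orb X (pl j)
  · obtain ⟨i, j, hij, hi, hj⟩ := htwo
    obtain ⟨h9, k, b, hki, -, hk, hb⟩ := hD.two_lines h hij hi hj
    exact Or.inr ⟨k, b, hb, (hD.two_lines_stab h hki hi hk h9 hb).1, (hD.two_lines_stab h hki hi hk h9 hb).2⟩
  push Not at htwo
  by_cases hone : ∃ i, Orb X (pl i)
  · obtain ⟨i, hi⟩ := hone
    obtain ⟨hjk, hji, hki, hne⟩ := flags_next i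
    have hj := htwo i (i + 1) (Ne.symm hji) hi
    have hk := htwo i (i + 2) (Ne.symm hki) hi
    exact Or.inl ⟨i, (hD.one_line h hjk hi hj hk).1, (hD.one_line h hjk hi hj hk).2,
      hD.one_line_trans h hjk hji hki hne hi hj hk⟩
  push Not at hone
  exfalso
  obtain ⟨v, hv, hO⟩ := hmove
  obtain ⟨d, hd, rfl⟩ := (hD.orb_iff h).1 hO
  refine hv ?_
  rw [hD.two_torsion h hd (d := d) ?_]
  · rfl
  have e2 : pf 2 * d * pf 2 = pf 0 * (pf 1 * d * pf 1) * pf 0 := by
    rw [show pf 2 = pf 0 * pf 1 from ((pf_mul 0).1).symm]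
    nth_rewrite 2 [show pf 0 * pf 1 = pf 1 * pf 0 from pf_comm _ _]
    simp only [mul_assoc]
  rw [hD.inverts h (hone 1) hd, hD.inverts h (hone 0) (inv_mem hd), hD.inverts h (hone 2) hd, inv_inv] at e2
  rw [pow_two]
  nth_rewrite 1 [← e2]
  exact inv_mul_cancel d

end CfsgLib.AEightSyl
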