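import Cfsg.Agent.Lib.AEightSyl.AutoRot
import Cfsg.Agent.Lib.AEightSyl.AutoTwo

/-!
# S2918, piece B: with a rotation, five vectors in the orbit and ten outside
-/

set_option autoImplicit false
set_option linter.style.haveILetI false
set_option linter.unusedSimpArgs false
set_option linter.unusedSectionVars false
set_option synthInstance.maxSize 4000

namespace CfsgLib.AEightSyl

open Subgroup

theorem card_Vs : Nat.card Vs = 4 := by
  have hne : ∀ i j, (![1, pf 0, pf 1, pf 2] : Fin 4 → PV) i = ![1, pf 0, pf 1, pf 2] j → i = j := by decide +kernel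
  let f : Fin 4 → Vs := ![1, ⟨pf 0, pf_mem_Vs 0⟩, ⟨pf 1, pf_mem_Vs 1⟩, ⟨pf 2, pf_mem_Vs 2⟩]
  have hval : ∀ i, (f i : PV) = ![1, pf 0, pf 1, pf 2] i := by intro i; fin_cases i <;> rfl
  rw [← Nat.card_eq_of_bijective f ⟨fun i j e => hne i j (by rw [← hval, ← hval, e]), ?_⟩, Nat.card_fin]
  rintro ⟨g, hg⟩
  rcases hg with rfl | ⟨i, rfl⟩
  · exact ⟨0, rfl⟩
  · fin_cases i
    exacts [⟨1, rfl⟩, ⟨2, rfl⟩, ⟨3, rfl⟩]

/-- Orbit and stabiliser. -/
theorem orbit_stab (X : Subgroup PV) (v : Vec) :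
    Nat.card X = Nat.card {w // ∃ g ∈ X, g v = w} * Nat.card ↥(X ⊓ MulAction.stabilizer PV v) := by
  classical
  rw [← (MulAction.stabilizer X v).card_mul_index, MulAction.index_stabilizer, mul_comm]
  congr 1
  · rw [← Nat.card_coe_set_eq]
    refine Nat.card_congr (Equiv.subtypeEquivRight fun w => ?_)
    exact ⟨fun ⟨g, e⟩ => ⟨g.1, g.2, e⟩, fun ⟨g, hg, e⟩ => ⟨⟨g, hg⟩, e⟩⟩
  · exact Nat.card_congr ⟨fun g => ⟨g.1.1, g.1.2, g.2⟩, fun g => ⟨⟨g.1, g.2.1⟩, g.2.2⟩,
      fun g => rfl, fun g => rfl⟩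

variable {X : Subgroup PV} (h : Auto X)
include h

theorem Auto.card_Y {ρ : PV} (hρY : ρ ∈ StY X) (hρ : ∀ i, ρ * pf i * ρ⁻¹ = pf (i + 1)) :
    Nat.card ↥(StY X) = 12 := by
  let f : Fin 3 × Vs → StY X := fun x =>
    ⟨ρ ^ (x.1 : ℕ) * x.2.1, mul_mem (pow_mem hρY _) (h.Vs_le_Y x.2.2)⟩
  have hc : ∀ (a : Fin 3), ρ ^ (a : ℕ) * pf 0 * (ρ ^ (a : ℕ))⁻¹ = pf a := by
    intro a; fin_cases a
    · simp
    · simpa using hρ 0
    · calc ρ ^ 2 * pf 0 * (ρ ^ 2)⁻¹ = ρ * (ρ * pf 0 * ρ⁻¹) * ρ⁻¹ := by rw [pow_two]; group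
        _ = _ := by rw [hρ, hρ]; rfl
  rw [← Nat.card_eq_of_bijective f ⟨?_, ?_⟩, Nat.card_prod, Nat.card_fin, card_Vs]
  · rintro ⟨a, v⟩ ⟨b, w⟩ e
    have e' : ρ ^ (a : ℕ) * v.1 = ρ ^ (b : ℕ) * w.1 := congrArg Subtype.val e
    have hv : ∀ u : Vs, u.1 * pf 0 * u.1⁻¹ = pf 0 := fun u => by
      rw [Vs_comm u.2 (pf_mem_Vs 0), mul_assoc, mul_inv_cancel, mul_one]
    have e1 : pf a = pf b := by
      calc pf a = ρ ^ (a : ℕ) * (v.1 * pf 0 * v.1⁻¹) * (ρ ^ (a : ℕ))⁻¹ := by rw [hv, hc]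
        _ = (ρ ^ (a : ℕ) * v.1) * pf 0 * (ρ ^ (a : ℕ) * v.1)⁻¹ := by group
        _ = ρ ^ (b : ℕ) * (w.1 * pf 0 * w.1⁻¹) * (ρ ^ (b : ℕ))⁻¹ := by rw [e']; group
        _ = pf b := by rw [hv, hc]
    obtain rfl := pf_inj a b e1
    rw [Subtype.ext (mul_left_cancel e')]
  · rintro ⟨n, hn⟩
    have key : ∀ a : Fin 3, (∀ i, n * pf i * n⁻¹ = pf (i + a)) → ∃ x, f x = ⟨n, hn⟩ := by
      intro a ha
      have hm : (ρ ^ (a : ℕ))⁻¹ * n ∈ StY X := mul_mem (inv_mem (pow_mem hρY _)) hn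
      have hV : (ρ ^ (a : ℕ))⁻¹ * n ∈ Vs := by
        refine h.cent_flag hm (i := 0) ?_
        show (ρ ^ (a : ℕ))⁻¹ * n * pf 0 = pf 0 * ((ρ ^ (a : ℕ))⁻¹ * n)
        calc (ρ ^ (a : ℕ))⁻¹ * n * pf 0 = (ρ ^ (a : ℕ))⁻¹ * (n * pf 0 * n⁻¹) * n := by group
          _ = (ρ ^ (a : ℕ))⁻¹ * (ρ ^ (a : ℕ) * pf 0 * (ρ ^ (a : ℕ))⁻¹) * n := by rw [ha, hc, zero_add]
          _ = pf 0 * ((ρ ^ (a : ℕ))⁻¹ * n) := by group
      exact ⟨(a, ⟨_, hV⟩), Subtype.ext (mul_inv_cancel_left _ _)⟩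
    rcases h.perm_cases hn with h1 | h1 | h1
    · exact ⟨(0, ⟨n, h1⟩), Subtype.ext (by simp [f])⟩
    · exact key 1 h1
    · exact key 2 h1

/-- A vector off the hyperplane in the orbit moves some line off the hyperplane. -/
theorem Auto.move_off {w : Vec} (hw : Orb X w) (ho : offH w = true)
    (hg : ∀ g ∈ X, offH (g (pl 0)) = false ∧ offH (g (vadd (pl 0) vz)) = false) : False := by
  obtain ⟨g, hgX, rfl⟩ := hw
  have e : g vz = vadd (g (pl 0)) (g (vadd (pl 0) vz)) := by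
    rw [← h.add g hgX]
    have key : vadd (pl 0) (vadd (pl 0) vz) = vz := by decide
    rw [key]
  rw [e, offH_vadd, (hg g hgX).1, (hg g hgX).2] at ho
  exact Bool.false_ne_true ho

/-- The orbits when an element rotates the flags. -/
theorem Auto.five (hR : RotX X) (hmove : ∃ v, v ≠ vz ∧ Orb X v) :
    ∃ b, (∀ v, v ≠ v0 → (Orb X v ↔ (v = vz ∨ (offH v = true ∧ singular v = b)))) ∧
      (∀ k v, v = pl k ∨ v = vadd (pl k) vz → ∃ d, StabX X k v d ∧ ∃ f, Orb X f ∧ d f = f) ∧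
      (∀ k t, t ≠ v0 → ¬ Orb X t → ∃ g ∈ X, g (pl k) = t) ∧ Nat.card X = 60 := by
  classical
  have hnl := h.no_line hR
  obtain ⟨ρ, hρY, hρ⟩ := hR
  have hH : ∀ v, v ≠ v0 → Orb X v → v = vz ∨ offH v = true := by
    intro v hv hO
    rcases vec_cases v hv with e | ⟨i, e⟩ | e
    exacts [Or.inl e, absurd ((h.orb_line e).1 hO) (hnl i), Or.inr e]
  obtain ⟨b, hb⟩ : ∃ b, Orb X (orep b) := by
    obtain ⟨v, hv, hO⟩ := hmove
    rcases hH v (h.orb_ne_zero hO) hO with e | e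
    · exact absurd e hv
    · exact ⟨singular v, (h.orb_off e).1 hO⟩
  have hnb : ¬ Orb X (orep (!b)) := by
    intro hnb
    refine h.move_off hb (orep_spec b).1 fun g hg => ⟨?_, ?_⟩
    all_goals
      by_contra hcon
      rw [Bool.not_eq_false] at hcon
      have hO := (h.orb_off hcon).2 (by
        rcases Bool.eq_false_or_eq_true (singular (g _)) with e | e <;> rw [e] <;> cases b <;> assumption)
      rw [h.orb_apply hg] at hO
    · exact hnl 0 hO
    · exact hnl 0 ((h.orb_line (Or.inr rfl)).1 hO)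
  have hz : ∀ v, v ≠ v0 → (Orb X v ↔ (v = vz ∨ (offH v = true ∧ singular v = b))) := by
    intro v hv
    constructor
    · intro hO
      rcases hH v hv hO with e | e
      · exact Or.inl e
      · refine Or.inr ⟨e, ?_⟩
        have h1 := (h.orb_off e).1 hO
        by_contra hne
        rw [Bool.eq_not_of_ne hne] at h1
        exact hnb h1
    · rintro (rfl | ⟨e1, e2⟩)
      · exact h.orb_z
      · exact (h.orb_off e1).2 (e2 ▸ hb)
  have hcard5 : Nat.card {w // ∃ g ∈ X, g vz = w} = 5 := by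
    have e : ∀ w, (∃ g ∈ X, g vz = w) ↔ (w ≠ v0 ∧ (w = vz ∨ (offH w = true ∧ singular w = b))) :=
      fun w => ⟨fun hw => ⟨h.orb_ne_zero hw, (hz w (h.orb_ne_zero hw)).1 hw⟩, fun ⟨h1, h2⟩ => (hz w h1).2 h2⟩
    rw [Nat.card_congr (Equiv.subtypeEquivRight e), Nat.card_eq_fintype_card]
    have key : ∀ b, Fintype.card {w : Vec // w ≠ v0 ∧ (w = vz ∨ (offH w = true ∧ singular w = b))} = 5 := by
      decide +kernel
    exact key b
  have h60 : Nat.card X = 60 := by rw [orbit_stab X vz, hcard5, h.card_Y hρY hρ]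
  have hten : ∀ k t, t ≠ v0 → ¬ Orb X t → ∃ g ∈ X, g (pl k) = t := by
    intro k t ht hO
    have step : ∀ i, ∃ g ∈ X, g (pl i) = pl (i + 1) := by
      intro i
      rcases h.rot_line hρY hρ i with e | e
      · exact ⟨ρ, hρY.1, e⟩
      · refine ⟨pf (i + 1 + 1) * ρ, mul_mem (h.flags _) hρY.1, ?_⟩
        rw [Equiv.Perm.mul_apply, e, pf_apply]
        have key : ∀ i, act (flag (i + 1 + 1)) (vadd (pl (i + 1)) vz) = pl (i + 1) := by decide
        exact key i
    have hlines : ∀ m, ∃ g ∈ X, g (pl k) = pl m := by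
      obtain ⟨g1, hg1, e1⟩ := step k
      obtain ⟨g2, hg2, e2⟩ := step (k + 1)
      have key : ∀ k m : Fin 3, m = k ∨ m = k + 1 ∨ m = k + 1 + 1 := by decide
      intro m
      rcases key k m with rfl | rfl | rfl
      exacts [⟨1, X.one_mem, rfl⟩, ⟨g1, hg1, e1⟩, ⟨g2 * g1, mul_mem hg2 hg1, by rw [Equiv.Perm.mul_apply, e1, e2]⟩]
    rcases vec_cases t ht with rfl | ⟨m, e⟩ | e
    · exact absurd h.orb_z hO
    · obtain ⟨g, hg, e1⟩ := hlines m
      rcases e with rfl | rfl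
      · exact ⟨g, hg, e1⟩
      · exact ⟨pf (m + 1) * g, mul_mem (h.flags _) hg, by
          rw [Equiv.Perm.mul_apply, e1, pf_apply, (pl_spec m).2.2.2]⟩
    · obtain ⟨g, hg, hoff⟩ : ∃ g ∈ X, offH (g (pl k)) = true := by
        by_contra hcon
        push Not at hcon
        obtain ⟨g0, hg0, e0⟩ := hlines 0
        refine h.move_off hb (orep_spec b).1 fun g hg => ⟨?_, ?_⟩
        · have h1 := hcon (g * g0) (mul_mem hg hg0)
          rw [Equiv.Perm.mul_apply, e0] at h1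
          simpa using h1
        · have h1 := hcon (g * (pf 1 * g0)) (mul_mem hg (mul_mem (h.flags _) hg0))
          rw [Equiv.Perm.mul_apply, Equiv.Perm.mul_apply, e0, pf_apply,
            show act (flag 1) (pl 0) = vadd (pl 0) vz from (pl_spec 0).2.2.2] at h1
          simpa using h1
      have hnO : ¬ Orb X (g (pl k)) := fun hh => hnl k ((h.orb_apply hg).1 hh)
      have hs : singular (g (pl k)) = singular t := by
        have hne1 : singular (g (pl k)) ≠ b := fun hh => hnO ((h.orb_off hoff).2 (hh ▸ hb))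
        have hne2 : singular t ≠ b := fun hh => hO ((h.orb_off e).2 (hh ▸ hb))
        rw [Bool.eq_not_of_ne hne1, Bool.eq_not_of_ne hne2]
      rcases off_orbit _ _ hoff e hs with e1 | ⟨i, e1⟩
      · exact ⟨g, hg, e1⟩
      · exact ⟨pf i * g, mul_mem (h.flags i) hg, e1⟩
  refine ⟨b, hz, fun k v hv => ?_, hten, h60⟩
  obtain ⟨-, hv0, hvz, -, -, -, hvk⟩ := flag_pl (k + 1) k v (by fin_cases k <;> decide) hv
  have hnO : ¬ Orb X v := fun e => hnl k ((h.orb_line hv).1 e)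
  obtain ⟨St, hSt⟩ : ∃ St : Subgroup PV, St = X ⊓ MulAction.stabilizer PV v := ⟨_, rfl⟩
  have h10 : Nat.card {w // ∃ g ∈ X, g v = w} = 10 := by
    have e : ∀ w, (∃ g ∈ X, g v = w) ↔ (w ≠ v0 ∧ ¬ (w = vz ∨ (offH w = true ∧ singular w = b))) := by
      intro w
      constructor
      · rintro ⟨g, hg, rfl⟩
        have hne := h.apply_ne_zero hg hv0
        exact ⟨hne, fun hh => hnO ((h.orb_apply hg).1 ((hz _ hne).2 hh))⟩
      · rintro ⟨hw0, hw⟩
        obtain ⟨g, hg, e⟩ := hten k w hw0 (fun hh => hw ((hz w hw0).1 hh))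
        rcases hv with rfl | rfl
        · exact ⟨g, hg, e⟩
        · refine ⟨g * pf (k + 1), mul_mem hg (h.flags _), ?_⟩
          rw [Equiv.Perm.mul_apply, pf_apply]
          have key : ∀ k, act (flag (k + 1)) (vadd (pl k) vz) = pl k := by decide
          rw [key, e]
    rw [Nat.card_congr (Equiv.subtypeEquivRight e), Nat.card_eq_fintype_card]
    have key : ∀ b, Fintype.card {w : Vec // w ≠ v0 ∧ ¬ (w = vz ∨ (offH w = true ∧ singular w = b))} = 10 := by
      decide +kernel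
    exact key b
  have h6 : Nat.card St = 6 := by
    have := orbit_stab X v
    rw [h60, h10, ← hSt] at this
    omega
  have hkSt : pf k ∈ St := hSt ▸ ⟨h.flags k, hvk⟩
  haveI : Fact (Nat.Prime 3) := ⟨Nat.prime_three⟩
  obtain ⟨d, hd⟩ := exists_prime_orderOf_dvd_card' (G := St) 3 (by rw [h6]; norm_num)
  have hd' : (d : PV) ∈ X ∧ (d : PV) v = v := by
    exact (le_of_eq hSt) d.2
  have hd3 : (d : PV) ^ 3 = 1 := by
    have e : d ^ 3 = 1 := hd ▸ pow_orderOf_eq_one d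
    exact congrArg Subtype.val e
  have hd1 : (d : PV) ≠ 1 := fun e => by
    have : d = 1 := Subtype.ext e
    rw [this, orderOf_one] at hd; omega
  have hidx : (zpowers d).index = 2 := by
    have := (zpowers d).card_mul_index
    rw [Nat.card_zpowers, hd, h6] at this; omega
  let pk : St := ⟨pf k, hkSt⟩
  have hpk : pk ∉ zpowers d := by
    intro hh
    have h1 : orderOf pk ∣ 3 := hd ▸ orderOf_dvd_of_mem_zpowers hh
    have h2 : orderOf pk = 2 := by
      refine orderOf_eq_prime (hp := ⟨Nat.prime_two⟩) (Subtype.ext ?_) fun e => pf_ne_one k (congrArg Subtype.val e)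
      show pf k ^ 2 = 1
      rw [pow_two, pf_mul_self]
    rw [h2] at h1; norm_num at h1
  have hnorm : (zpowers d).Normal := normal_of_index_eq_two hidx
  have hpow : ∀ x ∈ zpowers d, ∃ a : ℕ, a < 3 ∧ d ^ a = x := by
    intro x hx
    obtain ⟨a, rfl⟩ := (mem_powers_iff_mem_zpowers (x := d)).2 hx
    exact ⟨a % 3, Nat.mod_lt _ (by norm_num), by
      show d ^ (a % 3) = d ^ a
      rw [← hd, pow_mod_orderOf]⟩
  have hinv : pf k * d * pf k * d = 1 := by
    obtain ⟨a, ha3, ha⟩ := hpow (pk * d * pk⁻¹) (hnorm.conj_mem d (mem_zpowers d) pk)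
    have e : (d : PV) ^ a = pf k * d * pf k := by
      have := congrArg Subtype.val ha
      simpa [pk, pf_inv] using this
    interval_cases a
    · exfalso; apply hd1
      rw [pow_zero] at e
      calc (d : PV) = pf k * (pf k * d * pf k) * pf k := by
            simp only [← mul_assoc]; rw [pf_mul_self, one_mul, mul_assoc, pf_mul_self, mul_one]
        _ = 1 := by rw [← e, mul_one, pf_mul_self]
    · exfalso; apply hd1
      rw [pow_one] at e
      have hc : Commute (d : PV) (pf k) := by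
        show _ * pf k = pf k * _
        nth_rewrite 1 [e]
        rw [mul_assoc _ (pf k) (pf k), pf_mul_self, mul_one]
      obtain ⟨h1, h2⟩ := h.comm_line hd'.1 hc
      rcases line_cases k _ h1 with e1 | e1 | e1 | e1
      · exact absurd e1 h2
      · exact h.star hd'.1 hc e1 (by
          have : orderOf (d : PV) = 3 := by rw [Subgroup.orderOf_coe, hd]
          rw [this]; decide)
      · exact absurd ⟨d, hd'.1, e1⟩ (hnl k)
      · exact absurd ((h.orb_line (Or.inr e1)).1 ⟨d, hd'.1, rfl⟩) (hnl k)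
    · rw [← e, ← pow_succ]; exact hd3
  refine ⟨d, ⟨hd'.1, hd'.2, hd3, hd1, hinv, ?_⟩, ?_⟩
  · intro n hn hnv
    have hnSt : n ∈ St := hSt ▸ ⟨hn, hnv⟩
    by_cases hm : (⟨n, hnSt⟩ : St) ∈ zpowers d
    · obtain ⟨a, -, ha⟩ := hpow _ hm
      exact ⟨a, 1, Or.inl rfl, by rw [mul_one]; exact (congrArg Subtype.val ha).symm⟩
    · have h1 : (⟨n, hnSt⟩ : St) * pk ∈ zpowers d :=
        (mul_mem_iff_of_index_two hidx).2 ⟨fun hh => absurd hh hm, fun hh => absurd hh hpk⟩
      obtain ⟨a, -, ha⟩ := hpow _ h1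
      refine ⟨a, pf k, Or.inr rfl, ?_⟩
      have e : (d : PV) ^ a = n * pf k := congrArg Subtype.val ha
      rw [e, mul_assoc, pf_mul_self, mul_one]
  · have hiff : ∀ w, Orb X ((d : PV) w) ↔ Orb X w := fun w => h.orb_apply hd'.1
    obtain ⟨f, hf⟩ := Equiv.Perm.exists_fixed_point_of_prime (p := 3) (n := 1)
      (σ := Equiv.Perm.subtypePerm (d : PV) hiff)
      (by rw [← Nat.card_eq_fintype_card, show Nat.card {w // Orb X w} = 5 from hcard5]; norm_num)
      (Equiv.ext fun w => Subtype.ext (by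
        show (d : PV) ((d : PV) ((d : PV) w.1)) = w.1
        exact congrArg (fun g : PV => g w.1) hd3))
    exact ⟨f.1, f.2, congrArg Subtype.val hf⟩

end CfsgLib.AEightSyl
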