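import Cfsg.Agent.Lib.AEightSyl.AutoDefs

/-!
# S2918, piece B: the orbit when the stabiliser is the four-group

The permutation group is then an odd normal subgroup extended by the flags, of order three or nine.
-/

set_option autoImplicit false
set_option linter.style.haveILetI false
set_option linter.unusedSimpArgs false
set_option linter.unusedSectionVars false
set_option synthInstance.maxSize 4000

namespace CfsgLib.AEightSyl

open Subgroup

/-- An element of order three generating with a flag the stabiliser of a vector. -/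
structure StabX (X : Subgroup PV) (k : Fin 3) (v : Vec) (d : PV) : Prop where
  mem : d ∈ X
  fix : d v = v
  cube : d ^ 3 = 1
  ne : d ≠ 1
  inv : pf k * d * pf k * d = 1
  all : ∀ n ∈ X, n v = v → ∃ i : ℕ, ∃ e, (e = 1 ∨ e = pf k) ∧ n = d ^ i * e

/-- The odd normal complement of the flags. -/
structure Compl (X D : Subgroup PV) : Prop where
  le : D ≤ X
  norm : ∀ i, ∀ d ∈ D, pf i * d * pf i ∈ D
  odd : Odd (Nat.card D)
  stab : ∀ d ∈ D, d vz = vz → d = 1
  dec : ∀ g ∈ X, ∃ d ∈ D, ∃ v ∈ Vs, g = d * v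

theorem compl_dec {G : Type*} [Group G] {K H : Subgroup G} (hc : Subgroup.IsComplement' K H) (g : G) :
    ∃ k ∈ K, ∃ h ∈ H, g = k * h := by
  obtain ⟨⟨a, b⟩, e, -⟩ := Subgroup.IsComplement.existsUnique hc g
  exact ⟨a, a.2, b, b.2, e.symm⟩

theorem three_flags : ∀ i j k : Fin 3, pf j * pf k = pf i → ∀ m, m = i ∨ m = j ∨ m = k := by decide +kernel

variable {X D : Subgroup PV} (h : Auto X)
include h

/-- Burnside. -/
theorem Auto.exists_compl (hR : ¬ RotX X) : ∃ D, Compl X D := by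
  classical
  haveI : Fact (Nat.Prime 2) := ⟨Nat.prime_two⟩
  have hV : IsPGroup 2 (Vs.subgroupOf X) := by
    rintro ⟨⟨x, hx⟩, hx'⟩
    refine ⟨1, Subtype.ext (Subtype.ext ?_)⟩
    show x ^ 2 = 1
    rw [pow_two]; exact Vs_sq hx'
  let P : Sylow 2 X := hV.toSylow h.sylow
  have hP : Subgroup.normalizer ((P : Subgroup X) : Set X) ≤ Subgroup.centralizer ((P : Subgroup X) : Set X) := by
    intro n hn
    have hnz : n.1 vz = vz := by
      refine only_z _ (h.apply_ne_zero n.2 vz_ne) fun i => ?_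
      have h1 := (Subgroup.mem_normalizer_iff.1 (inv_mem hn) ⟨pf i, h.flags i⟩).1 (pf_mem_Vs i)
      have h2 : (n : PV)⁻¹ * pf i * (n : PV) ∈ Vs := by
        have h3 : ((n⁻¹ * (⟨pf i, h.flags i⟩ : X) * (n⁻¹)⁻¹ : X) : PV) ∈ Vs := h1
        simpa using h3
      have h4 := Vs_fix_z h2
      show pf i (n.1 vz) = n.1 vz
      have h5 : (n : PV)⁻¹ (pf i (n.1 vz)) = vz := h4
      exact Equiv.Perm.inv_eq_iff_eq.1 h5
    have hnV := h.not_rot (h.mem_Y n.2 hnz) hR
    rw [Subgroup.mem_centralizer_iff]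
    intro x hx
    exact Subtype.ext (Vs_comm (show x.1 ∈ Vs from hx) hnV)
  obtain ⟨K, hc, hodd, hKn⟩ : ∃ K : Subgroup X, Subgroup.IsComplement' K (P : Subgroup X) ∧
      ¬ 2 ∣ Nat.card K ∧ K.Normal :=
    ⟨_, MonoidHom.ker_transferSylow_isComplement' P hP, MonoidHom.not_dvd_card_ker_transferSylow P hP,
      MonoidHom.normal_ker _⟩
  refine ⟨K.map X.subtype, map_subtype_le _, ?_, ?_, ?_, ?_⟩
  · rintro i _ ⟨d, hd, rfl⟩
    exact ⟨⟨pf i, h.flags i⟩ * d * (⟨pf i, h.flags i⟩ : X)⁻¹, hKn.conj_mem d hd _, by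
      simp [pf_inv]⟩
  · rw [Subgroup.card_map_of_injective X.subtype_injective]
    exact Nat.not_even_iff_odd.1 fun e => hodd (even_iff_two_dvd.1 e)
  · rintro _ ⟨d, hd, rfl⟩ hdz
    have hdV := h.not_rot (h.mem_Y d.2 hdz) hR
    have : d ∈ K ⊓ (P : Subgroup X) := ⟨hd, hdV⟩
    rw [hc.disjoint.eq_bot, mem_bot] at this
    rw [this]; rfl
  · intro g hg
    obtain ⟨d, hd, v, hv, e⟩ := compl_dec hc ⟨g, hg⟩
    exact ⟨d, Subgroup.mem_map_of_mem X.subtype hd, v, hv, congrArg Subtype.val e⟩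

variable (hD : Compl X D)
include hD

theorem Compl.odd_order {d : PV} (hd : d ∈ D) : Odd (orderOf d) :=
  hD.odd.of_dvd_nat (by rw [← Subgroup.orderOf_mk d hd]; exact orderOf_dvd_natCard _)

theorem Compl.inj {d e : PV} (hd : d ∈ D) (he : e ∈ D) (hz : d vz = e vz) : d = e := by
  refine inv_mul_eq_one.1 (hD.stab _ (mul_mem (inv_mem hd) he) ?_)
  show d⁻¹ (e vz) = vz
  rw [← hz]; exact d.symm_apply_apply vz

theorem Compl.orb_iff {v : Vec} : Orb X v ↔ ∃ d ∈ D, d vz = v := by
  refine ⟨?_, fun ⟨d, hd, e⟩ => ⟨d, hD.le hd, e⟩⟩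
  rintro ⟨g, hg, rfl⟩
  obtain ⟨d, hd, w, hw, rfl⟩ := hD.dec g hg
  exact ⟨d, hd, (congrArg d (Vs_fix_z hw)).symm⟩

theorem Compl.two_torsion {d : PV} (hd : d ∈ D) (h2 : d ^ 2 = 1) : d = 1 :=
  orderOf_eq_one_iff.1
    (Nat.eq_one_of_dvd_coprimes (Nat.coprime_two_right.2 (hD.odd_order h hd)) dvd_rfl (orderOf_dvd_of_pow_eq_one h2))

/-- A flag centralising nothing inverts. -/
theorem Compl.inverts {i : Fin 3} (hi : ¬ Orb X (pl i)) {d : PV} (hd : d ∈ D) : pf i * d * pf i = d⁻¹ := by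
  refine h.exists_inverted (fun e he => hD.odd_order h he) (hD.norm i) (fun e he hc => ?_) hd
  obtain ⟨h1, h2⟩ := h.comm_line (hD.le he) hc
  rcases line_cases i _ h1 with h3 | h3 | h3 | h3
  · exact absurd h3 h2
  · exact hD.stab e he h3
  · exact absurd ((h.orb_line (Or.inl h3)).1 ⟨e, hD.le he, rfl⟩) hi
  · exact absurd ((h.orb_line (Or.inr h3)).1 ⟨e, hD.le he, rfl⟩) hi

/-- The centraliser of a flag meeting the orbit. -/
theorem Compl.cent {i : Fin 3} (hi : Orb X (pl i)) :
    ∃ c ∈ D, Commute c (pf i) ∧ c ^ 3 = 1 ∧ c ≠ 1 ∧ (c vz = pl i ∨ c vz = vadd (pl i) vz) ∧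
      ((c ^ 2) vz = pl i ∨ (c ^ 2) vz = vadd (pl i) vz) ∧
      ∀ e ∈ D, Commute e (pf i) → e = 1 ∨ e = c ∨ e = c ^ 2 := by
  obtain ⟨c, hc, hcz⟩ := (hD.orb_iff h).1 hi
  have hci : Commute c (pf i) := by
    have h1 : pf i * c * pf i = c := hD.inj h (hD.norm i c hc) hc (by
      show act (flag i) (c (pf i vz)) = c vz
      rw [Vs_fix_z (pf_mem_Vs i), hcz]; exact (pl_spec i).1)
    calc c * pf i = pf i * c * pf i * pf i := by rw [h1]
      _ = pf i * c := by rw [mul_assoc _ (pf i) (pf i), pf_mul_self, mul_one]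
  have hc1 : c ≠ 1 := fun e => (pl_spec i).2.2.1 (by rw [← hcz, e]; rfl)
  have hc2 : c ^ 2 ≠ 1 := fun e => hc1 (hD.two_torsion h hc e)
  have vals : ∀ e ∈ D, Commute e (pf i) → e vz = vz ∨ e vz = pl i ∨ e vz = vadd (pl i) vz := by
    intro e he hei
    obtain ⟨h1, h2⟩ := h.comm_line (hD.le he) hei
    exact (line_cases i _ h1).resolve_left h2
  have hcc : (c ^ 2) vz = vadd (pl i) vz := by
    rcases vals _ (pow_mem hc 2) (hci.pow_left 2) with e | e | e
    · exact absurd (hD.stab _ (pow_mem hc 2) e) hc2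
    · exact absurd (hD.inj h (pow_mem hc 2) hc (e.trans hcz.symm)) (fun e2 => hc1 (by
        rwa [pow_two, mul_eq_left] at e2))
    · exact e
  have only : ∀ e ∈ D, Commute e (pf i) → e = 1 ∨ e = c ∨ e = c ^ 2 := by
    intro e he hei
    rcases vals e he hei with e1 | e1 | e1
    · exact Or.inl (hD.stab e he e1)
    · exact Or.inr (Or.inl (hD.inj h he hc (e1.trans hcz.symm)))
    · exact Or.inr (Or.inr (hD.inj h he (pow_mem hc 2) (e1.trans hcc.symm)))
  refine ⟨c, hc, hci, ?_, hc1, Or.inl hcz, Or.inr hcc, only⟩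
  rcases only _ (pow_mem hc 3) (hci.pow_left 3) with e | e | e
  · exact e
  · exfalso; apply hc2; rw [pow_succ', mul_eq_left] at e; exact e
  · exfalso; apply hc1; rw [pow_succ, mul_eq_left] at e; exact e

/-- One line. -/
theorem Compl.one_line {i j k : Fin 3} (hjk : pf j * pf k = pf i) (hi : Orb X (pl i)) (hj : ¬ Orb X (pl j))
    (hk : ¬ Orb X (pl k)) :
    (∀ v, v ≠ v0 → (Orb X v ↔ v ∈ lineV i)) ∧
      ∀ t, t ≠ v0 → ¬ Orb X t → ∀ n ∈ X, n t = t → n * n = 1 := by
  have hcomm : ∀ d ∈ D, pf i * d * pf i = d := by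
    intro d hd
    calc pf i * d * pf i = pf j * (pf k * d * pf k) * pf j := by
          rw [← hjk]
          nth_rewrite 2 [pf_comm j k]
          simp only [mul_assoc]
      _ = pf j * d⁻¹ * pf j := by rw [hD.inverts h hk hd]
      _ = d := by rw [hD.inverts h hj (inv_mem hd), inv_inv]
  obtain ⟨c, hc, -, -, hc1, hcz, hccz, only⟩ := hD.cent h hi
  have only' : ∀ d ∈ D, d = 1 ∨ d = c ∨ d = c ^ 2 := fun d hd => only d hd (by
    calc d * pf i = pf i * d * pf i * pf i := by rw [hcomm d hd]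
      _ = pf i * d := by rw [mul_assoc _ (pf i) (pf i), pf_mul_self, mul_one])
  constructor
  · intro v hv
    rw [mem_line_iff]
    constructor
    · intro hO
      obtain ⟨d, hd, rfl⟩ := (hD.orb_iff h).1 hO
      have hd' : Commute d (pf i) := by
        calc d * pf i = pf i * d * pf i * pf i := by rw [hcomm d hd]
          _ = pf i * d := by rw [mul_assoc _ (pf i) (pf i), pf_mul_self, mul_one]
      exact (h.comm_line (hD.le hd) hd').1
    · intro hl
      rcases line_cases i v hl with e | e | e | e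
      · exact absurd e hv
      · rw [e]; exact h.orb_z
      · rwa [h.orb_line (Or.inl e)]
      · rwa [h.orb_line (Or.inr e)]
  · intro t ht hO n hn hnt
    obtain ⟨d, hd, w, hw, rfl⟩ := hD.dec n hn
    have hsgn : ∀ m, pf m * d * pf m = d ∨ pf m * d * pf m = d⁻¹ := by
      intro m
      by_cases hm : Orb X (pl m)
      · have e : m = i := by
          rcases three_flags i j k hjk m with e | rfl | rfl
          exacts [e, absurd hm hj, absurd hm hk]
        exact Or.inl (e ▸ hcomm d hd)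
      · exact Or.inr (hD.inverts h hm hd)
    have hww : w * w = 1 := Vs_sq hw
    have hwd : w * d * w = d ∨ w * d * w = d⁻¹ := by
      rcases hw with rfl | ⟨m, rfl⟩
      · exact Or.inl (by simp)
      · exact hsgn m
    have e2 : (d * w) * (d * w) = d * (w * d * w) := by group
    rcases hwd with e | e
    · have hfix : (d * d) t = t := by
        have : ((d * w) * (d * w)) t = t := by rw [Equiv.Perm.mul_apply, hnt, hnt]
        rwa [e2, e] at this
      have hdd : ∀ m, pf m * (d * d) * pf m = d * d ∨ pf m * (d * d) * pf m = (d * d)⁻¹ := by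
        intro m
        have e3 : pf m * (d * d) * pf m = (pf m * d * pf m) * (pf m * d * pf m) := by
          calc pf m * (d * d) * pf m = pf m * d * (pf m * pf m) * d * pf m := by rw [pf_mul_self, mul_one]; group
            _ = _ := by group
        rcases hsgn m with e4 | e4 <;> rw [e3, e4]
        · exact Or.inl rfl
        · exact Or.inr (mul_inv_rev d d).symm
      rw [e2, e]
      exact hD.stab _ (mul_mem hd hd) (h.fix_z (hD.le (mul_mem hd hd)) hdd ht hfix)
    · rw [e2, e, mul_inv_cancel]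

omit hD in
theorem Auto.orb_card {v : Vec → Bool} (hO : ∀ w, Orb X w ↔ v w = true) (hC : Compl X D) :
    Nat.card D = (Finset.univ.filter fun w => v w = true).card := by
  rw [← Fintype.card_coe, ← Nat.card_eq_fintype_card]
  refine Nat.card_eq_of_bijective (fun d : D => ⟨(d : PV) vz, by simpa using (hO _).1 ⟨d, hC.le d.2, rfl⟩⟩) ⟨?_, ?_⟩
  · intro a b e
    exact Subtype.ext (hC.inj h a.2 b.2 (congrArg Subtype.val e))
  · rintro ⟨w, hw⟩
    obtain ⟨d, hd, e⟩ := (hC.orb_iff h).1 ((hO w).2 (by simpa using hw))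
    exact ⟨⟨d, hd⟩, Subtype.ext e⟩

/-- Two lines meeting the orbit force order nine. -/
theorem Compl.two_lines {i j : Fin 3} (hij : i ≠ j) (hi : Orb X (pl i)) (hj : Orb X (pl j)) :
    Nat.card D = 9 ∧ ∃ k b, k ≠ i ∧ k ≠ j ∧ ¬ Orb X (pl k) ∧ ∀ v, v ≠ v0 →
      (Orb X v ↔ ((∃ m, m ≠ k ∧ act (flag m) v = v) ∨ (offH v = true ∧ singular v = b))) := by
  classical
  obtain ⟨a0, h0⟩ : ∃ a : Bool, Orb X (pl 0) ↔ a = true := ⟨decide (Orb X (pl 0)), by simp⟩
  obtain ⟨a1, h1⟩ : ∃ a : Bool, Orb X (pl 1) ↔ a = true := ⟨decide (Orb X (pl 1)), by simp⟩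
  obtain ⟨a2, h2⟩ : ∃ a : Bool, Orb X (pl 2) ↔ a = true := ⟨decide (Orb X (pl 2)), by simp⟩
  obtain ⟨b0, k0⟩ : ∃ a : Bool, Orb X (orep false) ↔ a = true := ⟨decide (Orb X (orep false)), by simp⟩
  obtain ⟨b1, k1⟩ : ∃ a : Bool, Orb X (orep true) ↔ a = true := ⟨decide (Orb X (orep true)), by simp⟩
  have hsh := h.orb_shape h0 h1 h2 k0 k1
  have hcard := h.orb_card hsh hD
  have hai : ∀ m, Orb X (pl m) ↔ ![a0, a1, a2] m = true := by
    intro m; fin_cases m; exacts [h0, h1, h2]
  obtain ⟨c, hc, hci, hc3, hc1, -, -, onlyc⟩ := hD.cent h hi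
  obtain ⟨e, he, hej, he3, he1, -, -, -⟩ := hD.cent h hj
  have hord : ∀ x : PV, x ^ 3 = 1 → x ≠ 1 → orderOf x = 3 := fun x h3 h1 =>
    orderOf_eq_prime (hp := ⟨Nat.prime_three⟩) h3 h1
  have h3 : 3 ∣ Nat.card D := by
    rw [← hord c hc3 hc1, ← Subgroup.orderOf_mk c hc]; exact orderOf_dvd_natCard _
  have key : ∀ (i j : Fin 3) (a0 a1 a2 b0 b1 : Bool), i ≠ j → ![a0, a1, a2] i = true → ![a0, a1, a2] j = true →
      3 ∣ (Finset.univ.filter fun w => inSet a0 a1 a2 b0 b1 w = true).card →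
      (Finset.univ.filter fun w => inSet a0 a1 a2 b0 b1 w = true).card = 15 ∨
        (Finset.univ.filter fun w => inSet a0 a1 a2 b0 b1 w = true).card = 9 ∧
          ∃ k b, k ≠ i ∧ k ≠ j ∧ ![a0, a1, a2] k = false ∧ ∀ v, v ≠ v0 →
            (inSet a0 a1 a2 b0 b1 v = true ↔
              ((∃ m, m ≠ k ∧ act (flag m) v = v) ∨ (offH v = true ∧ singular v = b))) := by decide +kernel
  rcases key i j a0 a1 a2 b0 b1 hij ((hai i).1 hi) ((hai j).1 hj) (hcard ▸ h3) with h15 | ⟨h9, k, b, hk1, hk2, hk3, hk4⟩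
  · -- order fifteen has only one subgroup of order three
    exfalso
    rw [← hcard] at h15
    haveI : Fact (Nat.Prime 3) := ⟨Nat.prime_three⟩
    obtain ⟨P⟩ := Sylow.nonempty (p := 3) (G := D)
    have hPc : Nat.card (P : Subgroup D) = 3 := by
      rw [P.card_eq_multiplicity, h15]
      have : Nat.factorization 15 3 = 1 := by
        rw [show (15 : ℕ) = 3 * 5 from rfl, Nat.factorization_mul (by norm_num) (by norm_num)]
        simp [Nat.prime_three.factorization_self, Nat.factorization_eq_zero_of_not_dvd]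
      rw [this, pow_one]
    have hidx : (P : Subgroup D).index = 5 := by
      have := (P : Subgroup D).card_mul_index
      rw [hPc, h15] at this; omega
    have huniq : Nat.card (Sylow 3 D) = 1 := by
      have hd := P.card_dvd_index
      rw [hidx] at hd
      have hm := card_sylow_modEq_one 3 D
      rcases (Nat.dvd_prime (by norm_num : (5 : ℕ).Prime)).1 hd with e | e
      · exact e
      · rw [e] at hm; exact absurd hm (by decide)
    haveI := (Nat.card_eq_one_iff_unique.1 huniq).1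
    have inP : ∀ (x : PV) (hx : x ∈ D), x ^ 3 = 1 → (⟨x, hx⟩ : D) ∈ (P : Subgroup D) := by
      intro x hx h3x
      have hp : IsPGroup 3 (zpowers (⟨x, hx⟩ : D)) := by
        rintro ⟨y, ⟨n, rfl⟩⟩
        refine ⟨1, Subtype.ext (Subtype.ext ?_)⟩
        show (x ^ n) ^ (3 ^ 1) = 1
        rw [← zpow_natCast, ← zpow_mul, mul_comm, zpow_mul, zpow_natCast, pow_one, h3x, one_zpow]
      obtain ⟨Q, hQ⟩ := hp.exists_le_sylow
      rw [Subsingleton.elim P Q]
      exact hQ (mem_zpowers _)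
    haveI : IsCyclic (P : Subgroup D) := isCyclic_of_prime_card hPc
    have hmem : (⟨e, he⟩ : D) ∈ zpowers (⟨c, hc⟩ : D) := by
      have h1 : zpowers (⟨c, hc⟩ : D) = (P : Subgroup D) := by
        refine Subgroup.eq_of_le_of_card_ge (zpowers_le.2 (inP c hc hc3)) ?_
        rw [Nat.card_zpowers, hPc, ← Subgroup.orderOf_coe, hord c hc3 hc1]
      rw [h1]; exact inP e he he3
    obtain ⟨n, hn⟩ := hmem
    have hec : Commute e (pf i) := by
      have : c ^ n = e := by simpa using congrArg Subtype.val hn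
      rw [← this]; exact hci.zpow_left n
    exact he1 (hD.stab e he (h.flag_two hij (hD.le he) hec hej))
  · refine ⟨hcard.trans h9, k, b, hk1, hk2, fun hO => ?_, fun v hv => (hsh v).trans (hk4 v hv)⟩
    rw [hai k, hk3] at hO
    exact Bool.false_ne_true hO

end CfsgLib.AEightSyl
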