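import Cfsg.Agent.Lib.AEightSyl.AutoFour
import Cfsg.Agent.Lib.AEightSyl.AutoCand

/-!
# S2918, piece B: with a rotation, no line meets the orbit of the central vector
-/

set_option autoImplicit false
set_option linter.style.haveILetI false
set_option linter.unusedSimpArgs false
set_option linter.unusedSectionVars false
set_option synthInstance.maxSize 4000

namespace CfsgLib.AEightSyl

open Subgroup

theorem pf_fix_line : ∀ i m v, act (flag i) v = v → v ≠ v0 → v ≠ vz → act (flag m) v = v → m = i := by decide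

theorem three_cycle : ∀ i q w, act (flag i) q = q → q ≠ v0 → q ≠ vz → act (flag i) w = w → w ≠ v0 → w ≠ q →
    w = vz ∨ w = vadd q vz := by decide

variable {X : Subgroup PV} (h : Auto X)
include h

theorem Auto.rot_pow {ρ : PV} (hρ : ∀ i, ρ * pf i * ρ⁻¹ = pf (i + 1)) (i m : Fin 3) :
    ∃ n : ℕ, ρ ^ n * pf i * (ρ ^ n)⁻¹ = pf m := by
  have key : ∀ i m : Fin 3, m = i ∨ m = i + 1 ∨ m = i + 1 + 1 := by decide
  rcases key i m with rfl | rfl | rfl
  · exact ⟨0, by simp⟩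
  · exact ⟨1, by rw [pow_one, hρ]⟩
  · refine ⟨2, ?_⟩
    calc ρ ^ 2 * pf i * (ρ ^ 2)⁻¹ = ρ * (ρ * pf i * ρ⁻¹) * ρ⁻¹ := by rw [pow_two]; group
      _ = _ := by rw [hρ, hρ]

/-- A rotation moves each line to the next. -/
theorem Auto.rot_line {ρ : PV} (hρY : ρ ∈ StY X) (hρ : ∀ i, ρ * pf i * ρ⁻¹ = pf (i + 1)) (i : Fin 3) :
    ρ (pl i) = pl (i + 1) ∨ ρ (pl i) = vadd (pl (i + 1)) vz := by
  have h1 : act (flag (i + 1)) (ρ (pl i)) = ρ (pl i) := by
    have e := congrArg (fun g : PV => g (ρ (pl i))) (hρ i)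
    have e2 : (ρ * pf i * ρ⁻¹) (ρ (pl i)) = ρ (act (flag i) (pl i)) := by simp
    rw [show act (flag (i + 1)) (ρ (pl i)) = (pf (i + 1)) (ρ (pl i)) from rfl, ← e, e2, (pl_spec i).1]
  rcases line_cases _ _ h1 with e | e | e | e
  · exact absurd e (h.apply_ne_zero hρY.1 (pl_spec i).2.1)
  · exact absurd (ρ.injective (e.trans (show ρ vz = vz from hρY.2).symm)) (pl_spec i).2.2.1
  · exact Or.inl e
  · exact Or.inr e

theorem Auto.orb_next {ρ : PV} (hρY : ρ ∈ StY X) (hρ : ∀ i, ρ * pf i * ρ⁻¹ = pf (i + 1)) (i : Fin 3) :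
    Orb X (pl (i + 1)) ↔ Orb X (pl i) := by
  rw [← h.orb_apply hρY.1 (v := pl i), h.orb_line (h.rot_line hρY hρ i)]

/-- An element of order three centralising a flag and inverted by the next one. -/
theorem Auto.three_elt {ρ : PV} (hρY : ρ ∈ StY X) (hρ : ∀ i, ρ * pf i * ρ⁻¹ = pf (i + 1)) {i : Fin 3}
    (hi : Orb X (pl i)) :
    ∃ c ∈ X, Commute c (pf i) ∧ c ^ 3 = 1 ∧ c vz ≠ vz ∧ pf (i + 1) * c * pf (i + 1) * c = 1 := by
  obtain ⟨g₀, hg₀, hg₀z⟩ := hi
  have hfl : pf (i + 1) vz = vz := Vs_fix_z (pf_mem_Vs _)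
  -- an element commuting with the flag
  have hm : g₀⁻¹ * pf i * g₀ ∈ StY X := by
    refine h.mem_Y (mul_mem (mul_mem (inv_mem hg₀) (h.flags i)) hg₀) ?_
    show g₀⁻¹ (act (flag i) (g₀ vz)) = vz
    rw [hg₀z, (pl_spec i).1, ← hg₀z]
    exact g₀.symm_apply_apply vz
  have hmV : g₀⁻¹ * pf i * g₀ ∈ Vs := h.two_elt_mem hm (a := 1) (by
    rw [pow_one, pow_two]
    calc g₀⁻¹ * pf i * g₀ * (g₀⁻¹ * pf i * g₀) = g₀⁻¹ * (pf i * pf i) * g₀ := by group
      _ = 1 := by rw [pf_mul_self]; group)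
  obtain ⟨m, hm'⟩ := (mem_Vs.1 hmV).resolve_left fun e => pf_ne_one i (by
    calc pf i = g₀ * (g₀⁻¹ * pf i * g₀) * g₀⁻¹ := by group
      _ = 1 := by rw [e]; group)
  obtain ⟨n, hn⟩ := h.rot_pow hρ i m
  obtain ⟨g, hg⟩ : ∃ g, g = g₀ * ρ ^ n := ⟨_, rfl⟩
  have hgX : g ∈ X := hg ▸ mul_mem hg₀ (pow_mem hρY.1 n)
  have hgi : Commute g (pf i) := by
    show g * pf i = pf i * g
    calc g * pf i = g₀ * (ρ ^ n * pf i * (ρ ^ n)⁻¹) * ρ ^ n := by rw [hg]; group
      _ = g₀ * (g₀⁻¹ * pf i * g₀) * ρ ^ n := by rw [hn, ← hm']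
      _ = pf i * g := by rw [hg]; group
  have hgz : g vz = pl i := by
    have e : (ρ ^ n) vz = vz := ((StY X).pow_mem hρY n).2
    rw [hg, Equiv.Perm.mul_apply, e, hg₀z]
  -- a three-cycle
  obtain ⟨c₀, hc₀, hc₀i, q, hq, hqz, hzq, hqq⟩ : ∃ c₀ ∈ X, Commute c₀ (pf i) ∧ ∃ q, act (flag i) q = q ∧
      q ≠ vz ∧ c₀ vz = q ∧ c₀ q = vadd q vz := by
    have hw : act (flag i) (g (pl i)) = g (pl i) := by
      have e := congrArg (fun f : PV => f (pl i)) hgi.eq
      simp only [Equiv.Perm.mul_apply, pf_apply, (pl_spec i).1] at e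
      exact e.symm
    rcases three_cycle i (pl i) (g (pl i)) (pl_spec i).1 (pl_spec i).2.1 (pl_spec i).2.2.1 hw
      (h.apply_ne_zero hgX (pl_spec i).2.1) (fun e => (pl_spec i).2.2.1 (g.injective (e.trans hgz.symm))) with e | e
    · refine ⟨pf (i + 1) * g, mul_mem (h.flags _) hgX, (show Commute (pf (i + 1)) (pf i) from pf_comm _ _).mul_left hgi,
        vadd (pl i) vz, ?_, ?_, ?_, ?_⟩
      · exact ((mem_line_iff i _).1 (mem_line_pl i).2)
      · have key : ∀ i, vadd (pl i) vz ≠ vz := by decide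
        exact key i
      · rw [Equiv.Perm.mul_apply, hgz, pf_apply, (pl_spec i).2.2.2]
      · rw [Equiv.Perm.mul_apply, h.add g hgX, e, hgz, pf_apply]
        have key : ∀ i, act (flag (i + 1)) (vadd vz (pl i)) = vadd (vadd (pl i) vz) vz := by decide
        exact key i
    · exact ⟨g, hgX, hgi, pl i, (pl_spec i).1, (pl_spec i).2.2.1, hgz, e⟩
  have h3z : (c₀ ^ 3) vz = vz := by
    show c₀ (c₀ (c₀ vz)) = vz
    rw [hzq, hqq, h.add c₀ hc₀, hqq, hzq]
    have key : ∀ q, vadd (vadd q vz) q = vz := by decide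
    exact key q
  have h3q : (c₀ ^ 3) q = q := by
    have e : (c₀ ^ 3) (c₀ vz) = c₀ ((c₀ ^ 3) vz) := rfl
    rwa [h3z, hzq] at e
  have h6 : (c₀ ^ 3) ^ 2 = 1 := by
    rw [pow_two]; exact Vs_sq (h.cent_flag (h.mem_Y (pow_mem hc₀ 3) h3z) (hc₀i.pow_left 3))
  obtain ⟨c, hc⟩ : ∃ c, c = c₀ ^ 4 := ⟨_, rfl⟩
  have hcX : c ∈ X := hc ▸ pow_mem hc₀ 4
  have hci : Commute c (pf i) := hc ▸ hc₀i.pow_left 4
  have hc3 : c ^ 3 = 1 := by rw [hc, ← pow_mul, show 4 * 3 = 3 * 2 * 2 from rfl, pow_mul, pow_mul, h6, one_pow]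
  have hcz : c vz = q := by
    show _ = _
    rw [hc, pow_succ', Equiv.Perm.mul_apply, h3z, hzq]
  have hcq : c q = vadd q vz := by
    rw [hc, pow_succ', Equiv.Perm.mul_apply, h3q, hqq]
  refine ⟨c, hcX, hci, hc3, hcz ▸ hqz, ?_⟩
  obtain ⟨t, ht⟩ : ∃ t, t = pf (i + 1) := ⟨_, rfl⟩
  have hti : Commute t (pf i) := ht ▸ pf_comm _ _
  have hq0 : q ≠ v0 := hzq ▸ h.apply_ne_zero hc₀ vz_ne
  have htq : t q = vadd q vz := by
    rw [ht, pf_apply]
    exact flag_other i (i + 1) q hq hq0 hqz (by fin_cases i <;> decide)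
  have htq' : t (vadd q vz) = q := by
    rw [← htq, ht]; exact act_act _ q
  have hcq' : c (vadd q vz) = vz := by
    rw [h.add c hcX, hcq, hcz]
    have key : ∀ q, vadd (vadd q vz) q = vz := by decide
    exact key q
  rw [← ht]
  have htz : t vz = vz := ht ▸ hfl
  have ez : (t * c * t * c) vz = vz := by
    simp only [Equiv.Perm.mul_apply, hcz, htq, hcq', htz]
  have eq' : (t * c * t * c) q = q := by
    simp only [Equiv.Perm.mul_apply, hcq, htq', hcq, htq']
  have heX : t * c * t * c ∈ X := ht ▸ mul_mem (mul_mem (mul_mem (h.flags _) hcX) (h.flags _)) hcX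
  have hei : Commute (t * c * t * c) (pf i) := ((hti.mul_left hci).mul_left hti).mul_left hci
  have heV := h.cent_flag (h.mem_Y heX ez) hei
  have hec : Commute (t * c * t * c) c := by
    rcases mem_Vs.1 heV with e | ⟨m, e⟩
    · rw [e]; exact Commute.one_left c
    · rw [e] at eq' ⊢
      rw [pf_fix_line i m q hq hq0 hqz eq']
      exact hci.symm
  have hs : t * c * t = (t * c * t * c) * c⁻¹ := by group
  have e3 : (t * c * t) ^ 3 = 1 := by
    have e := conj_pow (a := t) (b := c) (i := 3)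
    rw [show t⁻¹ = t from ht ▸ pf_inv _, hc3, mul_one, show t * t = 1 from ht ▸ pf_mul_self _] at e
    exact e
  rw [hs, hec.inv_right.mul_pow, inv_pow, hc3, inv_one, mul_one] at e3
  have e2 : (t * c * t * c) ^ 2 = 1 := by rw [pow_two]; exact Vs_sq heV
  calc t * c * t * c = (t * c * t * c) ^ 3 * ((t * c * t * c) ^ 2)⁻¹ := by group
    _ = 1 := by rw [e3, e2, inv_one, mul_one]

/-- The element in coordinates. -/
theorem Auto.three_coord {c : PV} (hc : c ∈ X) {i : Fin 3} (hci : Commute c (pf i)) (hc3 : c ^ 3 = 1)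
    (hcz : c vz ≠ vz) (hinv : pf (i + 1) * c * pf (i + 1) * c = 1) :
    ∃ x ∈ cand i, ∀ v, c v = cf i x.1 x.2 v := by
  have hsm : ∀ b x, c (sm b x) = sm b (c x) := by
    intro b x; cases b
    · exact h.apply_zero hc
    · rfl
  have hs : ∀ x, c (act (flag i) x) = act (flag i) (c x) := fun x => congrArg (fun g : PV => g x) hci.eq
  have hform : ∀ v, c v = cf i (c gen) (c (act (flag (i + 1)) gen)) v := by
    intro v
    nth_rewrite 1 [← cf_gen i v]
    simp only [cf, h.add c hc, hsm, hs]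
  refine ⟨(c gen, c (act (flag (i + 1)) gen)), cand_spec i _ _ ?_ ?_ (hform vz ▸ hcz), hform⟩
  · intro v
    rw [← hform, ← hform, ← hform]
    exact congrArg (fun g : PV => g v) hc3
  · intro v
    rw [← hform, ← hform]
    have e : act (flag (i + 1)) (c (act (flag (i + 1)) (c v))) = v := congrArg (fun g : PV => g v) hinv
    have e2 := congrArg (act (flag (i + 1))) e
    rwa [act_act] at e2

/-- No line meets the orbit. -/
theorem Auto.no_line (hR : RotX X) (i : Fin 3) : ¬ Orb X (pl i) := by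
  intro hi
  obtain ⟨ρ, hρY, hρ⟩ := hR
  have hall : ∀ m, Orb X (pl m) := by
    have h1 : Orb X (pl (i + 1)) := (h.orb_next hρY hρ i).2 hi
    have h2 : Orb X (pl (i + 1 + 1)) := (h.orb_next hρY hρ _).2 h1
    have key : ∀ i m : Fin 3, m = i ∨ m = i + 1 ∨ m = i + 1 + 1 := by decide
    intro m
    rcases key i m with rfl | rfl | rfl
    exacts [hi, h1, h2]
  have hex : ∀ m, ∃ c ∈ X, ∃ x ∈ cand m, ∀ v, c v = cf m x.1 x.2 v := by
    intro m
    obtain ⟨c, hc, h1, h2, h3, h4⟩ := h.three_elt hρY hρ (hall m)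
    exact ⟨c, hc, h.three_coord hc h1 h2 h3 h4⟩
  obtain ⟨a, ha, x, hx, hax⟩ := hex 0
  obtain ⟨b, hb, y, hy, hby⟩ := hex 1
  obtain ⟨c, hc, w, hw, hcw⟩ := hex 2
  have absurd4 : ∀ (g : PV), g ∈ X → ∀ (m j k : Fin 3) (u u' : Vec × Vec),
      (∀ v, g v = word m j k u u' v) → OrdFour (word m j k u u') → False := by
    rintro g hg m j k u u' hgv ⟨h4, v, h2⟩
    have e4 : g ^ (2 ^ 2) = 1 := Equiv.ext fun v => by
      show g (g (g (g v))) = v
      simp only [hgv]; exact h4 v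
    refine h2 ?_
    have e : g (g v) = v := congrArg (fun f : PV => f v) (h.pow_two_sq hg e4)
    simpa only [hgv] using e
  rcases cand_four x hx y hy w hw with e | e | e
  · exact absurd4 (pf 0 * a * b) (mul_mem (mul_mem (h.flags 0) ha) hb) 0 0 1 x y
      (fun v => by simp [word, hax, hby]) e
  · exact absurd4 (pf 0 * a * c) (mul_mem (mul_mem (h.flags 0) ha) hc) 0 0 2 x w
      (fun v => by simp [word, hax, hcw]) e
  · exact absurd4 (pf 1 * b * c) (mul_mem (mul_mem (h.flags 1) hb) hc) 1 1 2 y w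
      (fun v => by simp [word, hby, hcw]) e

end CfsgLib.AEightSyl
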