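import Cfsg.Agent.Lib.AEightSyl.Auto

/-!
# S2918, piece B: the stabiliser of the central vector is the four-group or `A₄`
-/

set_option autoImplicit false
set_option linter.style.haveILetI false
set_option linter.unusedSimpArgs false
set_option linter.unusedSectionVars false
set_option synthInstance.maxSize 4000

namespace CfsgLib.AEightSyl

open Subgroup
open scoped commutatorElement

variable {X : Subgroup PV} (h : Auto X)
include h

/-- Some rotation of the three flags fixes the central vector. -/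
def RotX (X : Subgroup PV) : Prop :=
  ∃ ρ ∈ StY X, ∀ i, ρ * pf i * ρ⁻¹ = pf (i + 1)

/-- A two-subgroup of a subgroup in which the four-group is Sylow is conjugate into it. -/
theorem Auto.conj_into {Z : Subgroup PV} (hle : Vs ≤ Z) (hodd : ¬ 2 ∣ Vs.relIndex Z) {Q : Subgroup PV}
    (hQZ : Q ≤ Z) (hQ : IsPGroup 2 Q) : ∃ g ∈ Z, ∀ x ∈ Q, g * x * g⁻¹ ∈ Vs := by
  haveI : Fact (Nat.Prime 2) := ⟨Nat.prime_two⟩
  have hV : IsPGroup 2 (Vs.subgroupOf Z) := by
    rintro ⟨⟨x, hx⟩, hx'⟩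
    refine ⟨1, Subtype.ext (Subtype.ext ?_)⟩
    show x ^ 2 = 1
    rw [pow_two]; exact Vs_sq hx'
  let P : Sylow 2 Z := hV.toSylow hodd
  obtain ⟨R, hR⟩ := (hQ.comap_of_injective Z.subtype Z.subtype_injective :
    IsPGroup 2 (Q.subgroupOf Z)).exists_le_sylow
  obtain ⟨g, hg⟩ := MulAction.exists_smul_eq Z R P
  refine ⟨g, g.2, fun x hx => ?_⟩
  have h1 : g * ⟨x, hQZ hx⟩ * g⁻¹ ∈ (P : Subgroup Z) := by
    have h2 : (⟨x, hQZ hx⟩ : Z) ∈ (R : Subgroup Z) := hR hx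
    rw [← hg, Sylow.coe_subgroup_smul, Subgroup.mem_pointwise_smul_iff_inv_smul_mem, ← map_inv, MulAut.smul_def,
      MulAut.conj_apply]
    simpa [mul_assoc] using h2
  exact h1

theorem Auto.pow_two_sq {g : PV} (hg : g ∈ X) {a : ℕ} (ha : g ^ (2 ^ a) = 1) : g ^ 2 = 1 := by
  have hQ : IsPGroup 2 (zpowers g) := by
    rintro ⟨x, ⟨n, rfl⟩⟩
    refine ⟨a, Subtype.ext ?_⟩
    show (g ^ n) ^ (2 ^ a) = 1
    rw [← zpow_natCast, ← zpow_mul, mul_comm, zpow_mul, zpow_natCast, ha, one_zpow]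
  obtain ⟨k, hk, hx⟩ := h.conj_into h.Vs_le h.sylow (zpowers_le.2 hg) hQ
  have := Vs_sq (hx g (mem_zpowers g))
  have e : k * (g * g) * k⁻¹ = 1 := by rw [← this]; group
  rw [pow_two, mul_inv_eq_one, mul_eq_left] at *
  exact e

/-- Elements of the stabiliser commuting with a flag are two-elements. -/
theorem Auto.comm_two {n : PV} (hn : n ∈ StY X) {i : Fin 3} (hc : Commute n (pf i)) :
    ∃ a, n ^ (2 ^ a) = 1 := by
  obtain ⟨a, m, hm, he⟩ := Nat.exists_eq_two_pow_mul_odd (orderOf_pos n).ne'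
  refine ⟨a, ?_⟩
  have h1 : orderOf (n ^ (2 ^ a)) = m := by
    rw [orderOf_pow_of_dvd (by positivity) (he ▸ dvd_mul_right _ _), he, Nat.mul_div_cancel_left _ (by positivity)]
  refine h.star (X.pow_mem hn.1 _) (hc.pow_left _) ?_ (h1 ▸ hm)
  exact (StY X).pow_mem hn _ |>.2

/-- The four-group is normal in the stabiliser. -/
theorem Auto.Vs_normal {n v : PV} (hn : n ∈ StY X) (hv : v ∈ Vs) : n * v * n⁻¹ ∈ Vs := by
  classical
  obtain ⟨T, hTY, hTn, hTab, hTne⟩ : ∃ T : Subgroup PV, T ≤ StY X ∧ (∀ y ∈ StY X, ∀ t ∈ T, y * t * y⁻¹ ∈ T) ∧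
      (∀ a ∈ T, ∀ b ∈ T, a * b = b * a) ∧ T ≠ ⊥ := by
    haveI := h.sol
    obtain ⟨k, hk⟩ := (Group.isSolvable_def ↥(StY X)).1 h.sol
    have hex : ∃ k, derivedSeries ↥(StY X) k = ⊥ := ⟨k, hk⟩
    have h0 : derivedSeries ↥(StY X) 0 ≠ ⊥ := by
      rw [derivedSeries_zero]
      intro e
      have h1 : (⟨pf 0, h.Vs_le_Y (pf_mem_Vs 0)⟩ : StY X) ∈ (⊥ : Subgroup ↥(StY X)) := e ▸ mem_top _
      exact pf_ne_one 0 (congrArg Subtype.val (mem_bot.1 h1))
    set k₀ := Nat.find hex with hk₀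
    have hk₀0 : k₀ ≠ 0 := fun e => h0 (by rw [← e]; exact Nat.find_spec hex)
    obtain ⟨j, hj⟩ := Nat.exists_eq_succ_of_ne_zero hk₀0
    refine ⟨(derivedSeries ↥(StY X) j).map (StY X).subtype, map_subtype_le _, ?_, ?_, ?_⟩
    · rintro y hy _ ⟨t, ht, rfl⟩
      exact ⟨⟨y, hy⟩ * t * ⟨y, hy⟩⁻¹, (derivedSeries_normal _ j).conj_mem t ht _, rfl⟩
    · rintro _ ⟨a, ha, rfl⟩ _ ⟨b, hb, rfl⟩
      have h1 : ⁅a, b⁆ ∈ derivedSeries ↥(StY X) (j + 1) := by
        rw [derivedSeries_succ]; exact commutator_mem_commutator ha hb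
      rw [← Nat.succ_eq_add_one, ← hj, Nat.find_spec hex, mem_bot, commutatorElement_eq_one_iff_mul_comm] at h1
      exact congrArg Subtype.val h1
    · rw [Ne, map_eq_bot_iff_of_injective _ (StY X).subtype_injective]
      exact Nat.find_min hex (by omega)
  -- squares have odd order
  have hsq : ∀ t ∈ T, Odd (orderOf (t * t)) := by
    intro t ht
    obtain ⟨a, m, hm, he⟩ := Nat.exists_eq_two_pow_mul_odd (orderOf_pos t).ne'
    have h2 : (t ^ m) ^ (2 ^ a) = 1 := by rw [← pow_mul, mul_comm, ← he, pow_orderOf_eq_one]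
    have h3 := h.pow_two_sq (X.pow_mem (hTY ht).1 m) h2
    refine hm.of_dvd_nat (orderOf_dvd_of_pow_eq_one ?_)
    rw [← pow_two, ← pow_mul, mul_comm, pow_mul, h3]
  let T2 : Subgroup PV :=
    { carrier := {x | ∃ t ∈ T, x = t * t}
      one_mem' := ⟨1, T.one_mem, by rw [one_mul]⟩
      mul_mem' := by
        rintro _ _ ⟨a, ha, rfl⟩ ⟨b, hb, rfl⟩
        refine ⟨a * b, T.mul_mem ha hb, ?_⟩
        rw [mul_assoc a b, ← mul_assoc b a b, ← hTab a ha b hb]
        group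
      inv_mem' := by
        rintro _ ⟨a, ha, rfl⟩
        exact ⟨a⁻¹, T.inv_mem ha, mul_inv_rev a a⟩ }
  have hexp : ∀ t ∈ T, t * t = 1 := by
    intro t ht
    refine h.odd_trivial (D := T2) ?_ ?_ ?_ ⟨t, ht, rfl⟩
    · rintro _ ⟨a, ha, rfl⟩; exact (StY X).mul_mem (hTY ha) (hTY ha)
    · rintro _ ⟨a, ha, rfl⟩; exact hsq a ha
    · rintro i _ ⟨a, ha, rfl⟩
      have hi := h.Vs_le_Y (pf_mem_Vs i)
      refine ⟨pf i * a * pf i, ?_, ?_⟩
      · have := hTn _ hi a ha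
        rwa [pf_inv] at this
      · calc pf i * (a * a) * pf i = pf i * a * (pf i * pf i) * a * pf i := by rw [pf_mul_self, mul_one]; group
          _ = _ := by group
  have hTV : ∀ t ∈ T, t ∈ Vs := by
    intro t ht
    have hT2 : IsPGroup 2 T := fun x => ⟨1, Subtype.ext (by
      show (x : PV) ^ (2 ^ 1) = 1
      rw [pow_one, pow_two]; exact hexp _ x.2)⟩
    obtain ⟨g, hg, hgV⟩ := h.conj_into h.Vs_le_Y h.sylowY hTY hT2
    have h1 := hgV _ (hTn _ ((StY X).inv_mem hg) t ht)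
    simpa [mul_assoc] using h1
  obtain ⟨t, ht, ht1⟩ : ∃ t ∈ T, t ≠ 1 := by
    by_contra hcon
    push Not at hcon
    exact hTne (eq_bot_iff.2 fun x hx => mem_bot.2 (hcon x hx))
  obtain ⟨i, rfl⟩ := (mem_Vs.1 (hTV t ht)).resolve_left ht1
  by_cases hcent : ∀ y ∈ StY X, y * pf i * y⁻¹ = pf i
  · -- the stabiliser is then a two-group
    have hp : IsPGroup 2 (StY X) := fun y => by
      obtain ⟨a, ha⟩ := h.comm_two y.2 (i := i) (mul_inv_eq_iff_eq_mul.1 (hcent _ y.2))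
      exact ⟨a, Subtype.ext ha⟩
    obtain ⟨g, hg, hgV⟩ := h.conj_into h.Vs_le_Y h.sylowY le_rfl hp
    have key : ∀ y ∈ StY X, y ∈ Vs := fun y hy => by
      have h1 := hgV _ ((StY X).mul_mem ((StY X).mul_mem ((StY X).inv_mem hg) hy) hg)
      simpa [mul_assoc] using h1
    exact key _ ((StY X).mul_mem ((StY X).mul_mem hn (h.Vs_le_Y hv)) ((StY X).inv_mem hn))
  -- two flags in the abelian normal subgroup
  push Not at hcent
  obtain ⟨y, hy, hyi⟩ := hcent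
  have hy' := hTn y hy _ ht
  have hne : y * pf i * y⁻¹ ≠ 1 := fun e => pf_ne_one i (conj_eq_one_iff.1 e)
  obtain ⟨j, hj⟩ := (mem_Vs.1 (hTV _ hy')).resolve_left hne
  rw [hj] at hy' hyi
  have hij : i ≠ j := fun e => hyi (e ▸ rfl)
  have hall : ∀ k, pf k ∈ T := by
    have key : ∀ i j : Fin 3, i ≠ j → ∀ k, k = i ∨ k = j ∨ pf k = pf i * pf j := by decide +kernel
    intro k
    rcases key i j hij k with rfl | rfl | e
    exacts [ht, hy', e ▸ T.mul_mem ht hy']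
  have hVT : v ∈ T := by
    rcases hv with rfl | ⟨k, rfl⟩
    exacts [T.one_mem, hall k]
  exact hTV _ (hTn n hn v hVT)

/-- Conjugation in the stabiliser permutes the flags. -/
theorem Auto.flag_perm {n : PV} (hn : n ∈ StY X) (i : Fin 3) : ∃ j, n * pf i * n⁻¹ = pf j :=
  (mem_Vs.1 (h.Vs_normal hn (pf_mem_Vs i))).resolve_left fun e => pf_ne_one i (conj_eq_one_iff.1 e)

theorem Auto.pow_index_Vs {n : PV} (hn : n ∈ StY X) : n ^ Vs.relIndex (StY X) ∈ Vs := by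
  haveI : (Vs.subgroupOf (StY X)).Normal := ⟨fun v hv g => h.Vs_normal g.2 hv⟩
  exact Subgroup.pow_index_mem (Vs.subgroupOf (StY X)) ⟨n, hn⟩

theorem Auto.odd_relIndex : Odd (Vs.relIndex (StY X)) := Nat.not_even_iff_odd.1 fun e =>
  h.sylowY (even_iff_two_dvd.1 e)

/-- Two-elements of the stabiliser lie in the four-group. -/
theorem Auto.two_elt_mem {n : PV} (hn : n ∈ StY X) {a : ℕ} (ha : n ^ (2 ^ a) = 1) : n ∈ Vs :=
  mem_of_pow_coprime (a := 2 ^ a) (by rw [ha]; exact Vs.one_mem) (h.pow_index_Vs hn)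
    (Nat.Coprime.pow_left _ (Nat.coprime_two_left.2 h.odd_relIndex))

theorem Auto.cent_flag {n : PV} (hn : n ∈ StY X) {i : Fin 3} (hc : Commute n (pf i)) : n ∈ Vs := by
  obtain ⟨a, ha⟩ := h.comm_two hn hc
  exact h.two_elt_mem hn ha

/-- Either the identity or a rotation of the three flags. -/
theorem Auto.perm_cases {n : PV} (hn : n ∈ StY X) : n ∈ Vs ∨
    (∀ i, n * pf i * n⁻¹ = pf (i + 1)) ∨ ∀ i, n * pf i * n⁻¹ = pf (i + 2) := by
  choose σ hσ using h.flag_perm hn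
  have hinj : ∀ i j, σ i = σ j → i = j := fun i j e => by
    refine pf_inj i j ?_
    have := (hσ i).trans ((congrArg pf e).trans (hσ j).symm)
    exact mul_left_cancel (mul_right_cancel this)
  by_cases hfix : ∃ i, σ i = i
  · obtain ⟨i, hi⟩ := hfix
    left
    refine h.cent_flag hn (i := i) ?_
    have := hσ i
    rw [hi, mul_inv_eq_iff_eq_mul] at this
    exact this
  push Not at hfix
  have key : ∀ σ0 σ1 σ2 : Fin 3, σ0 ≠ 0 → σ1 ≠ 1 → σ2 ≠ 2 → σ0 ≠ σ1 → σ0 ≠ σ2 → σ1 ≠ σ2 →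
      (σ0 = 1 ∧ σ1 = 2 ∧ σ2 = 0) ∨ (σ0 = 2 ∧ σ1 = 0 ∧ σ2 = 1) := by decide
  right
  rcases key (σ 0) (σ 1) (σ 2) (hfix 0) (hfix 1) (hfix 2) (fun e => by simpa using hinj _ _ e)
    (fun e => by simpa using hinj _ _ e) (fun e => by simpa using hinj _ _ e) with ⟨a, b, c⟩ | ⟨a, b, c⟩
  · left; intro i; fin_cases i <;> simp [hσ, a, b, c]
  · right; intro i; fin_cases i <;> simp [hσ, a, b, c]

/-- The stabiliser: first part. -/
theorem Auto.not_rot {n : PV} (hn : n ∈ StY X) (hR : ¬ RotX X) : n ∈ Vs := by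
  rcases h.perm_cases hn with h1 | h1 | h1
  · exact h1
  · exact absurd ⟨n, hn, h1⟩ hR
  · refine absurd ⟨n * n, (StY X).mul_mem hn hn, fun i => ?_⟩ hR
    calc n * n * pf i * (n * n)⁻¹ = n * (n * pf i * n⁻¹) * n⁻¹ := by group
      _ = pf (i + 2 + 2) := by rw [h1, h1]
      _ = pf (i + 1) := by rw [add_assoc]; rfl

/-- The stabiliser: second part. -/
theorem Auto.cube_mem {n : PV} (hn : n ∈ StY X) : n ^ 3 ∈ Vs := by
  rcases h.perm_cases hn with h1 | h1 | h1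
  · exact Vs.pow_mem h1 3
  all_goals
    refine h.cent_flag ((StY X).pow_mem hn 3) (i := 0) ?_
    show n ^ 3 * pf 0 = pf 0 * n ^ 3
    rw [← mul_inv_eq_iff_eq_mul]
    calc n ^ 3 * pf 0 * (n ^ 3)⁻¹ = n * (n * (n * pf 0 * n⁻¹) * n⁻¹) * n⁻¹ := by
          simp only [pow_succ, pow_zero, one_mul]; group
      _ = pf 0 := by rw [h1, h1, h1]; rfl

end CfsgLib.AEightSyl
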