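import Cfsg.Agent.Lib.AEightSyl.KillTools
import Cfsg.Agent.Lib.AEightSyl.AutoY
import Cfsg.Agent.Lib.AEightSyl.AutoDefs

/-!
# S2918, piece B: the automiser of `A` as a group of permutations of the vectors
-/

set_option autoImplicit false
set_option linter.style.haveILetI false
set_option linter.unusedSimpArgs false
set_option linter.unusedSectionVars false
set_option synthInstance.maxSize 4000

namespace CfsgLib.AEightSyl

open Cfsg Subgroup
open CfsgLib.L34Sylow (cj cz)

universe u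

variable {G : Type u} [Group G] [Finite G] {S : Sylow 2 G} {φ : El → G}

/-- Conjugation by `n` is the permutation `σ` of the vectors. -/
def Moves (φ : El → G) (n : G) (σ : PV) : Prop := ∀ v, cj n (av φ v) = av φ (σ v)

theorem emul_top : ∀ v w : Vec, emul (v, t0) (w, t0) = (vadd v w, t0) := by decide +kernel

theorem act_zero_top : ∀ v : Vec, act t0 v = v := by decide +kernel

theorem flag_cases : ∀ s : Top, s = t0 ∨ ∃ i, s = flag i := by decide +kernel

theorem av_mul (hS : Setup S φ) (v w : Vec) : av φ v * av φ w = av φ (vadd v w) :=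
  (hS.mul _ _).trans (congrArg φ (emul_top v w))

theorem av_inj (hS : Setup S φ) {v w : Vec} (e : av φ v = av φ w) : v = w :=
  congrArg Prod.fst (hS.inj e)

theorem av_eq_one (hS : Setup S φ) {v : Vec} : av φ v = 1 ↔ v = v0 := by
  rw [← Kill.one hS]
  exact ⟨fun e => av_inj hS e, fun e => by rw [e]⟩

theorem exists_moves (hS : Setup S φ) (hF : Facts S φ) {n : G} (hn : n ∈ normalizer (SA φ : Set G)) :
    ∃ σ, Moves φ n σ := by
  have h1 : ∀ v, ∃ w, av φ w = cj n (av φ v) := fun v =>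
    (hF.mem_A _).1 ((mem_set_normalizer_iff.1 hn _).1 ((hF.mem_A _).2 ⟨v, rfl⟩))
  choose f hf using h1
  have hinj : Function.Injective f := fun a b e => by
    refine av_inj hS ?_
    have := (hf a).symm.trans ((congrArg (av φ) e).trans (hf b))
    exact mul_left_cancel (mul_right_cancel this)
  exact ⟨Equiv.ofBijective f ⟨hinj, Finite.injective_iff_surjective.1 hinj⟩, fun v => (hf v).symm⟩

theorem Moves.unique (hS : Setup S φ) {n : G} {σ τ : PV} (h1 : Moves φ n σ) (h2 : Moves φ n τ) : σ = τ :=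
  Equiv.ext fun v => av_inj hS ((h1 v).symm.trans (h2 v))

theorem Moves.mul {n m : G} {σ τ : PV} (h1 : Moves φ n σ) (h2 : Moves φ m τ) : Moves φ (n * m) (σ * τ) := fun v => by
  rw [Equiv.Perm.mul_apply, ← h1, ← h2]
  show n * m * av φ v * (n * m)⁻¹ = n * (m * av φ v * m⁻¹) * n⁻¹
  group

theorem Moves.inv {n : G} {σ : PV} (h1 : Moves φ n σ) : Moves φ n⁻¹ σ⁻¹ := fun v => by
  have e := h1 (σ⁻¹ v)
  rw [show σ (σ⁻¹ v) = v from σ.apply_symm_apply v] at e
  rw [← e]
  show n⁻¹ * (n * av φ (σ⁻¹ v) * n⁻¹) * n⁻¹⁻¹ = av φ (σ⁻¹ v)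
  group

/-- The homomorphism to the permutations. -/
noncomputable def movesHom (hS : Setup S φ) (hF : Facts S φ) : ↥(normalizer (SA φ : Set G)) →* PV :=
  MonoidHom.mk' (fun n => Classical.choose (exists_moves hS hF n.2)) fun a b =>
    (Classical.choose_spec (exists_moves hS hF (a * b).2)).unique hS
      (Moves.mul (Classical.choose_spec (exists_moves hS hF a.2)) (Classical.choose_spec (exists_moves hS hF b.2)))

theorem moves_hom (hS : Setup S φ) (hF : Facts S φ) (n : ↥(normalizer (SA φ : Set G))) :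
    Moves φ n (movesHom hS hF n) :=
  Classical.choose_spec (exists_moves hS hF n.2)

/-- The automiser. -/
noncomputable def autX (hS : Setup S φ) (hF : Facts S φ) : Subgroup PV := (movesHom hS hF).range

theorem mem_autX (hS : Setup S φ) (hF : Facts S φ) {σ : PV} :
    σ ∈ autX hS hF ↔ ∃ n ∈ normalizer (SA φ : Set G), Moves φ n σ := by
  constructor
  · rintro ⟨n, rfl⟩
    exact ⟨n, n.2, moves_hom hS hF n⟩
  · rintro ⟨n, hn, h⟩
    exact ⟨⟨n, hn⟩, (moves_hom hS hF ⟨n, hn⟩).unique hS h⟩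

theorem moves_one_iff (hS : Setup S φ) (hF : Facts S φ) {n : G} :
    Moves φ n 1 ↔ n ∈ centralizer (SA φ : Set G) := by
  constructor
  · intro h
    refine mem_centralizer_iff.2 fun a ha => ?_
    obtain ⟨v, rfl⟩ := (hF.mem_A a).1 ha
    have e : n * av φ v * n⁻¹ = av φ v := h v
    exact (mul_inv_eq_iff_eq_mul.1 e).symm
  · intro hn v
    have := Kill.acts_cent hS hF hn v
    rwa [act_zero_top] at this

theorem moves_flag (hS : Setup S φ) (v : Vec) (i : Fin 3) : Moves φ (φ (v, flag i)) (pf i) := fun w =>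
  Kill.acts_phi hS (v, flag i) w

theorem moves_trivial (hS : Setup S φ) (v : Vec) : Moves φ (φ (v, t0)) 1 := fun w => by
  have := Kill.acts_phi hS (v, t0) w
  rwa [act_zero_top] at this

theorem cent_le_norm : centralizer (SA φ : Set G) ≤ normalizer (SA φ : Set G) :=
  fun g hg => mem_set_normalizer_iff.2 fun h => by
    have key : ∀ x ∈ (SA φ : Set G), g * x * g⁻¹ = x := fun x hx => by
      rw [← mem_centralizer_iff.1 hg x hx, mul_inv_cancel_right]
    constructor
    · intro hh; rw [key h hh]; exact hh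
    · intro hh
      have e := key _ hh
      have : g * h * g⁻¹ = h := by
        calc g * h * g⁻¹ = g⁻¹ * (g * (g * h * g⁻¹) * g⁻¹) * g := by group
          _ = g⁻¹ * (g * h * g⁻¹) * g := by rw [e]
          _ = h := by group
      rwa [this] at hh

theorem flag_norm (hS : Setup S φ) (hF : Facts S φ) (v : Vec) (i : Fin 3) :
    φ (v, flag i) ∈ normalizer (SA φ : Set G) := hF.norm_S.1 (hS.mem _)

theorem flag_autX (hS : Setup S φ) (hF : Facts S φ) (i : Fin 3) : pf i ∈ autX hS hF :=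
  (mem_autX hS hF).2 ⟨_, flag_norm hS hF v0 i, moves_flag hS v0 i⟩

theorem moves_add (hS : Setup S φ) {n : G} {σ : PV} (h : Moves φ n σ) (v w : Vec) :
    σ (vadd v w) = vadd (σ v) (σ w) := by
  refine av_inj hS ?_
  rw [← av_mul hS, ← h, ← h, ← h, ← av_mul hS]
  show n * (av φ v * av φ w) * n⁻¹ = n * av φ v * n⁻¹ * (n * av φ w * n⁻¹)
  group

theorem moves_fix (hS : Setup S φ) {n : G} {σ : PV} (h : Moves φ n σ) (v : Vec) :
    σ v = v ↔ n ∈ cz (av φ v) := by
  rw [mem_centralizer_singleton_iff]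
  constructor
  · intro e
    have e1 : n * av φ v * n⁻¹ = av φ v := (h v).trans (by rw [e])
    exact mul_inv_eq_iff_eq_mul.1 e1
  · intro e
    refine av_inj hS ((h v).symm.trans ?_)
    show n * av φ v * n⁻¹ = av φ v
    rw [e, mul_inv_cancel_right]

theorem range_eq_cent (hS : Setup S φ) (hF : Facts S φ) :
    (movesHom hS hF).ker = (centralizer (SA φ : Set G)).subgroupOf (normalizer (SA φ : Set G)) := by
  ext n
  rw [MonoidHom.mem_ker, mem_subgroupOf, ← moves_one_iff hS hF]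
  exact ⟨fun e => e ▸ moves_hom hS hF n, fun h => (moves_hom hS hF n).unique hS h⟩

theorem card_norm (hS : Setup S φ) (hF : Facts S φ) :
    Nat.card ↥(normalizer (SA φ : Set G)) = Nat.card (autX hS hF) * Nat.card ↥(centralizer (SA φ : Set G)) := by
  rw [← (movesHom hS hF).ker.card_mul_index, Subgroup.index_ker, range_eq_cent hS hF, mul_comm]
  congr 1
  exact Nat.card_congr (Subgroup.subgroupOfEquivOfLe cent_le_norm).toEquiv

theorem auto_autX (hS : Setup S φ) (hF : Facts S φ) : Auto (autX hS hF) := by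
  haveI : Fact (Nat.Prime 2) := ⟨Nat.prime_two⟩
  refine ⟨fun g hg v w => ?_, flag_autX hS hF, ?_, ?_⟩
  · obtain ⟨n, -, h⟩ := (mem_autX hS hF).1 hg
    exact moves_add hS h v w
  · -- the flags form a Sylow subgroup
    obtain ⟨N, hN⟩ : ∃ N, N = normalizer (SA φ : Set G) := ⟨_, rfl⟩
    subst hN
    have h1 : ¬ 2 ∣ ((S : Subgroup G).subgroupOf (normalizer (SA φ : Set G))).index := fun hd =>
      S.not_dvd_index (hd.trans (Dvd.intro _ (Subgroup.relIndex_mul_index hF.norm_S.1)))
    have h2 : ((S : Subgroup G).subgroupOf (normalizer (SA φ : Set G))).map (movesHom hS hF).rangeRestrict =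
        Vs.subgroupOf (autX hS hF) := by
      ext ⟨σ, hσ⟩
      constructor
      · rintro ⟨n, hn, e⟩
        have e' : movesHom hS hF n = σ := congrArg Subtype.val e
        obtain ⟨⟨v, s⟩, hvs⟩ := hS.surj _ hn
        show σ ∈ Vs
        rcases flag_cases s with rfl | ⟨i, rfl⟩
        · rw [← e', (moves_hom hS hF n).unique hS (hvs ▸ moves_trivial hS v)]
          exact Vs.one_mem
        · rw [← e', (moves_hom hS hF n).unique hS (hvs ▸ moves_flag hS v i)]
          exact pf_mem_Vs i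
      · intro hV
        rcases mem_Vs.1 (show σ ∈ Vs from hV) with rfl | ⟨i, rfl⟩
        · exact Subgroup.one_mem _
        · exact ⟨⟨_, flag_norm hS hF v0 i⟩, hS.mem _, Subtype.ext
            ((moves_hom hS hF ⟨_, flag_norm hS hF v0 i⟩).unique hS (moves_flag hS v0 i))⟩
    intro hd
    apply h1
    have h3 := Subgroup.index_map_dvd ((S : Subgroup G).subgroupOf (normalizer (SA φ : Set G)))
      (f := (movesHom hS hF).rangeRestrict) (movesHom hS hF).rangeRestrict_surjective
    rw [h2] at h3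
    exact hd.trans h3
  · -- solubility
    obtain ⟨K, hK⟩ : ∃ K, K = normalizer (SA φ : Set G) ⊓ cz (zc φ) := ⟨_, rfl⟩
    haveI : Group.IsSolvable ↥(cz (zc φ)) := hS.sol
    haveI : Group.IsSolvable ↥K := Group.isSolvable_of_isSolvable_injective
      (f := Subgroup.inclusion (hK ▸ inf_le_right : K ≤ cz (zc φ))) (Subgroup.inclusion_injective _)
    let f : ↥K →* PV := (movesHom hS hF).comp (Subgroup.inclusion (hK ▸ inf_le_left))
    have hfr : f.range = autX hS hF ⊓ MulAction.stabilizer PV vz := by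
      ext σ
      constructor
      · rintro ⟨n, rfl⟩
        refine ⟨⟨_, rfl⟩, ?_⟩
        have hn : (n : G) ∈ cz (zc φ) := (hK ▸ inf_le_right : K ≤ cz (zc φ)) n.2
        exact (moves_fix hS (moves_hom hS hF _) vz).2 hn
      · rintro ⟨hσ, hz⟩
        obtain ⟨n, hn, h⟩ := (mem_autX hS hF).1 hσ
        refine ⟨⟨n, hK ▸ ⟨hn, (moves_fix hS h vz).1 hz⟩⟩, ?_⟩
        exact (moves_hom hS hF ⟨n, hn⟩).unique hS h
    rw [← hfr]
    exact Group.isSolvable_of_surjective f.rangeRestrict_surjective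

/-- The two notions of rotation agree. -/
theorem rot_iff (hS : Setup S φ) (hF : Facts S φ) : Rot φ ↔ RotX (autX hS hF) := by
  constructor
  · rintro ⟨n, ⟨hn, hnz⟩, h⟩
    obtain ⟨σ, hσ⟩ := exists_moves hS hF hn
    refine ⟨σ, ⟨(mem_autX hS hF).2 ⟨n, hn, hσ⟩, (moves_fix hS hσ vz).2 hnz⟩, fun i => ?_⟩
    obtain ⟨a, ha, c, hc, e⟩ := h i
    obtain ⟨v, rfl⟩ := (hF.mem_A a).1 ha
    have h1 : Moves φ (cj n (φ (v0, flag i))) (σ * pf i * σ⁻¹) := (hσ.mul (moves_flag hS v0 i)).mul hσ.inv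
    rw [e] at h1
    have h2 := ((moves_flag hS v0 (i + 1)).mul (moves_trivial hS v)).mul ((moves_one_iff hS hF).2 hc)
    rw [mul_one, mul_one] at h2
    exact h1.unique hS h2
  · rintro ⟨ρ, ⟨hρX, hρz⟩, hρ⟩
    obtain ⟨n, hn, h⟩ := (mem_autX hS hF).1 hρX
    refine ⟨n, ⟨hn, (moves_fix hS h vz).1 hρz⟩, fun i => ⟨1, (SA φ).one_mem,
      (φ (v0, flag (i + 1)))⁻¹ * cj n (φ (v0, flag i)), ?_, by rw [mul_one, mul_inv_cancel_left]⟩⟩
    refine (moves_one_iff hS hF).1 ?_
    have h1 := (moves_flag hS v0 (i + 1)).inv.mul ((h.mul (moves_flag hS v0 i)).mul h.inv)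
    rwa [hρ, inv_mul_cancel] at h1

theorem ztype_iff (hS : Setup S φ) (hF : Facts S φ) (v : Vec) :
    ZType φ (av φ v) ↔ Orb (autX hS hF) v := by
  constructor
  · intro hz
    obtain ⟨g, hg⟩ := isConj_iff.1 hz
    obtain ⟨n, hn, e⟩ := hF.fus_A (zc φ) ((hF.mem_A _).2 ⟨vz, rfl⟩) g ((hF.mem_A _).2 ⟨v, hg.symm⟩)
    obtain ⟨σ, hσ⟩ := exists_moves hS hF hn
    exact ⟨σ, (mem_autX hS hF).2 ⟨n, hn, hσ⟩, av_inj hS ((hσ vz).symm.trans (e.trans hg))⟩
  · rintro ⟨σ, hσ, rfl⟩
    obtain ⟨n, -, h⟩ := (mem_autX hS hF).1 hσ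
    exact isConj_iff.2 ⟨n, h vz⟩

end CfsgLib.AEightSyl
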