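import Cfsg.Agent.Lib.AEightSyl.Pieces
import Cfsg.Agent.Lib.Base.Cores
import Cfsg.Agent.Lib.Involutions.ZStar.Main
import Cfsg.Agent.Lib.Involutions.Isolated

/-!
# S2918, piece E: the centraliser of a non-central involution

No involution of `R ∖ A` is fused into `A` inside `C(t)`, so a transfer gives a subgroup `H₀` of
index two with Sylow subgroup `A`; the fixed points of `d` on `A` are then isolated in `H₀`.
-/

set_option autoImplicit false
set_option linter.style.haveILetI false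
set_option linter.unusedSectionVars false

namespace CfsgLib.AEightSyl

open Cfsg Subgroup CfsgLib.L34Sylow

universe u

variable {G : Type u} [Group G] [Finite G] {S : Sylow 2 G} {φ : El → G}

namespace CentTProof

theorem two_facts : (Multiplicative.ofAdd (1 : ZMod 2) ≠ 1) ∧
    (∀ a : Multiplicative (ZMod 2), a * a = 1) ∧
    (∀ a b : Multiplicative (ZMod 2), a ≠ 1 → b ≠ 1 → a * b = 1) ∧
    (∀ a b : Multiplicative (ZMod 2), a ≠ 1 → b = 1 ∨ b = a) := by
  decide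

/-- A transfer on a subgroup of odd index with a parity invariant under fusion. -/
theorem transfer_parity {C : Type u} [Group C] [Finite C] {R : Subgroup C}
    (χ : R →* Multiplicative (ZMod 2)) (hodd : Odd R.index)
    (key : ∀ (x y : R) (g : C), (y : C) = g⁻¹ * x * g → χ y = χ x) :
    ∃ τ : C →* Multiplicative (ZMod 2), ∀ x : R, τ (x : C) = χ x := by
  classical
  have := Fintype.ofFinite C
  haveI : R.FiniteIndex := ⟨index_ne_zero_of_finite⟩
  refine ⟨MonoidHom.transfer χ, fun x => ?_⟩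
  rw [MonoidHom.transfer_eq_prod_quotient_orbitRel_zpowers_quot]
  refine (Finset.prod_congr rfl fun q _ => key
    (x ^ Function.minimalPeriod ((x : C) • ·) q.out) _ q.out.out ?_).trans ?_
  · rw [Subgroup.coe_pow]
  · simp only [map_pow]
    rw [Finset.prod_pow_eq_pow_sum, ← index_eq_sum_minimalPeriod R (x : C)]
    obtain ⟨k, hk⟩ := hodd
    have h2 := two_facts.2.1
    rw [hk, pow_succ, pow_mul, sq, h2, one_pow, one_mul]

theorem commute_of_emul (hS : Setup S φ) {e f : El} (h : emul e f = emul f e) :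
    φ e * φ f = φ f * φ e := by rw [hS.mul, hS.mul, h]

theorem phi_one (hS : Setup S φ) : φ (v0, t0) = 1 := by
  have h := hS.mul (v0, t0) (v0, t0)
  rw [show emul (v0, t0) (v0, t0) = (v0, t0) by decide +kernel] at h
  exact mul_eq_right.1 h

theorem flag_inv (hS : Setup S φ) (i : Fin 3) : (φ (v0, flag i))⁻¹ = φ (v0, flag i) := by
  refine inv_eq_of_mul_eq_one_right ?_
  rw [hS.mul, show emul (v0, flag i) (v0, flag i) = (v0, t0) by revert i; decide +kernel,
    phi_one hS]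

theorem flag_ne (i : Fin 3) : flag i ≠ t0 := by revert i; decide +kernel

theorem flag_inj : ∀ i j : Fin 3, flag i = flag j → i = j := by decide +kernel

theorem flag_not_mem (hS : Setup S φ) (hF : Facts S φ) (v : Vec) (i : Fin 3) :
    φ (v, flag i) ∉ SA φ := fun h => by
  obtain ⟨w, hw⟩ := (hF.mem_A _).1 h
  exact flag_ne i (congrArg Prod.snd (hS.inj hw)).symm

theorem line_check : ∀ k : Fin 3, ((lineV k).all fun v => (lineV k).all fun w =>
    decide (v = v0) || decide (v = vz) || decide (w = v0) || decide (w = vz) || decide (w = v) ||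
      decide (emul (emul (v0, flag (k + 1)) (v, t0)) (v0, flag (k + 1)) = (w, t0))) = true := by
  decide +kernel

theorem line_conj (k : Fin 3) (v : Vec) (hv : v ∈ lineV k) (w : Vec) (hw : w ∈ lineV k)
    (h1 : v ≠ v0) (h2 : v ≠ vz) (h3 : w ≠ v0) (h4 : w ≠ vz) :
    w = v ∨ emul (emul (v0, flag (k + 1)) (v, t0)) (v0, flag (k + 1)) = (w, t0) := by
  have h := line_check k
  simp only [List.all_eq_true, Bool.or_eq_true, decide_eq_true_eq] at h
  have := h v hv w hw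
  tauto

theorem vz_line : ∀ k : Fin 3, vz ∈ lineV k ∧ v0 ∈ lineV k := by decide +kernel

variable (hS : Setup S φ) (hF : Facts S φ) {k : Fin 3} {v : Vec}

include hS hF

theorem mem_A_of (w : Vec) : av φ w ∈ SA φ := (hF.mem_A _).2 ⟨w, rfl⟩

theorem comm_A {a b : G} (ha : a ∈ SA φ) (hb : b ∈ SA φ) : a * b = b * a := by
  haveI := hF.elem_A.1
  exact congrArg Subtype.val (mul_comm' (⟨a, ha⟩ : SA φ) ⟨b, hb⟩)

theorem le_czA {a : G} (ha : a ∈ SA φ) : SA φ ≤ cz a := fun _ hb =>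
  mem_centralizer_singleton_iff.2 (comm_A hS hF hb ha)

theorem A_le_R : SA φ ≤ SR φ k := fun g hg => by
  obtain ⟨w, rfl⟩ := (hF.mem_A g).1 hg
  exact (hF.mem_R k _).2 ⟨w, Or.inl rfl⟩

theorem isPGroup_A : IsPGroup 2 (SA φ) :=
  IsPGroup.of_card (n := 4) (by rw [hF.card_A]; norm_num)

theorem isPGroup_R : IsPGroup 2 (SR φ k) :=
  IsPGroup.of_card (n := 5) (by rw [hF.card_R]; norm_num)

theorem E_le_R : SE φ k ≤ SR φ k := fun g hg => by
  obtain ⟨w, _, h⟩ := (hF.mem_E k g).1 hg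
  exact (hF.mem_R k g).2 ⟨w, h⟩

theorem S_le_czz : (S : Subgroup G) ≤ cz (zc φ) := fun g hg =>
  mem_centralizer_singleton_iff.2
    ((hF.center (zc φ) (hS.mem _)).2 (Or.inr rfl) g hg).symm

theorem R_le_czz : SR φ k ≤ cz (zc φ) := (hF.le_S.2.2 k).trans (S_le_czz hS hF)

variable (hv : v ∈ lineV k) (h0 : v ≠ v0) (hz : v ≠ vz) (ht : ¬ ZType φ (av φ v))

include hv h0 hz

theorem R_le : SR φ k ≤ cz (av φ v) := by
  rw [← hF.cent_line k v hv h0 hz]
  exact inf_le_right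

include ht

theorem odd_index : ¬ 2 ∣ ((SR φ k).subgroupOf (cz (av φ v))).index := by
  haveI : Fact (Nat.Prime 2) := ⟨Nat.prime_two⟩
  intro h
  set R' := (SR φ k).subgroupOf (cz (av φ v))
  have hR' : Nat.card R' = 32 := by
    rw [Nat.card_congr (subgroupOfEquivOfLe (R_le hS hF hv h0 hz)).toEquiv, hF.card_R]
  have h64 : 2 ^ 6 ∣ Nat.card ↥(cz (av φ v)) := by
    rw [← R'.card_mul_index, hR']
    exact (show 2 ^ 6 = 32 * 2 by norm_num) ▸ Nat.mul_dvd_mul_left 32 h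
  obtain ⟨P, hP⟩ := (IsPGroup.of_card (n := 5) (by rw [hR']; norm_num) :
    IsPGroup 2 R').exists_le_sylow
  have hP64 : 64 ≤ Nat.card (P : Subgroup ↥(cz (av φ v))) :=
    Nat.le_of_dvd Nat.card_pos
      ((show (2 : ℕ) ^ 6 = 64 by norm_num) ▸ P.pow_dvd_card_of_pow_dvd_card h64)
  set T := (P : Subgroup ↥(cz (av φ v))).map (cz (av φ v)).subtype
  obtain ⟨Q, hQ⟩ := (P.isPGroup'.map _ : IsPGroup 2 T).exists_le_sylow
  obtain ⟨g, hg⟩ := MulAction.exists_smul_eq G Q S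
  have hSg : (S : Subgroup G) = (Q : Subgroup G).map (MulAut.conj g).toMonoidHom := by
    rw [← hg]; rfl
  have hQcard : Nat.card (Q : Subgroup G) = 64 := by
    rw [← hF.card_S]
    exact (Sylow.card_eq_multiplicity Q).trans (Sylow.card_eq_multiplicity S).symm
  have hTQ : T = (Q : Subgroup G) := eq_of_le_of_card_ge hQ (by
    rw [Subgroup.card_map_of_injective (subtype_injective _)]
    omega)
  have htT : av φ v ∈ T :=
    ⟨⟨av φ v, mem_centralizer_singleton_iff.2 rfl⟩,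
      hP (mem_subgroupOf.2 (A_le_R hS hF (mem_A_of hS hF v))), rfl⟩
  have hgS : cj g (av φ v) ∈ (S : Subgroup G) := by
    rw [hSg]; exact ⟨_, hTQ.le htT, rfl⟩
  have hcen : ∀ h ∈ (S : Subgroup G), cj g (av φ v) * h = h * cj g (av φ v) := by
    intro h hh
    rw [hSg] at hh
    obtain ⟨q, hq, rfl⟩ := hh
    obtain ⟨c, -, rfl⟩ := hTQ.ge hq
    have hc := mem_centralizer_singleton_iff.1 c.2
    show g * av φ v * g⁻¹ * (g * c * g⁻¹) = g * c * g⁻¹ * (g * av φ v * g⁻¹)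
    calc g * av φ v * g⁻¹ * (g * c * g⁻¹) = g * (av φ v * c) * g⁻¹ := by group
      _ = g * ((c : G) * av φ v) * g⁻¹ := by rw [hc]
      _ = _ := by group
  rcases (hF.center _ hgS).1 hcen with e | e
  · have e1 : φ (v, t0) = φ (v0, t0) := by
      rw [phi_one hS]
      exact conj_eq_one_iff.1 e
    exact h0 (congrArg Prod.fst (hS.inj e1))
  · exact ht (isConj_iff.2 ⟨g⁻¹, by rw [← e]; simp only [cj]; group⟩)

theorem two_part : ¬ 64 ∣ Nat.card ↥(cz (av φ v)) := fun h => by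
  refine odd_index hS hF hv h0 hz ht ?_
  set R' := (SR φ k).subgroupOf (cz (av φ v))
  rw [← R'.card_mul_index, Nat.card_congr (subgroupOfEquivOfLe (R_le hS hF hv h0 hz)).toEquiv,
    hF.card_R] at h
  exact Nat.dvd_of_mul_dvd_mul_left (by norm_num : 0 < 32)
    ((show 64 = 32 * 2 by norm_num) ▸ h)

/-- A two-subgroup of `C(t)` containing `A` is moved into `R` by an element normalising `A`. -/
theorem into_R {X : Subgroup G} (hX : X ≤ cz (av φ v)) (hXp : IsPGroup 2 X) (hAX : SA φ ≤ X) :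
    ∃ h ∈ normalizer (SA φ : Set G) ⊓ cz (av φ v), ∀ x ∈ X, h * x * h⁻¹ ∈ SR φ k := by
  haveI : Fact (Nat.Prime 2) := ⟨Nat.prime_two⟩
  have hRC := R_le hS hF hv h0 hz
  obtain ⟨P, hP⟩ : ∃ P : Sylow 2 ↥(cz (av φ v)),
      (P : Subgroup ↥(cz (av φ v))) = (SR φ k).subgroupOf (cz (av φ v)) :=
    ⟨((isPGroup_R hS hF).comap_subtype).toSylow (odd_index hS hF hv h0 hz ht), rfl⟩
  obtain ⟨Q, hQ⟩ :=
    (hXp.comap_subtype : IsPGroup 2 (X.subgroupOf (cz (av φ v)))).exists_le_sylow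
  obtain ⟨c, hc⟩ := MulAction.exists_smul_eq ↥(cz (av φ v)) Q P
  have hin : ∀ x ∈ X, (c : G) * x * (c : G)⁻¹ ∈ SR φ k := by
    intro x hx
    have h1 : (MulAut.conj c) ⟨x, hX hx⟩ ∈ (P : Subgroup ↥(cz (av φ v))) := by
      rw [← hc]
      exact ⟨_, hQ (mem_subgroupOf.2 hx), rfl⟩
    rw [hP, mem_subgroupOf] at h1
    simpa using h1
  refine ⟨c, mem_inf.2 ⟨?_, c.2⟩, hin⟩
  rw [mem_normalizer_iff_map_conj_eq]
  refine hF.weak_A _ ?_
  rintro _ ⟨a, ha, rfl⟩
  exact hF.le_S.2.2 k (by simpa using hin a (hAX ha))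

/-- Inside `K ≤ C(t)` containing `A`, two-subgroups move into `R`. -/
theorem into_R_within {K X : Subgroup G} (hK : K ≤ cz (av φ v)) (hAK : SA φ ≤ K) (hX : X ≤ K)
    (hXp : IsPGroup 2 X) :
    ∃ h ∈ normalizer (SA φ : Set G) ⊓ cz (av φ v), ∃ c ∈ K,
      ∀ x ∈ X, h * (c * x * c⁻¹) * h⁻¹ ∈ SR φ k := by
  haveI : Fact (Nat.Prime 2) := ⟨Nat.prime_two⟩
  obtain ⟨P, hP⟩ :=
    ((isPGroup_A hS hF).comap_subtype : IsPGroup 2 ((SA φ).subgroupOf K)).exists_le_sylow
  obtain ⟨Q, hQ⟩ := (hXp.comap_subtype : IsPGroup 2 (X.subgroupOf K)).exists_le_sylow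
  obtain ⟨c, hc⟩ := MulAction.exists_smul_eq K Q P
  obtain ⟨h, hh, hin⟩ := into_R hS hF hv h0 hz ht (X := (P : Subgroup K).map K.subtype)
    ((map_subtype_le _).trans hK) (P.isPGroup'.map _)
    (fun a ha => ⟨⟨a, hAK ha⟩, hP (mem_subgroupOf.2 ha), rfl⟩)
  refine ⟨h, hh, c, c.2, fun x hx => hin _ ?_⟩
  refine ⟨MulAut.conj c ⟨x, hX hx⟩, ?_, by simp⟩
  rw [← hc]
  exact ⟨_, hQ (mem_subgroupOf.2 hx), rfl⟩

/-- The involutions of the line other than `z` are not conjugate to `z`. -/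
theorem not_ztype_line {w : Vec} (hw : w ∈ lineV k) (hw0 : w ≠ v0) (hwz : w ≠ vz) :
    ¬ ZType φ (av φ w) := by
  rcases line_conj k v hv w hw h0 hz hw0 hwz with rfl | e
  · exact ht
  · intro hc
    refine ht (IsConj.trans hc (isConj_iff.2 ⟨φ (v0, flag (k + 1)), ?_⟩).symm)
    rw [flag_inv hS, hS.mul, hS.mul, e]

variable (hB : BigCent φ)

include hB

/-- No involution of `R ∖ A` is fused into `A` in the centraliser. -/
theorem no_fusion {u g : G} (hu : u ∈ SR φ k) (huA : u ∉ SA φ) (hu2 : u * u = 1)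
    (hg : g ∈ cz (av φ v)) : g * u * g⁻¹ ∉ SA φ := by
  intro ha
  have hRC := R_le hS hF hv h0 hz
  -- `u` lies in the elementary subgroup of order eight
  have huE : u ∈ SE φ k := by
    rcases hF.invol u (hF.le_S.2.2 k hu) hu2 with h | ⟨i, w, hw, rfl⟩
    · exact absurd h huA
    · obtain ⟨w', h | h⟩ := (hF.mem_R k _).1 hu
      · exact absurd ((hF.mem_A _).2 ⟨w', h⟩) huA
      · obtain rfl := flag_inj _ _ (congrArg Prod.snd (hS.inj h))
        exact (hF.mem_E k _).2 ⟨w, hw, Or.inr rfl⟩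
  have hzE : zc φ ∈ SE φ k := (hF.mem_E k _).2 ⟨vz, (vz_line k).1, Or.inl rfl⟩
  set a := g * u * g⁻¹ with hadef
  -- conjugate the whole of it into `R`
  have hgE : (SE φ k).map (MulAut.conj g).toMonoidHom ≤ cz (av φ v) ⊓ cz a := by
    rintro _ ⟨x, hx, rfl⟩
    refine mem_inf.2 ⟨mul_mem (mul_mem hg (hRC (E_le_R hS hF hx))) (inv_mem hg),
      mem_centralizer_singleton_iff.2 ?_⟩
    haveI := (hF.elem_E k).1
    have e : x * u = u * x := congrArg Subtype.val (mul_comm' (⟨x, hx⟩ : SE φ k) ⟨u, huE⟩)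
    show g * x * g⁻¹ * a = a * (g * x * g⁻¹)
    calc g * x * g⁻¹ * a = g * (x * u) * g⁻¹ := by rw [hadef]; group
      _ = g * (u * x) * g⁻¹ := by rw [e]
      _ = _ := by rw [hadef]; group
  obtain ⟨h, hh, c, hcK, hin⟩ := into_R_within hS hF hv h0 hz ht
    (K := cz (av φ v) ⊓ cz a) inf_le_left
    (le_inf (le_czA hS hF (mem_A_of hS hF v)) (le_czA hS hF ha)) hgE
    ((IsPGroup.of_card (n := 3) (by rw [hF.card_E]; norm_num) : IsPGroup 2 (SE φ k)).map _)
  set g₁ := h * c * g with hg₁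
  have hg₁C : g₁ ∈ cz (av φ v) := mul_mem (mul_mem (mem_inf.1 hh).2 (mem_inf.1 hcK).1) hg
  have hE₁ : ∀ x ∈ SE φ k, g₁ * x * g₁⁻¹ ∈ SR φ k := by
    intro x hx
    have h1 := hin _ ⟨x, hx, rfl⟩
    rwa [show h * (c * (MulAut.conj g).toMonoidHom x * c⁻¹) * h⁻¹ = g₁ * x * g₁⁻¹ by
      rw [hg₁, MulEquiv.coe_toMonoidHom, MulAut.conj_apply]; group] at h1
  have hu₁ : g₁ * u * g₁⁻¹ ∈ SA φ := by
    have hc2 : c * a * c⁻¹ = a := by
      rw [mem_centralizer_singleton_iff.1 hcK.2]; group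
    rw [show g₁ * u * g₁⁻¹ = h * (c * a * c⁻¹) * h⁻¹ by rw [hg₁, hadef]; group, hc2]
    exact (mem_normalizer_iff.1 (mem_inf.1 hh).1 a).1 ha
  -- the image of `z` lies in `A`
  set z' := g₁ * zc φ * g₁⁻¹ with hz'
  have hz'Z : ZType φ z' := isConj_iff.2 ⟨g₁, rfl⟩
  have hz'R : z' ∈ SR φ k := hE₁ _ hzE
  have hz2 : zc φ * zc φ = 1 := by
    rw [← sq]; exact hF.elem_A.2 _ (mem_A_of hS hF vz)
  have hz'2 : z' * z' = 1 := by
    calc z' * z' = g₁ * (zc φ * zc φ) * g₁⁻¹ := by rw [hz']; group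
      _ = 1 := by rw [hz2]; group
  have hz'A : z' ∈ SA φ := by
    rcases hF.invol z' (hF.le_S.2.2 k hz'R) hz'2 with h1 | ⟨i, w, hw, e⟩
    · exact h1
    · by_contra hnot
      obtain ⟨w', h' | h'⟩ := (hF.mem_R k _).1 hz'R
      · exact hnot ((hF.mem_A _).2 ⟨w', h'⟩)
      · obtain rfl := flag_inj _ _ (congrArg Prod.snd (hS.inj (h'.trans e.symm)))
        obtain ⟨c', -, w'', hw'', hw0, hwz, ec⟩ := hB.fuse k w hw
        refine not_ztype_line hS hF hv h0 hz ht hw'' hw0 hwz ?_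
        rw [← e] at hz'Z
        exact hz'Z.trans (isConj_iff.2 ⟨c', ec⟩)
  -- the centraliser of `z'` in `C(t)` contains a conjugate of `R`
  obtain ⟨n, hn, c₂, hc₂, hin₂⟩ := into_R_within hS hF hv h0 hz ht
    (K := cz (av φ v) ⊓ cz z') (X := (SR φ k).map (MulAut.conj g₁).toMonoidHom) inf_le_left
    (le_inf (le_czA hS hF (mem_A_of hS hF v)) (le_czA hS hF hz'A))
    (by
      rintro _ ⟨x, hx, rfl⟩
      refine mem_inf.2 ⟨mul_mem (mul_mem hg₁C (hRC hx)) (inv_mem hg₁C),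
        mem_centralizer_singleton_iff.2 ?_⟩
      have e : x * zc φ = zc φ * x := mem_centralizer_singleton_iff.1 (R_le_czz hS hF hx)
      show g₁ * x * g₁⁻¹ * z' = z' * (g₁ * x * g₁⁻¹)
      calc g₁ * x * g₁⁻¹ * z' = g₁ * (x * zc φ) * g₁⁻¹ := by rw [hz']; group
        _ = g₁ * (zc φ * x) * g₁⁻¹ := by rw [e]
        _ = _ := by rw [hz']; group)
    ((isPGroup_R hS hF).map _)
  set g₂ := n * c₂ * g₁ with hg₂
  have hR₂ : (SR φ k).map (MulAut.conj g₂).toMonoidHom = SR φ k := by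
    refine eq_of_le_of_card_ge ?_
      (Subgroup.card_map_of_injective (MulAut.conj g₂).injective).ge
    rintro _ ⟨x, hx, rfl⟩
    have h1 := hin₂ _ ⟨x, hx, rfl⟩
    rw [show n * (c₂ * (MulAut.conj g₁).toMonoidHom x * c₂⁻¹) * n⁻¹ =
      (MulAut.conj g₂).toMonoidHom x by
        rw [hg₂]; simp only [MulEquiv.coe_toMonoidHom, MulAut.conj_apply]; group] at h1
    exact h1
  set z'' := n * z' * n⁻¹ with hz''
  have hc₂z : c₂ * z' * c₂⁻¹ = z' := by
    rw [mem_centralizer_singleton_iff.1 hc₂.2]; group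
  have hz''eq : z'' = g₂ * zc φ * g₂⁻¹ := by
    calc z'' = n * (c₂ * z' * c₂⁻¹) * n⁻¹ := by rw [hc₂z]
      _ = _ := by rw [hg₂, hz']; group
  have hz''A : z'' ∈ SA φ := (mem_normalizer_iff.1 (mem_inf.1 hn).1 z').1 hz'A
  -- it is centralised by `R`, so it is `z`
  have hflag : φ (v0, flag k) ∈ cz z'' := by
    have h1 : φ (v0, flag k) ∈ (SR φ k).map (MulAut.conj g₂).toMonoidHom := by
      rw [hR₂]; exact (hF.mem_R k _).2 ⟨v0, Or.inr rfl⟩
    obtain ⟨x, hx, ex⟩ := h1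
    rw [← ex]
    refine mem_centralizer_singleton_iff.2 ?_
    have e : x * zc φ = zc φ * x := mem_centralizer_singleton_iff.1 (R_le_czz hS hF hx)
    rw [hz''eq]
    show g₂ * x * g₂⁻¹ * _ = _ * (g₂ * x * g₂⁻¹)
    calc g₂ * x * g₂⁻¹ * (g₂ * zc φ * g₂⁻¹) = g₂ * (x * zc φ) * g₂⁻¹ := by group
      _ = g₂ * (zc φ * x) * g₂⁻¹ := by rw [e]
      _ = _ := by group
  have hz''Z : ZType φ z'' := isConj_iff.2 ⟨g₂, hz''eq.symm⟩
  obtain ⟨w, hw, ew⟩ : ∃ w ∈ lineV k, φ (w, t0) = z'' := by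
    refine (hF.mem_L k _).1 ?_
    rw [← (hF.cent_out k v0 (vz_line k).2).2.1]
    exact ⟨hz''A, mem_centralizer_singleton_iff.2 (mem_centralizer_singleton_iff.1 hflag).symm⟩
  have hzz : z'' = zc φ := by
    by_cases hw0 : w = v0
    · rw [← ew, hw0, phi_one hS] at hz''Z
      have h1 : φ (vz, t0) = φ (v0, t0) := by
        rw [phi_one hS]; exact (isConj_one_left.1 hz''Z)
      exact absurd (congrArg Prod.fst (hS.inj h1)) (by decide)
    by_cases hwz : w = vz
    · rw [← ew, hwz]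
    rw [← ew] at hz''Z
    exact absurd hz''Z (not_ztype_line hS hF hv h0 hz ht hw hw0 hwz)
  -- the conjugating element may be taken in `C(z)`
  set g₃ := n * g₁ with hg₃
  have hg₃ : g₃ ∈ cz (zc φ) ⊓ cz (av φ v) := by
    refine ⟨mem_centralizer_singleton_iff.2 ?_, mul_mem (mem_inf.1 hn).2 hg₁C⟩
    have e : g₃ * zc φ * g₃⁻¹ = zc φ := by
      conv_rhs => rw [← hzz, hz'', hz']
      rw [hg₃]; group
    calc g₃ * zc φ = g₃ * zc φ * g₃⁻¹ * g₃ := by group
      _ = zc φ * g₃ := by rw [e]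
  have hu₃ : g₃ * u * g₃⁻¹ ∈ SA φ := by
    rw [show g₃ * u * g₃⁻¹ = n * (g₁ * u * g₁⁻¹) * n⁻¹ by
      show n * g₁ * u * (n * g₁)⁻¹ = _
      group]
    exact (mem_normalizer_iff.1 (mem_inf.1 hn).1 _).1 hu₁
  obtain ⟨o, ho, r, hr, e⟩ := hB.cent k v hv h0 hz g₃ hg₃
  rw [e, show o * r * u * (o * r)⁻¹ = o * (r * u * r⁻¹) * o⁻¹ by group] at hu₃
  set u' := r * u * r⁻¹ with hu'
  have hu'R : u' ∈ SR φ k := mul_mem (mul_mem hr hu) (inv_mem hr)
  have hu'A : u' ∉ SA φ := fun h1 => huA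
    ((mem_normalizer_iff.1 (hF.norm_S.1 (hF.le_S.2.2 k hr)) u).2 h1)
  refine hu'A ?_
  have hu'z : u' ∈ cz (zc φ) := R_le_czz hS hF hu'R
  have hcore : o * u' * o⁻¹ * u'⁻¹ ∈ core (zc φ) := by
    rw [show o * u' * o⁻¹ * u'⁻¹ = o * (u' * o⁻¹ * u'⁻¹) by group]
    obtain ⟨o', ho', rfl⟩ := ho
    refine mul_mem ⟨o', ho', rfl⟩ ?_
    exact ⟨(⟨u', hu'z⟩ : ↥(cz (zc φ))) * o'⁻¹ * (⟨u', hu'z⟩ : ↥(cz (zc φ)))⁻¹,
      ((Cfsg.pPrimeCore_normal 2 _).conj_mem _ (inv_mem ho') _), rfl⟩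
  have hone : o * u' * o⁻¹ * u'⁻¹ = 1 := by
    refine orderOf_eq_one_iff.1 (Nat.eq_one_of_dvd_coprimes ?_
      (orderOf_dvd_natCard _ hcore) (orderOf_dvd_natCard _
        (mul_mem (hF.le_S.1 hu₃) (inv_mem (hF.le_S.2.2 k hu'R)))))
    rw [hF.card_S, show (64 : ℕ) = 2 ^ 6 by norm_num]
    exact (Nat.coprime_two_right.2 (Nat.coprime_two_right.1
      (Base.coprime_card_map_pPrimeCore _))).pow_right 6
  rw [← mul_inv_eq_one.1 hone]
  exact hu₃

end CentTProof

open CentTProof in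
/-- Piece E. -/
theorem stmtCentT : StmtCentT.{u} := by
  intro G _ _ S φ hS hF _ hB k v d hv h0 hz ht hd
  classical
  haveI : Fact (Nat.Prime 2) := ⟨Nat.prime_two⟩
  set t := av φ v with htdef
  set C := cz t with hC
  have htA : t ∈ SA φ := mem_A_of hS hF v
  have hAC : SA φ ≤ C := le_czA hS hF htA
  have hRC : SR φ k ≤ C := R_le hS hF hv h0 hz
  let R' : Subgroup ↥C := (SR φ k).subgroupOf C
  let ε : Multiplicative (ZMod 2) := Multiplicative.ofAdd 1
  have hε : ε ≠ 1 := two_facts.1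
  have hAR : SA φ ≤ SR φ k := A_le_R hS hF
  have hidx : ((SA φ).subgroupOf (SR φ k)).index = 2 := by
    have h := ((SA φ).subgroupOf (SR φ k)).card_mul_index
    rw [Nat.card_congr (subgroupOfEquivOfLe hAR).toEquiv, hF.card_A, hF.card_R] at h
    omega
  let χ : R' →* Multiplicative (ZMod 2) :=
    MonoidHom.mk' (fun x => if ((x : ↥C) : G) ∈ SA φ then 1 else ε) fun x y => by
      have h1 := mul_mem_iff_of_index_two hidx (a := ⟨_, x.2⟩) (b := ⟨_, y.2⟩)
      simp only [mem_subgroupOf] at h1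
      have h2 : ε * ε = 1 := two_facts.2.1 ε
      by_cases hx : ((x : ↥C) : G) ∈ SA φ <;> by_cases hy : ((y : ↥C) : G) ∈ SA φ <;> simp_all
  have key : ∀ (x y : R') (g : ↥C), (y : ↥C) = g⁻¹ * x * g → χ y = χ x := by
    intro x y g e
    have e' : ((y : ↥C) : G) = (g : G)⁻¹ * ((x : ↥C) : G) * g := by
      rw [e]; simp
    have huR' : ((x : ↥C) : G) ∈ SR φ k ∧ ((y : ↥C) : G) ∈ SR φ k :=
      ⟨mem_subgroupOf.1 x.2, mem_subgroupOf.1 y.2⟩
    show (if ((y : ↥C) : G) ∈ SA φ then (1 : Multiplicative (ZMod 2)) else ε) =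
      if ((x : ↥C) : G) ∈ SA φ then 1 else ε
    refine if_congr ⟨fun hy => ?_, fun hx => ?_⟩ rfl rfl
    · by_contra hx
      have hy2 : ((y : ↥C) : G) * ((y : ↥C) : G) = 1 := by
        rw [← sq]; exact hF.elem_A.2 _ hy
      refine no_fusion hS hF hv h0 hz ht hB huR'.1 hx ?_ (inv_mem g.2) ?_
      · rw [show ((x : ↥C) : G) = (g : G) * ((y : ↥C) : G) * (g : G)⁻¹ by rw [e']; group]
        calc _ = (g : G) * (((y : ↥C) : G) * ((y : ↥C) : G)) * (g : G)⁻¹ := by group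
          _ = 1 := by rw [hy2]; group
      · rw [inv_inv, ← e']
        exact hy
    · by_contra hy
      have hx2 : ((x : ↥C) : G) * ((x : ↥C) : G) = 1 := by
        rw [← sq]; exact hF.elem_A.2 _ hx
      refine no_fusion hS hF hv h0 hz ht hB huR'.2 hy ?_ g.2 ?_
      · rw [e']
        calc _ = (g : G)⁻¹ * (((x : ↥C) : G) * ((x : ↥C) : G)) * g := by group
          _ = 1 := by rw [hx2]; group
      · rw [show (g : G) * ((y : ↥C) : G) * (g : G)⁻¹ = ((x : ↥C) : G) by rw [e']; group]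
        exact hx
  obtain ⟨τ, hτ⟩ := transfer_parity χ
    (Nat.odd_iff.2 (Nat.two_dvd_ne_zero.1 (odd_index hS hF hv h0 hz ht))) key
  have hτR : ∀ x : ↥C, (x : G) ∈ SR φ k → (τ x = 1 ↔ (x : G) ∈ SA φ) := by
    intro x hx
    have h1 := hτ ⟨x, mem_subgroupOf.2 hx⟩
    rw [h1]
    show (if (x : G) ∈ SA φ then (1 : Multiplicative (ZMod 2)) else ε) = 1 ↔ _
    split_ifs with h2 <;> simp [h2, hε]
  have hodd1 : ∀ (a : Multiplicative (ZMod 2)) (m : ℕ), Odd m → a ^ m = 1 → a = 1 := by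
    intro a m ⟨j, hj⟩ h
    have h2 := two_facts.2.1
    rw [hj, pow_succ, pow_mul, sq, h2, one_pow, one_mul] at h
    exact h
  -- the centraliser of `A`
  have hCA : ∀ x : ↥C, (x : G) ∈ centralizer (SA φ : Set G) → τ x = 1 := by
    intro x hx
    obtain ⟨m, o, ho, hm⟩ := Nat.exists_eq_two_pow_mul_odd (orderOf_pos (x : G)).ne'
    refine hodd1 _ o ho ?_
    have hx' : (x : G) ^ o ∈ centralizer (SA φ : Set G) := pow_mem hx o
    have hp : IsPGroup 2 (zpowers ((x : G) ^ o)) :=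
      IsPGroup.of_card (n := m) (by
        rw [Nat.card_zpowers, orderOf_pow' _ (fun e => by simp [e] at ho), hm,
          Nat.gcd_eq_right (Dvd.intro_left _ rfl), Nat.mul_div_cancel _ (Odd.pos ho)])
    have hsup : IsPGroup 2 (SA φ ⊔ zpowers ((x : G) ^ o) : Subgroup G) :=
      (isPGroup_A hS hF).to_sup_of_normal_left' hp (zpowers_le.2
        (centralizer_le_normalizer _ hx'))
    obtain ⟨h, hh, hin⟩ := into_R hS hF hv h0 hz ht
      (sup_le hAC (zpowers_le.2 (pow_mem x.2 o))) hsup le_sup_left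
    have h2 : h * (x : G) ^ o * h⁻¹ ∈ centralizer (SA φ : Set G) := by
      refine mem_centralizer_iff.2 fun a ha => ?_
      have ha' : h⁻¹ * a * h ∈ SA φ := by
        have := (mem_normalizer_iff.1 (inv_mem (mem_inf.1 hh).1) a).1 ha
        rwa [inv_inv] at this
      have e := mem_centralizer_iff.1 hx' _ ha'
      calc a * (h * (x : G) ^ o * h⁻¹) = h * ((h⁻¹ * a * h) * (x : G) ^ o) * h⁻¹ := by group
        _ = h * ((x : G) ^ o * (h⁻¹ * a * h)) * h⁻¹ := by rw [e]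
        _ = _ := by group
    have h3 : h * (x : G) ^ o * h⁻¹ ∈ SA φ := by
      rw [← hF.cent_A]
      exact ⟨hF.le_S.2.2 k (hin _ (mem_sup_right (mem_zpowers _))), h2⟩
    have hxA : ((x ^ o : ↥C) : G) ∈ SA φ := by
      rw [SubgroupClass.coe_pow]
      exact (mem_normalizer_iff.1 (mem_inf.1 hh).1 _).2 h3
    rw [← map_pow, hτR _ (hAR hxA)]
    exact hxA
  have hdC : d ∈ C := hd.mem.2
  have hd3 : τ ⟨d, hdC⟩ = 1 := by
    refine hodd1 _ 3 (by decide) ?_
    rw [← map_pow]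
    exact hCA _ (by rw [SubgroupClass.coe_pow]; exact hd.cube)
  have huR : φ (v0, flag k) ∈ SR φ k := (hF.mem_R k _).2 ⟨v0, Or.inr rfl⟩
  have huA : φ (v0, flag k) ∉ SA φ := flag_not_mem hS hF v0 k
  have hτu : τ ⟨φ (v0, flag k), hRC huR⟩ ≠ 1 := fun h => huA ((hτR _ huR).1 h)
  set H : Subgroup ↥C := τ.ker
  set H₀ := H.map C.subtype with hH₀
  have hmem : ∀ x : ↥C, (x : G) ∈ H₀ ↔ τ x = 1 := fun x =>
    ⟨fun ⟨y, hy, e⟩ => by rw [← (Subtype.ext e : y = x)]; exact hy, fun h => ⟨x, h, rfl⟩⟩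
  have hA0 : SA φ ≤ H₀ := fun a ha => (hmem ⟨a, hAC ha⟩).2 ((hτR _ (hAR ha)).2 ha)
  refine ⟨H₀, map_subtype_le _, fun g hg => ?_, ?_, hA0, (hmem ⟨d, hdC⟩).2 hd3, ?_, ?_, ?_⟩
  · -- normal
    refine mem_normalizer_iff.2 fun x => ⟨?_, ?_⟩
    · rintro ⟨y, hy, rfl⟩
      exact ⟨⟨g, hg⟩ * y * (⟨g, hg⟩ : ↥C)⁻¹, (inferInstance : H.Normal).conj_mem _ hy _, rfl⟩
    · rintro ⟨y, hy, e⟩
      refine ⟨(⟨g, hg⟩ : ↥C)⁻¹ * y * ((⟨g, hg⟩ : ↥C)⁻¹)⁻¹,
        (inferInstance : H.Normal).conj_mem _ hy _, ?_⟩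
      show g⁻¹ * (y : G) * g⁻¹⁻¹ = x
      rw [show (y : G) = g * x * g⁻¹ from e]; group
  · -- the odd core
    rintro _ ⟨x, hx, rfl⟩
    refine (hmem x).2 (hodd1 _ (orderOf x) ?_ (by rw [← map_pow, pow_orderOf_eq_one, map_one]))
    exact (Base.odd_card_oddCore ↥C).of_dvd_nat (Subgroup.orderOf_dvd_natCard _ hx)
  · -- the supplement
    refine le_antisymm (fun g hg => ?_) (sup_le (map_subtype_le _) (zpowers_le.2 (hRC huR)))
    by_cases h : τ ⟨g, hg⟩ = 1
    · exact mem_sup_left ((hmem ⟨g, hg⟩).2 h)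
    · have h2 := two_facts.2.2.1
      have hgu := (hmem (⟨g, hg⟩ * ⟨φ (v0, flag k), hRC huR⟩)).2
        (by rw [map_mul]; exact h2 _ _ h hτu)
      rw [Subgroup.coe_mul] at hgu
      have := mul_mem (mem_sup_left (T := zpowers (φ (v0, flag k))) hgu)
        (inv_mem (mem_sup_right (S := H₀) (mem_zpowers (φ (v0, flag k)))))
      rwa [mul_inv_cancel_right] at this
  · -- the index of `A`
    intro hdvd
    refine two_part hS hF hv h0 hz ht ?_
    have h1 := Subgroup.card_mul_index H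
    have h2 : H.index = 2 := by
      rw [index_ker, show τ.range = ⊤ from (eq_top_iff' _).2 fun b => ?_]
      · simp
      · have hb := two_facts.2.2.2
        rcases hb _ b hτu with rfl | rfl
        · exact one_mem _
        · exact ⟨_, rfl⟩
    rw [← h1, h2, show Nat.card H = Nat.card H₀ from
      (Subgroup.card_map_of_injective (subtype_injective _)).symm,
      ← relIndex_bot_left (H := H₀), ← relIndex_mul_relIndex ⊥ (SA φ) H₀ bot_le hA0,
      relIndex_bot_left, hF.card_A]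
    obtain ⟨j, hj⟩ := hdvd
    exact ⟨j, by rw [hj]; ring⟩
  · -- the fixed points of `d`
    intro f hf hfd g hg
    have hfC : f ∈ C := hAC hf
    by_cases hf1 : f = 1
    · subst hf1
      rw [one_mul, inv_one, mul_one, mul_inv_cancel]
      exact one_mem _
    obtain ⟨g', hg', rfl⟩ := hg
    set F : ↥H := ⟨⟨f, hfC⟩, (hτR _ (hAR hf)).2 hf⟩
    let A' : Subgroup ↥H := ((SA φ).subgroupOf C).subgroupOf H
    have hA'mem : ∀ x : ↥H, x ∈ A' ↔ ((x : ↥C) : G) ∈ SA φ := fun x => Iff.rfl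
    have hA'p : IsPGroup 2 A' := (isPGroup_A hS hF).comap_subtype.comap_subtype
    have hA'i : ¬ 2 ∣ A'.index := by
      intro hdvd
      refine two_part hS hF hv h0 hz ht ?_
      have h1 := Subgroup.card_mul_index H
      have h2 : H.index = 2 := by
        rw [index_ker, show τ.range = ⊤ from (eq_top_iff' _).2 fun b => ?_]
        · simp
        · have hb := two_facts.2.2.2
          rcases hb _ b hτu with rfl | rfl
          · exact one_mem _
          · exact ⟨_, rfl⟩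
      obtain ⟨j, hj⟩ := hdvd
      rw [← h1, h2, ← A'.card_mul_index, hj,
        Nat.card_congr (subgroupOfEquivOfLe (fun x hx => (hτR x (hAR hx)).2 hx :
          (SA φ).subgroupOf C ≤ H)).toEquiv,
        Nat.card_congr (subgroupOfEquivOfLe hAC).toEquiv, hF.card_A]
      exact ⟨j, by ring⟩
    let P : Sylow 2 ↥H := hA'p.toSylow hA'i
    have hP : (P : Subgroup ↥H) = A' := rfl
    haveI : IsMulCommutative (P : Subgroup ↥H) := ⟨⟨fun x y => Subtype.ext (Subtype.ext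
      (Subtype.ext (comm_A hS hF ((hA'mem _).1 x.2) ((hA'mem _).1 y.2))))⟩⟩
    have hFo : orderOf F = 2 := by
      refine orderOf_eq_prime (Subtype.ext (Subtype.ext ?_)) fun e => hf1 ?_
      · simpa using hF.elem_A.2 f hf
      · simpa [F] using congrArg (fun z : ↥H => ((z : ↥C) : G)) e
    have hiso : IsIsolatedInvolution F := by
      refine Involutions.isolated_of_sylow P hFo fun x hx => ?_
      obtain ⟨n, hn, he⟩ := P.conj_eq_normalizer_conj_of_mem F x⁻¹ ((hA'mem F).2 hf)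
        (by simpa using hx)
      rw [inv_inv] at he
      rw [he]
      set m : G := (((n⁻¹ : ↥H) : ↥C) : G) with hm
      have hmA : m ∈ normalizer (SA φ : Set G) := by
        rw [mem_normalizer_iff_map_conj_eq]
        refine eq_of_le_of_card_ge ?_
          (Subgroup.card_map_of_injective (MulAut.conj m).injective).ge
        rintro _ ⟨a, ha, rfl⟩
        exact (hA'mem _).1 ((mem_normalizer_iff.1 (inv_mem hn)
          ⟨⟨a, hAC ha⟩, (hτR _ (hAR ha)).2 ha⟩).1 ha)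
      have hmC : m ∈ C := ((n⁻¹ : ↥H) : ↥C).2
      have hτm : τ ⟨m, hmC⟩ = 1 := (n⁻¹ : ↥H).2
      obtain ⟨i, e, hecase, hcz⟩ := hd.all m ⟨hmA, hmC⟩
      have he1 : e = 1 := by
        rcases hecase with h | h
        · exact h
        · exfalso
          subst h
          refine hτu ?_
          have hc := hCA (⟨(d ^ i * φ (v0, flag k))⁻¹ * m,
            mul_mem (inv_mem (mul_mem (pow_mem hdC i) (hRC huR))) hmC⟩) hcz
          rw [show (⟨(d ^ i * φ (v0, flag k))⁻¹ * m,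
            mul_mem (inv_mem (mul_mem (pow_mem hdC i) (hRC huR))) hmC⟩ : ↥C) =
            ((⟨d, hdC⟩ : ↥C) ^ i * ⟨φ (v0, flag k), hRC huR⟩)⁻¹ * ⟨m, hmC⟩ from
              Subtype.ext (by simp), map_mul, map_inv, map_mul, map_pow, hd3, hτm, one_pow,
            one_mul, mul_one, inv_eq_one] at hc
          exact hc
      rw [he1, mul_one] at hcz
      have hcf : (d ^ i)⁻¹ * m * f = f * ((d ^ i)⁻¹ * m) :=
        (mem_centralizer_iff.1 hcz f hf).symm
      have hdf : Commute (d ^ i) f :=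
        Commute.pow_left (mem_centralizer_singleton_iff.1 hfd).symm i
      have hmf : m * f = f * m := by
        calc m * f = d ^ i * ((d ^ i)⁻¹ * m * f) := by group
          _ = (d ^ i * f) * ((d ^ i)⁻¹ * m) := by rw [hcf]; group
          _ = (f * d ^ i) * ((d ^ i)⁻¹ * m) := by rw [hdf.eq]
          _ = f * m := by group
      refine Subtype.ext (Subtype.ext ?_)
      have hnm : ((n : ↥C) : G) = m⁻¹ := by rw [hm]; simp
      show (((n⁻¹ * F * n : ↥H) : ↥C) : G) = f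
      simp only [Subgroup.coe_mul]
      rw [← hm, hnm]
      show m * f * m⁻¹ = f
      rw [hmf]; group
    have hg2 := Involutions.ZStar.centralModCore hiso ⟨g', hg'⟩
    haveI : (oddCore ↥H).Characteristic := Base.pPrimeCore_characteristic 2 _
    have hle : (oddCore ↥H).map H.subtype ≤ oddCore ↥C :=
      Base.le_oddCore (by
        rw [Subgroup.card_map_of_injective (subtype_injective _)]
        exact Base.odd_card_oddCore ↥H)
    exact ⟨_, hle ⟨_, hg2, rfl⟩, rfl⟩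

end CfsgLib.AEightSyl
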