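import Cfsg.Agent.Lib.AEightSyl.Pieces
import Cfsg.Agent.Lib.StrongTwoClasses.Tools
import Cfsg.Agent.Lib.Signalizer2.ConstrainedCore
import Cfsg.Agent.Lib.PLocal.Constrained
import Cfsg.Agent.S0217
import Cfsg.Agent.Lib.FT.OddOrderTheorem

/-!
# S2918, piece G: the odd cores vanish when five involutions of `A` are central

All involution centralizers are soluble, so the cores form a signalizer functor on `A`; the
normalizer of the subgroup it generates contains the centralizer of each of its involutions and,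
as there are two classes of involutions, is the whole group.
-/

set_option autoImplicit false
set_option linter.style.haveILetI false
set_option linter.unusedSectionVars false

namespace CfsgLib.AEightSyl

open Cfsg Subgroup CfsgLib.L34Sylow CfsgLib.StrongTwoClasses

universe u

namespace FiveAux

variable {G : Type u} [Group G] [Finite G]

/-- A group which is the product of a normal soluble subgroup and a soluble subgroup. -/
theorem solv_decomp {K N B : Subgroup G} (hNK : N ≤ K) (hn : K ≤ normalizer (N : Set G))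
    (hBK : B ≤ K) (hdec : ∀ g ∈ K, ∃ o ∈ N, ∃ b ∈ B, g = o * b)
    (hN : Group.IsSolvable N) (hB : Group.IsSolvable B) : Group.IsSolvable K := by
  haveI := hN; haveI := hB
  haveI : (N.subgroupOf K).Normal := normal_subgroupOf_of_le_normalizer hn
  haveI : Group.IsSolvable (K ⧸ N.subgroupOf K) := by
    refine solvable_of_surjective
      (f := (QuotientGroup.mk' (N.subgroupOf K)).comp (Subgroup.inclusion hBK)) ?_
    intro q
    obtain ⟨⟨g, hg⟩, rfl⟩ := QuotientGroup.mk'_surjective _ q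
    obtain ⟨o, ho, b, hb, rfl⟩ := hdec g hg
    refine ⟨⟨b, hb⟩, ?_⟩
    show QuotientGroup.mk' (N.subgroupOf K) ⟨b, hBK hb⟩ =
      QuotientGroup.mk' (N.subgroupOf K) ⟨o * b, hg⟩
    rw [show (⟨o * b, hg⟩ : K) = (⟨o, hNK ho⟩ : K) * (⟨b, hBK hb⟩ : K) from rfl, map_mul]
    rw [show QuotientGroup.mk' (N.subgroupOf K) ⟨o, hNK ho⟩ = 1 from
      (QuotientGroup.eq_one_iff _).2 (mem_subgroupOf.2 ho), one_mul]
  haveI : Group.IsSolvable (N.subgroupOf K) :=
    solvable_of_surjective (f := (subgroupOfEquivOfLe hNK).symm.toMonoidHom)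
      (subgroupOfEquivOfLe hNK).symm.surjective
  exact solvable_of_ker_le_range (N.subgroupOf K).subtype (QuotientGroup.mk' (N.subgroupOf K))
    (by rw [QuotientGroup.ker_mk', range_subtype])

theorem solv_le {K L : Subgroup G} (h : K ≤ L) (hL : Group.IsSolvable L) : Group.IsSolvable K := by
  haveI := hL
  exact solvable_of_solvable_injective (f := Subgroup.inclusion h) (inclusion_injective h)

theorem conj_cz {g b x : G} (h : x ∈ cz b) : g * x * g⁻¹ ∈ cz (g * b * g⁻¹) := by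
  rw [mem_centralizer_singleton_iff] at h ⊢
  calc g * x * g⁻¹ * (g * b * g⁻¹) = g * (x * b) * g⁻¹ := by group
    _ = g * (b * x) * g⁻¹ := by rw [h]
    _ = g * b * g⁻¹ * (g * x * g⁻¹) := by group

theorem cz_conj_le {M : Subgroup G} {n x : G} (hn : n ∈ M) (h : cz x ≤ M) :
    cz (n * x * n⁻¹) ≤ M := by
  intro y hy
  have h1 := conj_cz (g := n⁻¹) hy
  rw [show n⁻¹ * (n * x * n⁻¹) * n⁻¹⁻¹ = x by group] at h1
  simpa [mul_assoc] using mul_mem (mul_mem hn (h h1)) (inv_mem hn)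

theorem solv_cz_conj {a b : G} (hab : IsConj a b) (h : Group.IsSolvable ↥(cz a)) :
    Group.IsSolvable ↥(cz b) := by
  obtain ⟨g, rfl⟩ := isConj_iff.1 hab
  haveI := h
  refine solvable_of_solvable_injective
    (f := ((MulAut.conj g⁻¹).toMonoidHom.comp (cz (g * a * g⁻¹)).subtype).codRestrict (cz a)
      fun y => ?_) ?_
  · have h1 := conj_cz (g := g⁻¹) y.2
    rw [show g⁻¹ * (g * a * g⁻¹) * g⁻¹⁻¹ = a by group] at h1
    exact h1
  · intro x y hxy
    exact Subtype.ext ((MulAut.conj g⁻¹).injective (congrArg Subtype.val hxy))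

theorem sq_of_ord {u : G} (h : orderOf u = 2) : u * u = 1 := by
  rw [← sq, ← h, pow_orderOf_eq_one]

theorem ne_of_ord {u : G} (h : orderOf u = 2) : u ≠ 1 := fun e => by
  rw [e, orderOf_one] at h; omega

theorem ord_of_sq {u : G} (h : u * u = 1) (h1 : u ≠ 1) : orderOf u = 2 :=
  orderOf_eq_prime (by rw [sq, h]) h1

/-- Balance at an involution with soluble centralizer. -/
theorem balance {b a : G} (hb : orderOf b = 2) (hab : b ∈ cz a)
    (hsol : Group.IsSolvable ↥(cz a)) : core b ⊓ cz a ≤ core a := by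
  haveI : Fact (Nat.Prime 2) := ⟨Nat.prime_two⟩
  haveI := hsol
  set X := centralizer ({a} : Set G) with hX
  have hXc : IsPConstrained 2 ↥X :=
    CfsgLib.PLocal.isPConstrained_of_isPSolvable CfsgLib.PLocal.isPSolvable_of_isSolvable
  set bX : X := ⟨b, hab⟩
  set P : Subgroup X := zpowers bX
  have hP : IsPGroup 2 P :=
    CfsgLib.Signalizer2.isPGroup_zpowers (n := 1) (Subtype.ext (by
      simpa [sq] using sq_of_ord hb))
  set Y := centralizerPPrimeCore 2 b ⊓ X with hY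
  have h1 : Y.subgroupOf X ≤
      (pPrimeCore 2 ↥(centralizer (P : Set X))).map (centralizer (P : Set X)).subtype := by
    refine CfsgLib.Base.le_map_pPrimeCore ?_ ?_ ?_
    · intro y hy
      refine mem_centralizer_iff.2 fun z hz => ?_
      obtain ⟨j, rfl⟩ := mem_zpowers_iff.1 hz
      have hyb : Commute (y : G) b :=
        mem_centralizer_singleton_iff.1 (map_subtype_le _ (mem_subgroupOf.1 hy).1)
      exact Subtype.ext (by simpa [bX] using (hyb.zpow_right j).eq.symm)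
    · intro g hg
      have hgb : (g : G) ∈ centralizer ({b} : Set G) := mem_centralizer_singleton_iff.2
        (congrArg Subtype.val (mem_centralizer_iff.1 hg bX (mem_zpowers bX))).symm
      have hgY : (g : G) ∈ normalizer (Y : Set G) :=
        ((le_inf ((inf_le_left (b := X)).trans (CfsgLib.Base.le_normalizer_map_pPrimeCore _))
          (inf_le_right.trans le_normalizer)).trans inf_normalizer_le_normalizer_inf)
          (mem_inf.2 ⟨hgb, g.2⟩)
      exact mem_normalizer_iff.2 fun x => mem_normalizer_iff.1 hgY (x : G)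
    · rw [CfsgLib.Base.card_subgroupOf inf_le_right]
      exact (CfsgLib.Base.coprime_card_map_pPrimeCore _).coprime_dvd_left
        (card_dvd_of_le inf_le_left)
  have h2 : Y.subgroupOf X ≤ pPrimeCore 2 ↥X := by
    refine h1.trans ((CfsgLib.Base.map_pPrimeCore_le_of_normal_subgroupOf
      (centralizer_le_normalizer _)
      (normal_subgroupOf_of_le_normalizer
        (CfsgLib.PLocal.normalizer_le_centralizer_normalizer _))).trans ?_)
    rw [CfsgLib.PLocal.map_pPrimeCore_normalizer hXc hP]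
    exact inf_le_left
  calc Y = (Y.subgroupOf X).map X.subtype := (map_subgroupOf_eq_of_le inf_le_right).symm
    _ ≤ _ := map_mono h2

/-- Balance everywhere. -/
def Balanced (G : Type u) [Group G] : Prop :=
  ∀ a b : G, orderOf a = 2 → orderOf b = 2 → a ∈ cz b → core a ⊓ cz b ≤ core b

/-- The subgroup generated by the cores of the involutions of `U`. -/
def gen (U : Subgroup G) : Subgroup G := ⨆ u : {u : G // u ∈ U ∧ u ≠ 1}, core (u : G)

theorem le_gen {U : Subgroup G} {u : G} (hu : u ∈ U) (h1 : u ≠ 1) : core u ≤ gen U :=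
  le_iSup_of_le ⟨u, hu, h1⟩ le_rfl

theorem conj_gen {U W : Subgroup G} {g : G}
    (h : ∀ u ∈ U, u ≠ 1 → core (g * u * g⁻¹) ≤ W) {x : G} (hx : x ∈ gen U) : g * x * g⁻¹ ∈ W := by
  have hmap : (gen U).map (MulAut.conj g).toMonoidHom ≤ W := by
    unfold gen
    rw [Subgroup.map_iSup]
    refine iSup_le fun b => ?_
    exact (CfsgLib.Components.map_centralizerPPrimeCore_le (MulAut.conj g) (b : G)).trans
      (h _ b.2.1 b.2.2)
  exact hmap ⟨x, hx, rfl⟩

theorem comm_mem {E : Subgroup G} (hE : IsElementaryAbelian 2 E) {a b : G} (ha : a ∈ E)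
    (hb : b ∈ E) : a ∈ cz b := by
  haveI := hE.1
  exact mem_centralizer_singleton_iff.2 (setLike_mul_comm ha hb)

theorem sq_elem {E : Subgroup G} (hE : IsElementaryAbelian 2 E) {a : G} (ha : a ∈ E) :
    a * a = 1 := by rw [← sq]; exact hE.2 a ha

/-- A four-group of an elementary abelian group generates the cores of all its involutions. -/
theorem core_le_gen (hbal : Balanced G) {U E : Subgroup G} (hE : IsElementaryAbelian 2 E)
    (hU : U ≤ E) (h4 : 4 ≤ Nat.card U) {e : G} (he : e ∈ E) (he1 : e ≠ 1) : core e ≤ gen U := by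
  haveI : Fact (Nat.Prime 2) := ⟨Nat.prime_two⟩
  haveI : IsMulCommutative U := ⟨⟨fun x y => Subtype.ext
    (mem_centralizer_singleton_iff.1 (comm_mem hE (hU x.2) (hU y.2)))⟩⟩
  refine CfsgLib.Coprime.le_of_centralizer_le_of_not_isCyclic (A := U) ?_ ?_ ?_ ?_
  · intro hcy
    obtain ⟨g, hg⟩ := IsCyclic.exists_generator (α := U)
    have h1 := orderOf_eq_card_of_forall_mem_zpowers hg
    have h2 : orderOf g ≤ 2 := orderOf_le_of_pow_eq_one (by norm_num)
      (Subtype.ext (by simpa using hE.2 g (hU g.2)))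
    omega
  · exact fun x hx => centralizer_le_normalizer_core e (comm_mem hE (hU hx) he)
  · have hp : IsPGroup 2 U := fun x => ⟨1, Subtype.ext (by simpa using hE.2 x (hU x.2))⟩
    obtain ⟨n, hn⟩ := IsPGroup.iff_card.1 hp
    rw [hn]
    exact (Nat.coprime_two_left.2 (odd_card_core e)).pow_left n
  · intro b hb hb1
    exact (hbal e b (ord_of_sq (sq_elem hE he) he1) (ord_of_sq (sq_elem hE (hU hb)) hb1)
      (comm_mem hE he (hU hb))).trans (le_gen hb hb1)

/-- The members of the lines. -/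
def ln (i : Fin 3) (n : Fin 4) : Vec := (lineV i).getD n v0

theorem ln_mem : ∀ i n, ln i n ∈ lineV i := by decide

theorem ln_inj : ∀ i n m, ln i n = ln i m → n = m := by decide

theorem offH_line : ∀ i : Fin 3, ∀ v ∈ lineV i, offH v = false := by decide

/-- The hypotheses. -/
structure Ctx (S : Sylow 2 G) (φ : El → G) : Prop where
  hS : Setup S φ
  hF : Facts S φ
  h5 : FiveOrbit φ
  hB : BigCent φ
  hT : ∀ (k : Fin 3) (v : Vec) (d : G), v ∈ lineV k → v ≠ v0 → v ≠ vz →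
    ¬ ZType φ (av φ v) → Stab φ k (av φ v) d → ∃ H₀, CentT φ k (av φ v) d H₀

variable {S : Sylow 2 G} {φ : El → G}

theorem phi_one (hS : Setup S φ) : φ (v0, t0) = 1 := by
  have h := hS.mul (v0, t0) (v0, t0)
  rw [show emul (v0, t0) (v0, t0) = (v0, t0) by decide] at h
  simpa using h

theorem phi_ne (hS : Setup S φ) {e : El} (h : e ≠ (v0, t0)) : φ e ≠ 1 := fun he =>
  h (hS.inj (he.trans (phi_one hS).symm))

theorem av_mem (hF : Facts S φ) (v : Vec) : av φ v ∈ SA φ := (hF.mem_A _).2 ⟨v, rfl⟩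

theorem ord_av (hS : Setup S φ) (hF : Facts S φ) {v : Vec} (hv : v ≠ v0) :
    orderOf (av φ v) = 2 :=
  ord_of_sq (sq_elem hF.elem_A (av_mem hF v)) (phi_ne hS fun e => hv (congrArg Prod.fst e))

theorem line_le_A (hF : Facts S φ) (i : Fin 3) : SL φ i ≤ SA φ := fun g hg => by
  obtain ⟨v, -, rfl⟩ := (hF.mem_L i g).1 hg
  exact av_mem hF v

theorem line_le_E (hF : Facts S φ) (i : Fin 3) : SL φ i ≤ SE φ i := fun g hg => by
  obtain ⟨v, hv, rfl⟩ := (hF.mem_L i g).1 hg
  exact (hF.mem_E i _).2 ⟨v, hv, Or.inl rfl⟩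

theorem four_le_line (hS : Setup S φ) (hF : Facts S φ) (i : Fin 3) :
    4 ≤ Nat.card (SL φ i) := by
  have h := Nat.card_le_card_of_injective
    (fun n : Fin 4 => (⟨av φ (ln i n), (hF.mem_L i _).2 ⟨_, ln_mem i n, rfl⟩⟩ : SL φ i))
    (fun n m e => ln_inj i n m (congrArg Prod.fst (hS.inj (congrArg Subtype.val e))))
  simpa using h

namespace Ctx

variable (C : Ctx S φ)
include C

theorem not_ztype {k : Fin 3} {v : Vec} (hv : v ∈ lineV k) (h0 : v ≠ v0) (hz : v ≠ vz) :
    ¬ ZType φ (av φ v) := by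
  obtain ⟨b, hb⟩ := C.h5.ztype
  rw [hb v h0]
  rintro (h | ⟨h, -⟩)
  · exact hz h
  · exact Bool.false_ne_true ((offH_line k v hv).symm.trans h)

/-- The centralizer of a non-central involution of a line is a product of its core, a part
centralizing a central involution, and a flag. -/
theorem decomp {k : Fin 3} {v : Vec} (hv : v ∈ lineV k) (h0 : v ≠ v0) (hz : v ≠ vz) :
    ∃ (H₀ : Subgroup G) (f : G), H₀ ≤ cz (av φ v) ∧
      cz (av φ v) ≤ normalizer (H₀ : Set G) ∧ core (av φ v) ≤ H₀ ∧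
      cz (av φ v) = H₀ ⊔ zpowers (φ (v0, flag k)) ∧ f ∈ SA φ ∧ ZType φ f ∧
      ∀ g ∈ H₀, ∃ o ∈ core (av φ v), ∃ c ∈ cz f ⊓ H₀, g = o * c := by
  obtain ⟨d, hd, f, hfA, hfd, hfz⟩ := C.h5.stab k v hv h0 hz
  obtain ⟨H₀, hH⟩ := C.hT k v d hv h0 hz (C.not_ztype hv h0 hz) hd
  refine ⟨H₀, f, hH.le, hH.normal, hH.core_le, hH.sup, hfA, hfz, fun g hg => ?_⟩
  have hf2 : f * f = 1 := sq_elem C.hF.elem_A hfA
  have hfp : IsPGroup 2 (zpowers f) :=
    CfsgLib.Signalizer2.isPGroup_zpowers (n := 1) (by rw [pow_one, sq, hf2])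
  have hfn : zpowers f ≤ normalizer (core (av φ v) : Set G) :=
    zpowers_le.2 (centralizer_le_normalizer_core _ (hH.le (hH.A_le hfA)))
  obtain ⟨o, ho, c, hc, rfl⟩ := exists_mul_of_conj_le hfp (odd_card_core (av φ v)) hfn (g := g)
    (fun a ha => by
      have h1 := hH.central f hfA hfd g hg
      have h2 : g * f * g⁻¹ ∈ zpowers f ⊔ core (av φ v) := by
        rw [show g * f * g⁻¹ = (f * g * f⁻¹ * g⁻¹)⁻¹ * f by group]
        exact mul_mem (mem_sup_right (inv_mem h1)) (mem_sup_left (mem_zpowers f))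
      obtain ⟨j, rfl⟩ := mem_zpowers_iff.1 ha
      rw [show g * f ^ j * g⁻¹ = (g * f * g⁻¹) ^ j from conj_zpow.symm]
      exact zpow_mem h2 j)
  have hfne : f ≠ 1 := by
    rintro rfl
    obtain ⟨x, hx⟩ := isConj_iff.1 hfz
    exact phi_ne C.hS (e := (vz, t0)) (by decide) (conj_eq_one_iff.1 hx)
  rw [CfsgLib.Signalizer2.normalizer_zpowers_of_sq hf2 hfne] at hc
  refine ⟨o, ho, c, ⟨hc, ?_⟩, rfl⟩
  simpa using mul_mem (inv_mem (hH.core_le ho)) hg

theorem sol_line {k : Fin 3} {v : Vec} (hv : v ∈ lineV k) (h0 : v ≠ v0) (hz : v ≠ vz) :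
    Group.IsSolvable ↥(cz (av φ v)) := by
  obtain ⟨H₀, f, hle, hn, hco, hsup, -, hfz, hdec⟩ := C.decomp hv h0 hz
  have hH₀ : Group.IsSolvable H₀ :=
    solv_decomp hco (hle.trans (centralizer_le_normalizer_core _)) inf_le_right hdec
      (CfsgLib.FT.isSolvable_of_odd (odd_card_core _))
      (solv_le inf_le_left (solv_cz_conj hfz C.hS.sol))
  refine solv_decomp hle hn (B := zpowers (φ (v0, flag k)))
    (hsup ▸ le_sup_right) ?_ hH₀ inferInstance
  intro g hg
  rw [hsup, sup_comm] at hg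
  obtain ⟨b, hb, h, hh, rfl⟩ := (CfsgLib.Coprime.mem_sup_iff_of_le_normalizer
    ((le_sup_right (a := H₀)).trans (hsup ▸ hn))).1 hg
  have hbn : b ∈ normalizer (H₀ : Set G) := hn (hsup ▸ mem_sup_right hb)
  exact ⟨b * h * b⁻¹, (mem_normalizer_iff.1 hbn h).1 hh, b, hb, by group⟩

theorem mem_line {t : G} (ht : t ∈ SA φ) (h1 : t ≠ 1) (hz : ¬ ZType φ t) :
    ∃ n ∈ normalizer (SA φ : Set G), ∃ v ∈ lineV 0, v ≠ v0 ∧ v ≠ vz ∧ n * av φ v * n⁻¹ = t :=
  C.h5.trans 0 t ht h1 hz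

theorem sol_A {t : G} (ht : t ∈ SA φ) (h1 : t ≠ 1) : Group.IsSolvable ↥(cz t) := by
  by_cases hz : ZType φ t
  · exact solv_cz_conj hz C.hS.sol
  · obtain ⟨n, -, v, hv, h0, hvz, e⟩ := C.mem_line ht h1 hz
    exact solv_cz_conj (isConj_iff.2 ⟨n, e⟩) (C.sol_line hv h0 hvz)

theorem zc_central {g : G} (hg : g ∈ (S : Subgroup G)) : g ∈ cz (zc φ) :=
  mem_centralizer_singleton_iff.2
    (((C.hF.center (zc φ) (C.hS.mem _)).2 (Or.inr rfl)) g hg).symm

/-- An involution of the Sylow subgroup is in `A` or moved into a line. -/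
theorem invol_cases {x : G} (hx : x ∈ (S : Subgroup G)) (hx2 : orderOf x = 2) :
    x ∈ SA φ ∨ ∃ i, x ∈ SE φ i ∧ ∃ c ∈ cz (zc φ), ∃ w ∈ lineV i, w ≠ v0 ∧ w ≠ vz ∧
      c * x * c⁻¹ = av φ w := by
  rcases C.hF.invol x hx (sq_of_ord hx2) with h | ⟨i, v, hv, rfl⟩
  · exact Or.inl h
  · exact Or.inr ⟨i, (C.hF.mem_E i _).2 ⟨v, hv, Or.inr rfl⟩, C.hB.fuse i v hv⟩

theorem sol_all {g : G} (hg : orderOf g = 2) : Group.IsSolvable ↥(cz g) := by
  obtain ⟨x, hx, hxg⟩ := C.hF.exists_conj g hg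
  obtain ⟨k, hk⟩ := isConj_iff.1 hxg
  have hx2 : orderOf x = 2 := by
    rw [← hg, ← hk]
    exact (orderOf_injective (MulAut.conj k).toMonoidHom (MulEquiv.injective _) x).symm
  refine solv_cz_conj hxg ?_
  rcases C.invol_cases hx hx2 with h | ⟨i, -, c, -, w, hw, hw0, hwz, e⟩
  · exact C.sol_A h (ne_of_ord hx2)
  · exact solv_cz_conj (isConj_iff.2 ⟨c, e⟩).symm (C.sol_line hw hw0 hwz)

theorem bal : Balanced G := fun _ _ ha hb hab => balance ha hab (C.sol_all hb)

theorem odd_W : Odd (Nat.card (gen (SA φ))) := by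
  haveI : Fact (Nat.Prime 2) := ⟨Nat.prime_two⟩
  have h := (Cfsg.Agent.S0217.result (SA φ)
    (fun a ha b hb => mem_centralizer_singleton_iff.1 (comm_mem C.hF.elem_A ha hb))
    (fun a ha => C.hF.elem_A.2 a ha) (by rw [C.hF.card_A]; norm_num) (fun a => core a)
    (fun a _ _ => centralizerPPrimeCore_le a)
    (fun a _ _ hd => Nat.not_even_iff_odd.2 (odd_card_core a) (even_iff_two_dvd.2 hd))
    (fun a ha _ b hb x hx => (mem_normalizer_iff.1
      (centralizer_le_normalizer_core a (comm_mem C.hF.elem_A hb ha)) x).1 hx)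
    (fun a _ _ => CfsgLib.FT.isSolvable_of_odd (odd_card_core a))
    (fun a ha ha1 b hb hb1 => C.bal a b (ord_of_sq (sq_elem C.hF.elem_A ha) ha1)
      (ord_of_sq (sq_elem C.hF.elem_A hb) hb1) (comm_mem C.hF.elem_A ha hb))).1
  rw [← Nat.not_even_iff_odd, even_iff_two_dvd]
  exact h

theorem norm_A_le : normalizer (SA φ : Set G) ≤ normalizer (gen (SA φ) : Set G) := fun g hg =>
  mem_normalizer_of_forall fun _ hx => conj_gen
    (fun u hu hu1 => le_gen ((mem_normalizer_iff.1 hg u).1 hu)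
      fun e => hu1 (conj_eq_one_iff.1 e)) hx

theorem S_le : (S : Subgroup G) ≤ normalizer (gen (SA φ) : Set G) :=
  C.hF.norm_S.1.trans C.norm_A_le

theorem gen_line (i : Fin 3) : gen (SL φ i) = gen (SA φ) := by
  refine le_antisymm (iSup_le fun u => le_gen (line_le_A C.hF i u.2.1) u.2.2)
    (iSup_le fun u => ?_)
  exact core_le_gen C.bal C.hF.elem_A (line_le_A C.hF i) (four_le_line C.hS C.hF i) u.2.1 u.2.2

theorem core_S_le {x : G} (hx : x ∈ (S : Subgroup G)) (hx2 : orderOf x = 2) :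
    core x ≤ gen (SA φ) := by
  rcases C.invol_cases hx hx2 with h | ⟨i, hi, -⟩
  · exact le_gen h (ne_of_ord hx2)
  · rw [← C.gen_line i]
    exact core_le_gen C.bal (C.hF.elem_E i) (line_le_E C.hF i) (four_le_line C.hS C.hF i) hi
      (ne_of_ord hx2)

theorem cz_z_le : cz (zc φ) ≤ normalizer (gen (SA φ) : Set G) := by
  intro g hg
  obtain ⟨o, ho, n, hn, rfl⟩ := C.hB.frattini g hg
  refine mul_mem (le_normalizer (le_gen (av_mem C.hF vz) (phi_ne C.hS (by decide)) ho)) ?_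
  refine mem_normalizer_of_forall fun x hx => ?_
  rw [← C.gen_line 0] at hx
  refine conj_gen (fun u hu hu1 => ?_) hx
  have hu' : u * u = 1 := sq_elem C.hF.elem_A (line_le_A C.hF 0 hu)
  refine C.core_S_le (C.hF.le_S.2.1
    ((mem_normalizer_iff.1 hn.1 u).1 (C.hF.sub_Q 0 (line_le_E C.hF 0 hu)))) (ord_of_sq ?_ ?_)
  · calc n * u * n⁻¹ * (n * u * n⁻¹) = n * (u * u) * n⁻¹ := by group
      _ = 1 := by rw [hu']; group
  · exact fun e => hu1 (conj_eq_one_iff.1 e)

theorem cz_ztype_le {f : G} (hf : f ∈ SA φ) (hz : ZType φ f) :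
    cz f ≤ normalizer (gen (SA φ) : Set G) := by
  obtain ⟨g, hg⟩ := isConj_iff.1 hz
  obtain ⟨n, hn, e⟩ := C.hF.fus_A (zc φ) (av_mem C.hF vz) g
    (by show g * zc φ * g⁻¹ ∈ _; rwa [hg])
  have e' : n * zc φ * n⁻¹ = f := e.trans hg
  rw [← e']
  exact cz_conj_le (C.norm_A_le hn) C.cz_z_le

theorem cz_line_le {k : Fin 3} {v : Vec} (hv : v ∈ lineV k) (h0 : v ≠ v0) (hz : v ≠ vz) :
    cz (av φ v) ≤ normalizer (gen (SA φ) : Set G) := by
  obtain ⟨H₀, f, -, -, -, hsup, hfA, hfz, hdec⟩ := C.decomp hv h0 hz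
  rw [hsup]
  refine sup_le (fun g hg => ?_) (zpowers_le.2 (C.S_le (C.hS.mem _)))
  obtain ⟨o, ho, c, hc, rfl⟩ := hdec g hg
  exact mul_mem (le_normalizer (le_gen (av_mem C.hF v)
    (ne_of_ord (ord_av C.hS C.hF h0)) ho)) (C.cz_ztype_le hfA hfz hc.1)

theorem cz_A_le {t : G} (ht : t ∈ SA φ) (h1 : t ≠ 1) :
    cz t ≤ normalizer (gen (SA φ) : Set G) := by
  by_cases hz : ZType φ t
  · exact C.cz_ztype_le ht hz
  · obtain ⟨n, hn, v, hv, h0, hvz, e⟩ := C.mem_line ht h1 hz
    rw [← e]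
    exact cz_conj_le (C.norm_A_le hn) (C.cz_line_le hv h0 hvz)

theorem cz_S_le {x : G} (hx : x ∈ (S : Subgroup G)) (hx2 : orderOf x = 2) :
    cz x ≤ normalizer (gen (SA φ) : Set G) := by
  rcases C.invol_cases hx hx2 with h | ⟨i, -, c, hc, w, hw, hw0, hwz, e⟩
  · exact C.cz_A_le h (ne_of_ord hx2)
  · rw [show x = c⁻¹ * av φ w * c⁻¹⁻¹ by rw [← e]; group]
    exact cz_conj_le (inv_mem (C.cz_z_le hc)) (C.cz_line_le hw hw0 hwz)

theorem into_S {x : G} (hx : x ∈ normalizer (gen (SA φ) : Set G)) (hx2 : orderOf x = 2) :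
    ∃ k ∈ normalizer (gen (SA φ) : Set G), k⁻¹ * x * k ∈ (S : Subgroup G) ∧
      orderOf (k⁻¹ * x * k) = 2 := by
  haveI : Fact (Nat.Prime 2) := ⟨Nat.prime_two⟩
  obtain ⟨k, hk, hkx⟩ := CfsgLib.Transfer.exists_conj_le_of_isPGroup S.2 C.S_le
    (fun h => S.not_dvd_index (h.trans (Dvd.intro _ (relIndex_mul_index C.S_le))))
    (V := zpowers x) (IsPGroup.of_card (n := 1) (by rw [Nat.card_zpowers, hx2, pow_one]))
    (zpowers_le.2 hx)
  refine ⟨k, hk, by simpa using hkx x (mem_zpowers x), ?_⟩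
  rw [← hx2]
  simpa using orderOf_injective (MulAut.conj k⁻¹).toMonoidHom (MulEquiv.injective _) x

theorem cz_M_le {x : G} (hx : x ∈ normalizer (gen (SA φ) : Set G)) (hx2 : orderOf x = 2) :
    cz x ≤ normalizer (gen (SA φ) : Set G) := by
  obtain ⟨k, hk, hkS, hk2⟩ := C.into_S hx hx2
  rw [show x = k * (k⁻¹ * x * k) * k⁻¹ by group]
  exact cz_conj_le hk (C.cz_S_le hkS hk2)

theorem step {x y : G} (hx : x ∈ normalizer (gen (SA φ) : Set G)) (hx2 : orderOf x = 2)
    (hy2 : orderOf y = 2) (hxy : ¬ IsConj x y) : y ∈ normalizer (gen (SA φ) : Set G) := by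
  have hne : ¬ Odd (orderOf (x * y)) := fun h =>
    hxy (isConj_iff.2 (exists_conj_of_odd_mul (sq_of_ord hx2) (sq_of_ord hy2) h))
  obtain ⟨m, hm⟩ := (Nat.not_odd_iff_even.1 hne).two_dvd
  have hm0 : 0 < m := by have := orderOf_pos (x * y); omega
  set j := (x * y) ^ m with hj
  have hj2 : j * j = 1 := by rw [hj, ← pow_add, ← two_mul, ← hm, pow_orderOf_eq_one]
  have hj1 : j ≠ 1 := fun e => by
    have := Nat.le_of_dvd hm0 (orderOf_dvd_of_pow_eq_one e); omega
  have key : ∀ a : G, a * (x * y) * a⁻¹ = (x * y)⁻¹ → j ∈ cz a := by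
    intro a ha
    rw [mem_centralizer_singleton_iff]
    have h1 : a * j * a⁻¹ = j := by
      rw [hj, ← conj_pow, ha, inv_pow, ← hj]
      exact inv_eq_of_mul_eq_one_right hj2
    exact (mul_inv_eq_iff_eq_mul.1 h1).symm
  have hxi : x⁻¹ = x := inv_eq_of_mul_eq_one_right (sq_of_ord hx2)
  have hyi : y⁻¹ = y := inv_eq_of_mul_eq_one_right (sq_of_ord hy2)
  have hjx : j ∈ cz x := key x (by
    rw [mul_inv_rev, hxi, hyi, ← mul_assoc, sq_of_ord hx2, one_mul])
  have hjy : j ∈ cz y := key y (by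
    rw [mul_inv_rev, hxi, hyi, mul_assoc, mul_assoc, sq_of_ord hy2, mul_one])
  have hjM := C.cz_M_le hx hx2 hjx
  refine C.cz_M_le hjM (ord_of_sq hj2 hj1) ?_
  exact mem_centralizer_singleton_iff.2 (mem_centralizer_singleton_iff.1 hjy).symm

theorem top : normalizer (gen (SA φ) : Set G) = ⊤ := by
  have hz2 : orderOf (zc φ) = 2 := ord_av C.hS C.hF (by decide)
  have hall : ∀ y : G, orderOf y = 2 → y ∈ normalizer (gen (SA φ) : Set G) := by
    intro y hy
    by_cases h : IsConj (zc φ) y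
    · have hw : ((true, false, false, false) : Vec) ∈ lineV 0 := by decide
      refine C.step (x := av φ (true, false, false, false)) (C.S_le (C.hS.mem _))
        (ord_av C.hS C.hF (by decide)) hy fun hc => ?_
      exact C.not_ztype hw (by decide) (by decide) (h.trans hc.symm)
    · exact C.step (C.S_le (C.hS.mem _)) hz2 hy h
  refine eq_top_iff.2 fun g _ => ?_
  have hg2 : orderOf (g * zc φ * g⁻¹) = 2 := by
    rw [← hz2]
    exact orderOf_injective (MulAut.conj g).toMonoidHom (MulEquiv.injective _) _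
  obtain ⟨k, hk, hkS, hk2⟩ := C.into_S (hall _ hg2) hg2
  have e : k⁻¹ * (g * zc φ * g⁻¹) * k = k⁻¹ * g * zc φ * (k⁻¹ * g)⁻¹ := by group
  rcases C.invol_cases hkS hk2 with h | ⟨i, -, c, -, w, hw, hw0, hwz, e'⟩
  · obtain ⟨n, hn, hne⟩ := C.hF.fus_A (zc φ) (av_mem C.hF vz) (k⁻¹ * g)
      (by show k⁻¹ * g * zc φ * (k⁻¹ * g)⁻¹ ∈ _; rwa [← e])
    have hne' : n * zc φ * n⁻¹ = k⁻¹ * g * zc φ * (k⁻¹ * g)⁻¹ := hne
    have hc : n⁻¹ * (k⁻¹ * g) ∈ cz (zc φ) := by
      rw [mem_centralizer_singleton_iff]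
      calc n⁻¹ * (k⁻¹ * g) * zc φ
          = n⁻¹ * (k⁻¹ * g * zc φ * (k⁻¹ * g)⁻¹) * (k⁻¹ * g) := by group
        _ = n⁻¹ * (n * zc φ * n⁻¹) * (k⁻¹ * g) := by rw [hne']
        _ = zc φ * (n⁻¹ * (k⁻¹ * g)) := by group
    have := mul_mem hk (mul_mem (C.norm_A_le hn) (C.cz_z_le hc))
    simpa [mul_assoc] using this
  · refine absurd (isConj_iff.2 ⟨c * (k⁻¹ * g), ?_⟩) (C.not_ztype hw hw0 hwz)
    rw [← e', e]
    group

end Ctx

end FiveAux

/-- Piece G: the cores vanish when `A` has five central involutions. -/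
theorem coresFive : StmtCoresFive.{u} := by
  intro hT G _ _ S φ hS hF hZ h5 hB
  have C : FiveAux.Ctx S φ := ⟨hS, hF, h5, hB, hT G S φ hS hF hZ hB⟩
  haveI : (FiveAux.gen (SA φ)).Normal := normalizer_eq_top_iff.1 C.top
  have hW : FiveAux.gen (SA φ) = ⊥ :=
    eq_bot_iff.2 (hS.core_bot ▸ CfsgLib.Base.le_oddCore C.odd_W)
  exact eq_bot_iff.2 ((FiveAux.le_gen (FiveAux.av_mem hF vz)
    (FiveAux.phi_ne hS (by decide))).trans hW.le)

end CfsgLib.AEightSyl
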