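import Cfsg.Agent.Lib.AEightSyl.CoresLinesKlein

/-!
# The cores vanish when `z` meets the lines (S2918, piece F)
-/

set_option autoImplicit false
set_option linter.style.haveILetI false
set_option linter.unusedSectionVars false
set_option synthInstance.maxSize 4000

namespace CfsgLib.AEightSyl

open Cfsg Subgroup CfsgLib.L34Sylow CoresTools CoresL
open CfsgLib.L34Sylow.CoresAux (Bal gen le_gen gen_mono normalizer_le_gen)

universe u

namespace CoresL

variable {G : Type u} [Group G] [Finite G] {S : Sylow 2 G} {φ : El → G}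
variable (hS : Setup S φ) (hF : Facts S φ) (hZ : StabZ S φ) (hrot : ¬ Rot φ) (hB : BigCent φ)
include hS hF hZ hrot hB

omit hZ hrot hB in
theorem mem_A_conj {n a : G} (hn : n ∈ normalizer (SA φ : Set G)) (ha : a ∈ SA φ) :
    n * a * n⁻¹ ∈ SA φ :=
  (mem_normalizer_iff.1 hn a).1 ha

omit hZ hrot hB in
theorem balA_conj {t n : G} (hn : n ∈ normalizer (SA φ : Set G)) (h : BalA φ t) :
    BalA φ (n * t * n⁻¹) := by
  intro a ha ha1 x hx
  have ha' : n⁻¹ * a * n⁻¹⁻¹ ∈ SA φ := mem_A_conj hS hF (inv_mem hn) ha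
  have ha1' : n⁻¹ * a * n⁻¹⁻¹ ≠ 1 := fun e => ha1 (conj_eq_one_iff.1 e)
  have h1 := StrongTwoClasses.conj_mem_core (g := n⁻¹) hx.1
  have h2 := conj_cz (g := n⁻¹) hx.2
  rw [show n⁻¹ * (n * t * n⁻¹) * n⁻¹⁻¹ = t by group] at h2
  have h3 := StrongTwoClasses.conj_mem_core (g := n) (h _ ha' ha1' ⟨h1, h2⟩)
  rwa [show n * (n⁻¹ * x * n⁻¹⁻¹) * n⁻¹ = x by group] at h3

/-- With two lines the centralisers of the other involutions lie in `N(W)`. -/
theorem cz_le_two (hE : StmtCentT.{u}) {j k : Fin 3} (hj : ZLine φ j) (hk : TwoLines φ k) {t : G}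
    (ht : t ∈ SA φ) (ht1 : t ≠ 1) (hnt : ¬ ZType φ t) :
    cz t ≤ normalizer (gen (SL φ j) : Set G) := by
  haveI : Fact (Nat.Prime 2) := ⟨Nat.prime_two⟩
  set M := normalizer (gen (SL φ j) : Set G) with hM
  have hnz : ∀ {v : Vec}, v ∈ lineV k → v ≠ v0 → v ≠ vz → ¬ ZType φ (av φ v) := by
    intro v hv hv0 hvz hz
    obtain ⟨b, hb⟩ := hk.ztype
    rcases (hb v hv0).1 hz with ⟨i, hik, hvi⟩ | ⟨ho, -⟩
    · rcases line_inter i k v hik hvi hv with h | h
      exacts [hv0 h, hvz h]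
    · rw [offH_line k v hv] at ho
      exact Bool.false_ne_true ho
  have hpt : ∀ {v : Vec}, v ∈ lineV k → v ≠ v0 → v ≠ vz →
      ∃ d H₀, Pt S φ j k v d H₀ := by
    intro v hv hv0 hvz
    obtain ⟨d, hd⟩ := hk.stab v hv hv0 hvz
    obtain ⟨H₀, hH⟩ := hE G S φ hS hF hZ hB k v d hv hv0 hvz (hnz hv hv0 hvz) hd
    exact ⟨d, H₀, hv, hv0, hvz, hnz hv hv0 hvz, hd, hH, hj⟩
  have hbal : ∀ f ∈ SA φ, f ≠ 1 → ¬ ZType φ f → BalA φ f := by
    intro f hf hf1 hfz
    obtain ⟨n, hn, v, hv, hv0, hvz, rfl⟩ := hk.trans f hf hf1 hfz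
    refine balA_conj hS hF hn ?_
    obtain ⟨d, H₀, P⟩ := hpt hv hv0 hvz
    haveI : ((core (av φ v) ⊔ SF φ d).subgroupOf H₀).Normal :=
      normal_subgroupOf_of_le_normalizer (ker_normal hS hF hZ hrot hB P)
    exact balA_of_quot hS hF hZ hrot hB P
      (π := QuotientGroup.mk' ((core (av φ v) ⊔ SF φ d).subgroupOf H₀))
      (QuotientGroup.mk'_surjective _)
      (fun x => (QuotientGroup.eq_one_iff x).trans mem_subgroupOf)
  obtain ⟨n₀, hn₀, v, hv, hv0, hvz, rfl⟩ := hk.trans t ht ht1 hnt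
  refine cz_conj_le hS hF hB hj hn₀ ?_
  obtain ⟨d, H₀, P⟩ := hpt hv hv0 hvz
  set F := SF φ d
  have hFA : F ≤ SA φ := SF_le_A hS hF hZ hrot hB P
  have h4 : 4 ≤ Nat.card F := (show Nat.card F = 4 from P.stab.fixed).ge
  have hgen : gen F = gen (SL φ j) := by
    rw [← gen_A hS hF hB hj]
    refine le_antisymm (gen_mono hFA) (iSup_le fun a => ?_)
    exact core_le_gen (elem_le hF.elem_A hFA) h4 (hFA.trans (A_le_cz hS hF a.2.1))
      fun f hf hf1 => hbal f (hFA hf) hf1 (not_ztype_SF hS hF hZ hrot P.stab hf) a a.2.1 a.2.2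
  have hH₀ : H₀ ≤ M := by
    intro g hg
    have hmaps : ∀ f ∈ F, g * f * g⁻¹ ∈ F ⊔ core (av φ v) := by
      intro f hf
      have h2 := P.cent.central f hf.1 hf.2 g hg
      rw [show g * f * g⁻¹ = (f * g * f⁻¹ * g⁻¹)⁻¹ * f by group]
      exact mul_mem (mem_sup_right (inv_mem h2)) (mem_sup_left hf)
    obtain ⟨o, ho, n, hn, rfl⟩ := StrongTwoClasses.exists_mul_of_conj_le
      (isPGroup_of_elem (elem_le hF.elem_A hFA)) (odd_core _)
      ((hFA.trans (A_le_cz hS hF (av_mem hS hF v))).trans (norm_core _)) hmaps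
    refine mul_mem (core_le_M hS hF hB hj (av_mem hS hF v) (av_ne_one hS hF hv0) ho) ?_
    rw [hM, ← hgen]
    exact normalizer_le_gen F hn
  rw [P.cent.sup]
  exact sup_le hH₀ (zpowers_le.2 (S_le_M hS hF hB hj (hS.mem _)))

omit hZ hrot hB in
/-- An involution of `A` not conjugate to `z`. -/
theorem exists_nonz (h : (∃ j, OneLine φ j) ∨ ∃ k, TwoLines φ k) :
    ∃ v, v ≠ v0 ∧ ¬ ZType φ (av φ v) := by
  rcases h with ⟨j, hj⟩ | ⟨k, hk⟩
  · refine ⟨(false, false, true, false), by decide, fun hz => ?_⟩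
    have := offH_line j _ ((hj.ztype _ (by decide)).1 hz)
    exact absurd this (by decide)
  · obtain ⟨v, hv, hv0, hvz⟩ := line_two k
    refine ⟨v, hv0, fun hz => ?_⟩
    obtain ⟨b, hb⟩ := hk.ztype
    rcases (hb v hv0).1 hz with ⟨i, hik, hvi⟩ | ⟨ho, -⟩
    · rcases line_inter i k v hik hvi hv with h | h
      exacts [hv0 h, hvz h]
    · rw [offH_line k v hv] at ho
      exact Bool.false_ne_true ho

end CoresL

/-- Piece F: the cores vanish when `z` meets the lines. -/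
theorem coresLines : StmtCoresLines.{u} := by
  intro hE G _ _ S φ hS hF hZ hl hB
  haveI : Fact (Nat.Prime 2) := ⟨Nat.prime_two⟩
  obtain ⟨hrot, j₀, hj₀⟩ := exists_zline hl
  -- a line on which the other statements are available
  obtain ⟨j, hj, hcz⟩ : ∃ j, ZLine φ j ∧ ∀ t ∈ SA φ, t ≠ 1 → ¬ ZType φ t →
      cz t ≤ normalizer (gen (SL φ j) : Set G) := by
    rcases hl with ⟨j, h1⟩ | ⟨k, h2⟩
    · have hj : ZLine φ j := fun v hv hv0 => (h1.ztype v hv0).2 hv
      exact ⟨j, hj, fun t ht ht1 hnt => cz_le_one hS hF hB hj h1 ht ht1 hnt⟩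
    · exact ⟨j₀, hj₀, fun t ht ht1 hnt => cz_le_two hS hF hZ hrot hB hE hj₀ h2 ht ht1 hnt⟩
  set W := gen (SL φ j) with hW
  set M := normalizer (W : Set G) with hM
  have hA : ∀ a ∈ SA φ, a ≠ 1 → cz a ≤ M := fun a ha ha1 => by
    by_cases hz : ZType φ a
    · exact cz_ztype_le hS hF hB hj hrot ha hz
    · exact hcz a ha ha1 hz
  have hinv : ∀ x ∈ (S : Subgroup G), orderOf x = 2 → cz x ≤ M := by
    intro x hx hx2
    rcases hF.invol x hx (sq_of_orderOf hx2) with hxA | ⟨i, v, hv, rfl⟩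
    · exact hA x hxA fun e => by rw [e, orderOf_one] at hx2; omega
    · obtain ⟨c, hc, w, hw, hw0, -, hcw⟩ := hB.fuse i v hv
      intro g hg
      have hcM : c ∈ M := cz_z_le hS hF hB hj hrot hc
      have h1 := conj_cz (g := c) hg
      rw [show c * φ (v, flag i) * c⁻¹ = av φ w from hcw] at h1
      have := mul_mem (mul_mem (inv_mem hcM) (hA _ (av_mem hS hF w) (av_ne_one hS hF hw0) h1)) hcM
      simpa [mul_assoc] using this
  have hS1 : (S : Subgroup G) ≠ ⊥ := fun e => by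
    have := hF.card_S
    rw [e, Subgroup.card_bot] at this
    omega
  have htop : M = ⊤ := by
    by_contra hne
    have hse := stronglyEmbedded_of_cz S hS1 (S_le_M hS hF hB hj)
      (hF.norm_A.trans (NA_le hS hF hB hj)) hinv hne
    obtain ⟨v, hv0, hnz⟩ := exists_nonz hS hF hl
    exact hnz (Involutions.SE.isConj hse (orderOf_z hS hF)
      (orderOf_A hS hF (av_mem hS hF v) (av_ne_one hS hF hv0)))
  haveI : W.Normal := normalizer_eq_top_iff.1 htop
  have hW1 : W = ⊥ := eq_bot_iff.2 (hS.core_bot ▸ CfsgLib.Base.le_oddCore (odd_W hS hF hB hj))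
  exact eq_bot_iff.2 ((le_W_A hS hF hB hj (av_mem hS hF vz) (av_ne_one hS hF (by decide))).trans
    hW1.le)

end CfsgLib.AEightSyl
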