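import Cfsg.Agent.Lib.AEightSyl.Defs
import Cfsg.Agent.Lib.L34Sylow.CoresGen
import Cfsg.Agent.Lib.L34Sylow.CentTSylow
import Cfsg.Agent.Lib.FgsB.NilpotentPPrime.Signal
import Cfsg.Agent.Lib.Involutions.ZStar.Main
import Cfsg.Agent.Lib.Involutions.KleinSylow
import Cfsg.Agent.Lib.LocalEven.CentralZ.Basic

/-!
# Cores of involution centralisers: general tools for S2918
-/

set_option autoImplicit false
set_option linter.style.haveILetI false
set_option linter.unusedSectionVars false

namespace CfsgLib.AEightSyl.CoresTools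

open Cfsg Subgroup CfsgLib.L34Sylow CfsgLib.StrongTwoClasses
open CfsgLib.L34Sylow.CoresAux (Bal gen le_gen gen_mono normalizer_le_gen)

universe u

variable {G : Type u} [Group G] [Finite G]

theorem core_le (b : G) : core b ≤ cz b := centralizerPPrimeCore_le b

theorem norm_core (b : G) : cz b ≤ normalizer (core b : Set G) := centralizer_le_normalizer_core b

theorem odd_core (b : G) : Odd (Nat.card (core b)) := odd_card_core b

theorem odd_order {K : Subgroup G} (hK : Odd (Nat.card K)) {x : G} (hx : x ∈ K) : Odd (orderOf x) :=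
  Signalizer2.odd_orderOf hK hx

theorem eq_one_of_odd_two {g : G} (ho : Odd (orderOf g)) (h : g * g = 1) : g = 1 :=
  Signalizer2.eq_one_of_eq_inv ho (inv_eq_of_mul_eq_one_right h).symm

theorem sq_of_orderOf {g : G} (h : orderOf g = 2) : g * g = 1 := by
  rw [← sq, ← h, pow_orderOf_eq_one]

theorem mem_cz_comm {H : Subgroup G} (h : IsElementaryAbelian 2 H) {a b : G} (ha : a ∈ H)
    (hb : b ∈ H) : a ∈ cz b := by
  haveI := h.1
  exact mem_centralizer_singleton_iff.2 (setLike_mul_comm ha hb)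

theorem conj_cz {g b x : G} (h : x ∈ cz b) : g * x * g⁻¹ ∈ cz (g * b * g⁻¹) :=
  CoresAux.conj_cz h

theorem elem_le {H K : Subgroup G} (h : IsElementaryAbelian 2 H) (hK : K ≤ H) :
    IsElementaryAbelian 2 K := by
  haveI := h.1
  exact ⟨⟨⟨fun a b => Subtype.ext (setLike_mul_comm (hK a.2) (hK b.2))⟩⟩, fun a ha => h.2 a (hK ha)⟩

theorem isPGroup_of_elem {H : Subgroup G} (h : IsElementaryAbelian 2 H) : IsPGroup 2 H :=
  CfsgLib.Base.isPGroup_of_isElementaryAbelian h

theorem not_isCyclic_of_elem {U : Subgroup G} (h : IsElementaryAbelian 2 U)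
    (h4 : 4 ≤ Nat.card U) : ¬ IsCyclic U := by
  intro hcy
  obtain ⟨g, hg⟩ := IsCyclic.exists_generator (α := U)
  have h1 := orderOf_eq_card_of_forall_mem_zpowers hg
  have h2 : orderOf g ≤ 2 := orderOf_le_of_pow_eq_one (by norm_num)
    (Subtype.ext (by simpa using h.2 g g.2))
  omega

/-- A soluble centraliser gives balance. -/
theorem bal_of_solvable {v : G} (hv : IsSolvable ↥(cz v)) : Bal v := by
  intro u hu huv
  refine CfsgLib.NilPPrime.le_core_of_normalizer hv
    (IsPGroup.of_card (n := 1) (by rw [Nat.card_zpowers, hu, pow_one]) : IsPGroup 2 (zpowers u))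
    (zpowers_le.2 huv) ?_ ?_ ((odd_core u).of_dvd_nat (card_dvd_of_le inf_le_left))
  · refine le_inf inf_le_right fun x hx => centralizer_le_normalizer _ ?_
    refine mem_centralizer_iff.2 fun y hy => ?_
    obtain ⟨i, rfl⟩ := mem_zpowers_iff.1 hy
    exact ((show Commute x u from
      mem_centralizer_singleton_iff.1 (core_le u hx.1)).zpow_right i).eq.symm
  · intro g ⟨hgv, hgu⟩
    have hu1 : u ≠ 1 := fun e => by rw [e, orderOf_one] at hu; omega
    have hgu' := CfsgLib.NilPPrime.mem_centralizer_of_normalizes hu1 (sq_of_orderOf hu) hgu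
    refine mem_normalizer_iff.2 fun x => ?_
    exact and_congr (mem_normalizer_iff.1 (norm_core u hgu') x)
      (mem_normalizer_iff.1 (le_normalizer hgv) x)

/-- The core of an involution centralising a four-group is generated inside it. -/
theorem core_le_gen {U : Subgroup G} (hU : IsElementaryAbelian 2 U) (h4 : 4 ≤ Nat.card U) {a : G}
    (hUa : U ≤ cz a) (hb : ∀ b ∈ U, b ≠ 1 → core a ⊓ cz b ≤ core b) : core a ≤ gen U := by
  haveI : Fact (Nat.Prime 2) := ⟨Nat.prime_two⟩
  haveI := hU.1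
  refine CfsgLib.Coprime.le_of_centralizer_le_of_not_isCyclic (A := U)
    (not_isCyclic_of_elem hU h4) (hUa.trans (norm_core a)) ?_
    (fun b hb' hb1 => (hb b hb' hb1).trans (le_gen hb' hb1))
  obtain ⟨n, hn⟩ := IsPGroup.iff_card.1 (isPGroup_of_elem hU)
  rw [hn]
  exact (Nat.coprime_two_left.2 (odd_core a)).pow_left n

/-- The signalizer functor theorem for the cores. -/
theorem odd_gen {E : Subgroup G} (hE : IsElementaryAbelian 2 E) (h8 : 8 ≤ Nat.card E)
    (hbal : ∀ e ∈ E, e ≠ 1 → Bal e) : Odd (Nat.card (gen E)) := by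
  haveI : Fact (Nat.Prime 2) := ⟨Nat.prime_two⟩
  haveI := hE.1
  have h := (Cfsg.Agent.S0217.result E (fun a ha b hb => setLike_mul_comm ha hb)
    (fun a ha => hE.2 a ha) (by simpa using h8) (fun a => core a)
    (fun a _ _ => core_le a)
    (fun a _ _ hd => Nat.not_even_iff_odd.2 (odd_core a) (even_iff_two_dvd.2 hd))
    (fun a ha _ b hb x hx => (mem_normalizer_iff.1 (norm_core a (mem_cz_comm hE hb ha)) x).1 hx)
    (fun a _ _ => CfsgLib.FT.isSolvable_of_odd (odd_core a))
    (fun a ha ha1 b hb hb1 =>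
      hbal b hb hb1 a (orderOf_eq_prime (hE.2 a ha) ha1) (mem_cz_comm hE ha hb))).1
  rw [← Nat.not_even_iff_odd, even_iff_two_dvd]
  exact h

/-- A subgroup of odd relative index keeps this in between. -/
theorem not_dvd_relIndex_mono {U V K : Subgroup G} (hUV : U ≤ V) (hVK : V ≤ K)
    (h : ¬ 2 ∣ U.relIndex K) : ¬ 2 ∣ V.relIndex K ∧ ¬ 2 ∣ U.relIndex V := by
  rw [← relIndex_mul_relIndex U V K hUV hVK] at h
  exact ⟨fun hd => h (hd.mul_left _), fun hd => h (hd.mul_right _)⟩

/-- A `2`-subgroup between a subgroup of odd index and its overgroup is that subgroup. -/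
theorem eq_of_two_le {U Q K : Subgroup G} (hUQ : U ≤ Q) (hQK : Q ≤ K) (hQ : IsPGroup 2 Q)
    (h : ¬ 2 ∣ U.relIndex K) : Q = U := by
  haveI : Fact (Nat.Prime 2) := ⟨Nat.prime_two⟩
  have h1 := (not_dvd_relIndex_mono hUQ hQK h).2
  obtain ⟨n, hn⟩ := hQ.index (U.subgroupOf Q)
  rcases Nat.eq_zero_or_pos n with rfl | hn0
  · exact le_antisymm (relIndex_eq_one.1 (by rw [relIndex, hn, pow_zero])) hUQ
  · exact absurd (by rw [relIndex, hn]; exact dvd_pow_self 2 hn0.ne') h1

/-- A subgroup of odd index contains the odd powers: squares in it give membership. -/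
theorem mem_of_sq {H : Type*} [Group H] [Finite H] {N : Subgroup H} [N.Normal] {x : H}
    (hN : ¬ 2 ∣ N.index) (hx : x * x ∈ N) : x ∈ N := by
  rw [← QuotientGroup.eq_one_iff] at hx ⊢
  rw [← orderOf_eq_one_iff]
  have h1 : orderOf (x : H ⧸ N) ∣ 2 := orderOf_dvd_of_pow_eq_one (by rw [sq]; simpa using hx)
  have h2 : orderOf (x : H ⧸ N) ∣ N.index := by
    rw [index]; exact orderOf_dvd_natCard _
  exact Nat.eq_one_of_dvd_coprimes ((Nat.Prime.coprime_iff_not_dvd Nat.prime_two).2 hN) h1 h2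

/-- An element of order dividing two in the image of a group whose image has odd order. -/
theorem map_eq_one_of_sq {H M : Type*} [Group H] [Finite H] [Group M] (f : H →* M)
    (hodd : ¬ 2 ∣ f.ker.index) {x : H} (hx : f x * f x = 1) : f x = 1 :=
  mem_of_sq (N := f.ker) hodd (by rw [MonoidHom.mem_ker, map_mul, hx])

/-- The automorphism of `A` induced by a conjugation. -/
theorem normalizerHom_eq_iff {A : Subgroup G} (m n : normalizer (A : Set G)) :
    A.normalizerMonoidHom m = A.normalizerMonoidHom n ↔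
      (m : G)⁻¹ * (n : G) ∈ centralizer (A : Set G) := by
  have h : A.normalizerMonoidHom m = A.normalizerMonoidHom n ↔
      m⁻¹ * n ∈ A.normalizerMonoidHom.ker := by
    rw [MonoidHom.mem_ker, map_mul, map_inv, inv_mul_eq_one]
  rw [h, normalizerMonoidHom_ker, mem_subgroupOf]
  simp

theorem normalizerHom_eq_one_iff {A : Subgroup G} (m : normalizer (A : Set G)) :
    A.normalizerMonoidHom m = 1 ↔ (m : G) ∈ centralizer (A : Set G) := by
  rw [← MonoidHom.mem_ker, normalizerMonoidHom_ker, mem_subgroupOf]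

theorem fix_of_centralizer {A : Subgroup G} {n a : G} (hn : n ∈ centralizer (A : Set G))
    (ha : a ∈ A) : n * a * n⁻¹ = a := by
  rw [← mem_centralizer_iff.1 hn a ha, mul_inv_cancel_right]

/-- Burnside: an abelian Sylow subgroup centralised by its normaliser has a normal complement. -/
theorem burnside {X A : Subgroup G} (hA : IsElementaryAbelian 2 A) (hAX : A ≤ X)
    (hodd : ¬ 2 ∣ A.relIndex X)
    (hc : X ⊓ normalizer (A : Set G) ≤ centralizer (A : Set G)) :
    X ≤ (oddCore ↥X).map X.subtype ⊔ A := by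
  haveI : Fact (Nat.Prime 2) := ⟨Nat.prime_two⟩
  let P : Sylow 2 X := ((isPGroup_of_elem hA).comap_subtype (K := X)).toSylow hodd
  have hP : (P : Subgroup X) = A.subgroupOf X := rfl
  have hN : normalizer ((P : Subgroup X) : Set X) ≤ centralizer ((P : Subgroup X) : Set X) := by
    intro n hn
    rw [hP] at hn
    have h1 : (n : G) ∈ X ⊓ normalizer (A : Set G) :=
      ⟨n.2, L34Sylow.CentT.coe_mem_normalizer hAX hn⟩
    refine mem_centralizer_iff.2 fun p hp => Subtype.ext ?_
    exact mem_centralizer_iff.1 (hc h1) p (mem_subgroupOf.1 hp)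
  have hcompl := MonoidHom.ker_transferSylow_isComplement' P hN
  have hodd' : (MonoidHom.transferSylow P hN).ker ≤ oddCore ↥X :=
    Base.le_oddCore (Nat.odd_iff.2
      (Nat.two_dvd_ne_zero.1 (MonoidHom.not_dvd_card_ker_transferSylow P hN)))
  intro g hg
  have h1 : (⟨g, hg⟩ : ↥X) ∈ oddCore ↥X ⊔ A.subgroupOf X := by
    refine sup_le_sup hodd' hP.le ?_
    rw [hcompl.sup_eq_top]
    exact mem_top _
  have h2 := mem_map_of_mem X.subtype h1
  rw [Subgroup.map_sup, subgroupOf_map_subtype] at h2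
  exact (sup_le_sup le_rfl inf_le_left : _ ≤ (oddCore ↥X).map X.subtype ⊔ A) h2

/-- Fusion of elements of `A` inside a subgroup `K` is controlled by `N(A) ⊓ K`. -/
theorem control {S : Sylow 2 G} {A : Subgroup G} (hA : IsElementaryAbelian 2 A)
    (hweak : ∀ g : G, A.map (MulAut.conj g).toMonoidHom ≤ S →
      A.map (MulAut.conj g).toMonoidHom = A)
    {K : Subgroup G} (hAK : A ≤ K) {z c : G} (hz : z ∈ A) (hc : c ∈ K)
    (hcz : c * z * c⁻¹ ∈ A) :
    ∃ n ∈ normalizer (A : Set G) ⊓ K, n * z * n⁻¹ = c * z * c⁻¹ := by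
  haveI : Fact (Nat.Prime 2) := ⟨Nat.prime_two⟩
  set z' := c * z * c⁻¹ with hz'
  set L := K ⊓ cz z' with hL
  have hAL : A ≤ L := le_inf hAK fun a ha => mem_cz_comm hA ha hcz
  obtain ⟨U, hAU, hUL, hU, hUodd⟩ := exists_twoGroup_ge (isPGroup_of_elem hA) hAL
  have hV : IsPGroup 2 ↥(A.map (MulAut.conj c).toMonoidHom) := (isPGroup_of_elem hA).map _
  have hVL : A.map (MulAut.conj c).toMonoidHom ≤ L := by
    rintro _ ⟨a, ha, rfl⟩
    exact ⟨K.mul_mem (K.mul_mem hc (hAK ha)) (K.inv_mem hc), conj_cz (mem_cz_comm hA ha hz)⟩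
  obtain ⟨k, hk, hkU⟩ := CfsgLib.Transfer.exists_conj_le_of_isPGroup hU hUL hUodd hV hVL
  obtain ⟨T, hUT⟩ := hU.exists_le_sylow
  obtain ⟨h, hT⟩ := MulAction.exists_smul_eq G T S
  have hUS : ∀ x ∈ U, h * x * h⁻¹ ∈ (S : Subgroup G) := fun x hx => by
    rw [← hT]
    exact Subgroup.smul_mem_pointwise_smul x (MulAut.conj h) _ (hUT hx)
  have h1 : A.map (MulAut.conj h).toMonoidHom = A := hweak h (by
    rintro _ ⟨a, ha, rfl⟩
    exact hUS a (hAU ha))
  have h2 : A.map (MulAut.conj (h * (k⁻¹ * c))).toMonoidHom = A := hweak _ (by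
    rintro _ ⟨a, ha, rfl⟩
    have := hUS _ (hkU _ (mem_map_of_mem (MulAut.conj c).toMonoidHom ha))
    simpa [mul_assoc] using this)
  have hnorm : ∀ g : G, A.map (MulAut.conj g).toMonoidHom = A → g ∈ normalizer (A : Set G) :=
    fun g e => mem_normalizer_of_forall fun a ha =>
      e.le (mem_map_of_mem (MulAut.conj g).toMonoidHom ha)
  refine ⟨k⁻¹ * c, ⟨?_, K.mul_mem (K.inv_mem hk.1) hc⟩, ?_⟩
  · have := mul_mem (inv_mem (hnorm _ h1)) (hnorm _ h2)
    rwa [inv_mul_cancel_left] at this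
  · have hkz : k * z' = z' * k := mem_centralizer_singleton_iff.1 hk.2
    calc k⁻¹ * c * z * (k⁻¹ * c)⁻¹ = k⁻¹ * (z' * k) := by rw [hz']; group
      _ = z' := by rw [← hkz, inv_mul_cancel_left]

/-- An involution isolated with respect to a Sylow subgroup of a centraliser. -/
theorem exists_mul_of_isolated {t z : G} {R : Subgroup G} (hR : IsPGroup 2 R) (hRt : R ≤ cz t)
    (hodd : ¬ 2 ∣ R.relIndex (cz t)) (hzR : z ∈ R) (hz : orderOf z = 2)
    (hfix : ∀ c ∈ cz t, c * z * c⁻¹ ∈ R → c * z * c⁻¹ = z) :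
    ∀ g ∈ cz t, ∃ o ∈ core t, ∃ c ∈ cz t ⊓ cz z, g = o * c := by
  haveI : Fact (Nat.Prime 2) := ⟨Nat.prime_two⟩
  intro g hg
  let P : Sylow 2 ↥(cz t) := (hR.comap_subtype (K := cz t)).toSylow hodd
  have hiso : IsIsolatedInvolution (⟨z, hRt hzR⟩ : ↥(cz t)) := by
    refine Involutions.isolated_of_sylow P (by rw [Subgroup.orderOf_mk]; exact hz) fun c hc => ?_
    exact Subtype.ext (hfix c c.2 hc)
  obtain ⟨o, ho, c, hc, e⟩ := Involutions.ZStar.exists_mul_centralizer hiso (⟨g, hg⟩ : ↥(cz t))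
  refine ⟨o, ⟨o, ho, rfl⟩, c, ⟨c.2, mem_centralizer_singleton_iff.2 ?_⟩,
    congrArg Subtype.val e⟩
  exact congrArg Subtype.val (mem_centralizer_singleton_iff.1 hc)

/-- A subgroup containing the centralisers of all involutions of a Sylow subgroup and its
normaliser is strongly embedded or everything. -/
theorem stronglyEmbedded_of_cz (S : Sylow 2 G) (hS1 : (S : Subgroup G) ≠ ⊥) {M : Subgroup G}
    (hSM : (S : Subgroup G) ≤ M) (hN : normalizer ((S : Subgroup G) : Set G) ≤ M)
    (hC : ∀ x ∈ (S : Subgroup G), orderOf x = 2 → cz x ≤ M) (hne : M ≠ ⊤) :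
    IsStronglyEmbedded M := by
  haveI : Fact (Nat.Prime 2) := ⟨Nat.prime_two⟩
  have hmax : ¬ 2 ∣ (S : Subgroup G).relIndex M := fun h =>
    S.not_dvd_index (h.trans (Dvd.intro _ (relIndex_mul_index hSM)))
  obtain ⟨z, hzS, hz, hzc⟩ := CfsgLib.LocalEven.CentralZ.exists_central_invol S hS1
  have hzM : (S : Subgroup G) ≤ cz z := fun r hr => mem_centralizer_singleton_iff.2 (hzc r hr).eq.symm
  have hall : ∀ t ∈ M, orderOf t = 2 → cz t ≤ M := by
    intro t ht ht2
    obtain ⟨m, hm, hmS⟩ := CfsgLib.Transfer.exists_conj_le_of_isPGroup S.2 hSM hmax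
      (V := zpowers t) (IsPGroup.of_card (n := 1) (by rw [Nat.card_zpowers, ht2, pow_one]))
      (zpowers_le.2 ht)
    have hord : orderOf (m⁻¹ * t * m) = 2 := by
      rw [← ht2]
      simpa using orderOf_injective (MulAut.conj m⁻¹).toMonoidHom (MulEquiv.injective _) t
    intro c hc
    have hc' : m⁻¹ * c * m⁻¹⁻¹ ∈ cz (m⁻¹ * t * m⁻¹⁻¹) := conj_cz hc
    rw [inv_inv] at hc'
    have := mul_mem (mul_mem hm (hC _ (hmS t (mem_zpowers t)) hord hc')) (inv_mem hm)
    simpa [mul_assoc] using this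
  refine ⟨hne, (Involutions.even_card_iff M).2 ⟨z, hSM hzS, hz⟩, fun g hg => ?_⟩
  rw [Involutions.odd_card_iff]
  rintro t ⟨htM, htg⟩ ht2
  obtain ⟨m, hm, hmS⟩ := CfsgLib.Transfer.exists_conj_le_of_isPGroup S.2 hSM hmax
    (V := zpowers t) (IsPGroup.of_card (n := 1) (by rw [Nat.card_zpowers, ht2, pow_one]))
    (zpowers_le.2 htM)
  set M' := M.map (MulAut.conj g).toMonoidHom with hM'
  have hall' : ∀ x ∈ M', orderOf x = 2 → cz x ≤ M' := by
    intro x hx hx2 c hc
    have hx' := Involutions.mem_conj_map.1 hx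
    have hord : orderOf (g⁻¹ * x * g) = 2 := by
      rw [← hx2]
      simpa using orderOf_injective (MulAut.conj g⁻¹).toMonoidHom (MulEquiv.injective _) x
    refine Involutions.mem_conj_map.2 (hall _ hx' hord ?_)
    have := conj_cz (g := g⁻¹) hc
    rwa [inv_inv] at this
  -- the conjugate of `S` in `M` containing `t` has a central involution in both
  have hts : m⁻¹ * t * m ∈ (S : Subgroup G) := hmS t (mem_zpowers t)
  have hcM' : m * z * m⁻¹ ∈ M' := by
    refine hall' t htg ht2 (mem_centralizer_singleton_iff.2 ?_)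
    have e := (hzc _ hts).eq
    calc m * z * m⁻¹ * t = m * (z * (m⁻¹ * t * m)) * m⁻¹ := by group
      _ = m * (m⁻¹ * t * m * z) * m⁻¹ := by rw [e]
      _ = t * (m * z * m⁻¹) := by group
  have hc2 : orderOf (m * z * m⁻¹) = 2 := by
    rw [← hz]; exact orderOf_injective (MulAut.conj m).toMonoidHom (MulEquiv.injective _) z
  have hTM' : (S : Subgroup G).map (MulAut.conj (g⁻¹ * m)).toMonoidHom ≤ M := by
    rintro _ ⟨s, hs, rfl⟩
    have := Involutions.mem_conj_map.1 (hall' _ hcM' hc2 (conj_cz (g := m) (hzM hs)))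
    simpa [mul_assoc] using this
  obtain ⟨k, hk, hkS⟩ := CfsgLib.Transfer.exists_conj_le_of_isPGroup S.2 hSM hmax
    (S.2.map (MulAut.conj (g⁻¹ * m)).toMonoidHom) hTM'
  have hn : k⁻¹ * (g⁻¹ * m) ∈ normalizer ((S : Subgroup G) : Set G) :=
    mem_normalizer_of_forall fun s hs => by
      have := hkS _ (mem_map_of_mem (MulAut.conj (g⁻¹ * m)).toMonoidHom hs)
      simpa [mul_assoc] using this
  have := mul_mem (mul_mem hk (hN hn)) (inv_mem hm)
  rw [mul_inv_cancel_left, mul_inv_cancel_right] at this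
  exact hg (by simpa using inv_mem this)

end CfsgLib.AEightSyl.CoresTools
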