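import Cfsg.Agent.Lib.AEightSyl.Pieces
import Cfsg.Agent.Lib.AEightSyl.CoresTools

/-!
# The cores when `z` meets the lines: the generated subgroup and its normaliser (S2918, piece F)
-/

set_option autoImplicit false
set_option linter.style.haveILetI false
set_option linter.unusedSectionVars false
set_option synthInstance.maxSize 4000

namespace CfsgLib.AEightSyl.CoresL

open Cfsg Subgroup CfsgLib.L34Sylow CfsgLib.AEightSyl CoresTools
open CfsgLib.L34Sylow.CoresAux (Bal gen le_gen gen_mono normalizer_le_gen)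

universe u

theorem vz_mem (i : Fin 3) : vz ∈ lineV i ∧ v0 ∈ lineV i := by revert i; decide

theorem line_two (i : Fin 3) : ∃ p, p ∈ lineV i ∧ p ≠ v0 ∧ p ≠ vz := by revert i; decide

theorem offH_line : ∀ i : Fin 3, ∀ v : Vec, v ∈ lineV i → offH v = false := by decide

theorem line_inter : ∀ i k : Fin 3, ∀ v : Vec, i ≠ k → v ∈ lineV i → v ∈ lineV k →
    v = v0 ∨ v = vz := by decide

theorem flag_sq : ∀ i : Fin 3, ∀ v : Vec, emul (v, flag i) (v, flag i) = (v0, t0) →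
    v ∈ lineV i := by decide

theorem flag0_sq : ∀ k : Fin 3, emul (v0, flag k) (v0, flag k) = (v0, t0) := by decide

theorem vec_sq : ∀ v : Vec, emul (v, t0) (v, t0) = (v0, t0) := by decide

theorem succ_ne : ∀ k : Fin 3, k + 1 ≠ k := by decide

theorem line_nodup : ∀ i : Fin 3, (lineV i).Nodup ∧ (lineV i).length = 4 := by decide

variable {G : Type u} [Group G] [Finite G] {S : Sylow 2 G} {φ : El → G}

section

variable (hS : Setup S φ) (hF : Facts S φ)
include hS hF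

theorem phi_one : φ (v0, t0) = 1 := by
  have h := hS.mul (v0, t0) (v0, t0)
  rw [show emul (v0, t0) (v0, t0) = ((v0, t0) : El) by decide] at h
  exact mul_left_cancel (h.trans (mul_one _).symm)

theorem av_mem (v : Vec) : av φ v ∈ SA φ := (hF.mem_A _).2 ⟨v, rfl⟩

theorem av_ne_one {v : Vec} (hv : v ≠ v0) : av φ v ≠ 1 := fun e => hv (by
  have := hS.inj (e.trans (phi_one hS hF).symm)
  exact congrArg Prod.fst this)

theorem exists_av {a : G} (ha : a ∈ SA φ) (h1 : a ≠ 1) : ∃ v, v ≠ v0 ∧ av φ v = a := by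
  obtain ⟨v, rfl⟩ := (hF.mem_A _).1 ha
  exact ⟨v, fun e => h1 (e ▸ phi_one hS hF), rfl⟩

theorem orderOf_A {a : G} (ha : a ∈ SA φ) (h1 : a ≠ 1) : orderOf a = 2 :=
  orderOf_eq_prime (hF.elem_A.2 a ha) h1

theorem orderOf_z : orderOf (zc φ) = 2 :=
  orderOf_A hS hF (av_mem hS hF vz) (av_ne_one hS hF (by decide))

theorem S_le_cz : (S : Subgroup G) ≤ cz (zc φ) := fun g hg => by
  have h := ((hF.center _ (hS.mem _)).2 (Or.inr rfl)) g hg
  exact mem_centralizer_singleton_iff.2 h.symm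

theorem A_le_cz {a : G} (ha : a ∈ SA φ) : SA φ ≤ cz a := fun _ hb => mem_cz_comm hF.elem_A hb ha

theorem card_SL (i : Fin 3) : 4 ≤ Nat.card (SL φ i) := by
  obtain ⟨hn, hl⟩ := line_nodup i
  let f : Fin (lineV i).length → SL φ i := fun n =>
    ⟨av φ ((lineV i).get n), (hF.mem_L i _).2 ⟨_, List.get_mem _ _, rfl⟩⟩
  have hf : Function.Injective f := fun m n e => by
    have := congrArg Prod.fst (hS.inj (congrArg Subtype.val e))
    exact hn.injective_get this
  have := Nat.card_le_card_of_injective f hf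
  rwa [Nat.card_fin, hl] at this

theorem SL_le_A (i : Fin 3) : SL φ i ≤ SA φ := fun g hg => by
  obtain ⟨v, -, rfl⟩ := (hF.mem_L i g).1 hg
  exact av_mem hS hF v

theorem SL_le_E (i : Fin 3) : SL φ i ≤ SE φ i := fun g hg => by
  obtain ⟨v, hv, rfl⟩ := (hF.mem_L i g).1 hg
  exact (hF.mem_E i _).2 ⟨v, hv, Or.inl rfl⟩

theorem elem_SL (i : Fin 3) : IsElementaryAbelian 2 (SL φ i) :=
  elem_le hF.elem_A (SL_le_A hS hF i)

/-- Balance at an involution conjugate to `z`. -/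
theorem bal_ztype {v : G} (hv : ZType φ v) : Bal v :=
  Bal.of_isConj (bal_of_solvable hS.sol) hv

end

/-- A line with all its involutions conjugate to `z`. -/
def ZLine (φ : El → G) (j : Fin 3) : Prop := ∀ v ∈ lineV j, v ≠ v0 → ZType φ (av φ v)

theorem exists_zline (h : (∃ j, OneLine φ j) ∨ ∃ k, TwoLines φ k) :
    ¬ Rot φ ∧ ∃ j, ZLine φ j := by
  rcases h with ⟨j, hj⟩ | ⟨k, hk⟩
  · exact ⟨hj.not_rot, j, fun v hv hv0 => (hj.ztype v hv0).2 hv⟩
  · obtain ⟨b, hb⟩ := hk.ztype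
    refine ⟨hk.not_rot, k + 1, fun v hv hv0 => (hb v hv0).2 (Or.inl ⟨k + 1, succ_ne k, hv⟩)⟩

section

variable (hS : Setup S φ) (hF : Facts S φ) (hB : BigCent φ) {j : Fin 3} (hj : ZLine φ j)
include hS hF hB hj

theorem ztype_E {e : G} (he : e ∈ SE φ j) (h1 : e ≠ 1) : ZType φ e := by
  obtain ⟨v, hv, rfl | rfl⟩ := (hF.mem_E j e).1 he
  · exact hj v hv fun e => h1 (e ▸ phi_one hS hF)
  · obtain ⟨c, -, w, hw, hw0, -, hcw⟩ := hB.fuse j v hv
    exact (hj w hw hw0).trans (isConj_iff.2 ⟨c, hcw⟩).symm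

theorem ztype_L {e : G} (he : e ∈ SL φ j) (h1 : e ≠ 1) : ZType φ e :=
  ztype_E hS hF hB hj (SL_le_E hS hF j he) h1

omit hB hj in
/-- The subgroup generated by the cores on the line. -/
theorem le_W_aux (hb : ∀ e ∈ SL φ j, e ≠ 1 → Bal e) {a : G} (ha : orderOf a = 2)
    (hL : SL φ j ≤ cz a) : core a ≤ gen (SL φ j) :=
  core_le_gen (elem_SL hS hF j) (card_SL hS hF j) hL fun b hb' hb1 => hb b hb' hb1 a ha
    (mem_centralizer_singleton_iff.2 (mem_centralizer_singleton_iff.1 (hL hb')).symm)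

theorem le_W {a : G} (ha : orderOf a = 2) (hL : SL φ j ≤ cz a) : core a ≤ gen (SL φ j) :=
  le_W_aux hS hF (fun _ he h1 => bal_ztype hS hF (ztype_L hS hF hB hj he h1)) ha hL

theorem le_W_A {a : G} (ha : a ∈ SA φ) (h1 : a ≠ 1) : core a ≤ gen (SL φ j) :=
  le_W hS hF hB hj (orderOf_A hS hF ha h1) ((SL_le_A hS hF j).trans (A_le_cz hS hF ha))

theorem gen_A : gen (SA φ) = gen (SL φ j) :=
  le_antisymm (iSup_le fun a => le_W_A hS hF hB hj a.2.1 a.2.2) (gen_mono (SL_le_A hS hF j))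

theorem gen_E : gen (SE φ j) = gen (SL φ j) := by
  refine le_antisymm (iSup_le fun a => ?_) (gen_mono (SL_le_E hS hF j))
  refine le_W hS hF hB hj (orderOf_eq_prime ((hF.elem_E j).2 a a.2.1) a.2.2) fun b hb => ?_
  exact mem_cz_comm (hF.elem_E j) (SL_le_E hS hF j hb) a.2.1

theorem odd_W : Odd (Nat.card (gen (SL φ j))) := by
  rw [← gen_E hS hF hB hj]
  exact CoresTools.odd_gen (hF.elem_E j) (hF.card_E j).ge fun e he h1 =>
    bal_ztype hS hF (ztype_E hS hF hB hj he h1)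

theorem NA_le : normalizer (SA φ : Set G) ≤ normalizer (gen (SL φ j) : Set G) :=
  gen_A hS hF hB hj ▸ normalizer_le_gen (SA φ)

theorem core_le_M {a : G} (ha : a ∈ SA φ) (h1 : a ≠ 1) :
    core a ≤ normalizer (gen (SL φ j) : Set G) :=
  (le_W_A hS hF hB hj ha h1).trans le_normalizer

theorem S_le_M : (S : Subgroup G) ≤ normalizer (gen (SL φ j) : Set G) :=
  hF.norm_S.1.trans (NA_le hS hF hB hj)

theorem cz_z_le (hrot : ¬ Rot φ) : cz (zc φ) ≤ normalizer (gen (SL φ j) : Set G) := by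
  intro g hg
  obtain ⟨o, ho, n, hn, rfl⟩ := hB.planes hrot j g hg
  refine mul_mem (core_le_M hS hF hB hj (av_mem hS hF vz) (av_ne_one hS hF (by decide)) ho) ?_
  have := normalizer_le_gen (SE φ j) hn.1
  rwa [gen_E hS hF hB hj] at this

theorem cz_conj_le {a n : G} (hn : n ∈ normalizer (SA φ : Set G))
    (ha : cz a ≤ normalizer (gen (SL φ j) : Set G)) :
    cz (n * a * n⁻¹) ≤ normalizer (gen (SL φ j) : Set G) := by
  intro g hg
  have hn' := NA_le hS hF hB hj hn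
  have h := conj_cz (g := n⁻¹) hg
  rw [show n⁻¹ * (n * a * n⁻¹) * n⁻¹⁻¹ = a by group] at h
  have := mul_mem (mul_mem hn' (ha h)) (inv_mem hn')
  simpa [mul_assoc] using this

theorem cz_ztype_le (hrot : ¬ Rot φ) {a : G} (ha : a ∈ SA φ) (hz : ZType φ a) :
    cz a ≤ normalizer (gen (SL φ j) : Set G) := by
  obtain ⟨g, hg⟩ := isConj_iff.1 hz
  obtain ⟨n, hn, hn'⟩ := hF.fus_A _ (av_mem hS hF vz) g (by show g * zc φ * g⁻¹ ∈ _; rwa [hg])
  have e : n * zc φ * n⁻¹ = a := hn'.trans hg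
  exact e ▸ cz_conj_le hS hF hB hj hn (cz_z_le hS hF hB hj hrot)

end

end CfsgLib.AEightSyl.CoresL
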