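import Cfsg.Agent.Lib.AEightSyl.CoresLinesTwo

/-!
# Balance at the other involutions when `z` meets two lines (S2918, piece F)
-/

set_option autoImplicit false
set_option linter.style.haveILetI false
set_option linter.unusedSectionVars false
set_option synthInstance.maxSize 4000

namespace CfsgLib.AEightSyl.CoresL

open Cfsg Subgroup CfsgLib.L34Sylow CfsgLib.AEightSyl CoresTools
open CfsgLib.L34Sylow.CoresAux (Bal gen le_gen gen_mono normalizer_le_gen)

universe u

variable {G : Type u} [Group G] [Finite G] {S : Sylow 2 G} {φ : El → G}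
variable (hS : Setup S φ) (hF : Facts S φ) (hZ : StabZ S φ) (hrot : ¬ Rot φ) (hB : BigCent φ)
include hS hF hZ hrot hB
variable {j k : Fin 3} {v : Vec} {d : G} {H₀ : Subgroup G} (P : Pt S φ j k v d H₀)
include P
variable {K : Type u} [Group K] [Finite K] {π : ↥H₀ →* K}
variable (hπ : Function.Surjective π)
variable (hker : ∀ x : ↥H₀, π x = 1 ↔ (x : G) ∈ core (av φ v) ⊔ SF φ d)
include hπ hker

/-- The image of an element of `A`. -/
def img (π : ↥H₀ →* K) : Subgroup K := ((SA φ).subgroupOf H₀).map π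

theorem mem_img {w : K} : w ∈ img (φ := φ) π ↔ ∃ x : ↥H₀, (x : G) ∈ SA φ ∧ π x = w := by
  simp [img, Subgroup.mem_map, mem_subgroupOf]

theorem mk_eq_iff {a b : ↥H₀} (ha : (a : G) ∈ SA φ) (hb : (b : G) ∈ SA φ) :
    π a = π b ↔ (a : G) * b ∈ SF φ d := by
  have hb2 : ((b : G))⁻¹ = b := inv_eq_of_mul_eq_one_right (by rw [← sq]; exact hF.elem_A.2 _ hb)
  rw [← mul_inv_eq_one, ← map_inv, ← map_mul, hker]
  simp only [Subgroup.coe_mul, Subgroup.coe_inv, hb2]
  exact ⟨inf_ker hS hF hZ hrot hB P ((SA φ).mul_mem ha hb), fun h => mem_sup_right h⟩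

theorem klein_img : IsKleinFour (img (φ := φ) π) := by
  haveI : Fact (Nat.Prime 2) := ⟨Nat.prime_two⟩
  let g : ↥(SA φ) →* K := π.comp (inclusion P.cent.A_le)
  have hrange : g.range = img (φ := φ) π := by
    ext w
    rw [mem_img hS hF hZ hrot hB P hπ hker]
    constructor
    · rintro ⟨a, rfl⟩; exact ⟨inclusion P.cent.A_le a, a.2, rfl⟩
    · rintro ⟨x, hx, rfl⟩; exact ⟨⟨x, hx⟩, congrArg π (Subtype.ext rfl)⟩
  have hk : g.ker = (SF φ d).subgroupOf (SA φ) := by
    ext a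
    rw [MonoidHom.mem_ker, mem_subgroupOf]
    show π (inclusion P.cent.A_le a) = 1 ↔ _
    rw [hker]
    exact ⟨inf_ker hS hF hZ hrot hB P a.2, fun h => mem_sup_right h⟩
  have h4 : Nat.card (img (φ := φ) π) = 4 := by
    have h1 := g.ker.index_mul_card
    rw [index_ker, hrange, hk,
      Nat.card_congr (subgroupOfEquivOfLe (SF_le_A hS hF hZ hrot hB P)).toEquiv,
      show Nat.card (SF φ d) = 4 from P.stab.fixed, hF.card_A] at h1
    omega
  haveI : Nontrivial (img (φ := φ) π) := Finite.one_lt_card_iff_nontrivial.1 (by omega)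
  refine ⟨h4, (Monoid.exponent_eq_prime_iff Nat.prime_two).2 fun w hw => orderOf_eq_prime ?_ hw⟩
  obtain ⟨x, hx, e⟩ := (mem_img hS hF hZ hrot hB P hπ hker).1 w.2
  refine Subtype.ext ?_
  rw [SubmonoidClass.coe_pow, OneMemClass.coe_one, ← e, ← map_pow]
  rw [show x ^ 2 = 1 from Subtype.ext (by simpa using hF.elem_A.2 _ hx), map_one]

theorem sylow_img (Q : Subgroup K) (hQ : IsPGroup 2 Q) (hle : img (φ := φ) π ≤ Q) :
    Q = img (φ := φ) π := by
  refine eq_of_two_le (K := ⊤) hle le_top hQ fun h => P.cent.odd_index ?_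
  rw [relIndex_top_right] at h
  exact h.trans (index_map_dvd _ hπ)

/-- `d` as an element of `H₀`. -/
def dd : ↥H₀ := ⟨d, P.cent.d_mem⟩

/-- `z` as an element of `H₀`. -/
def zz : ↥H₀ := ⟨zc φ, P.cent.A_le (av_mem hS hF vz)⟩

/-- A conjugate of `z` by a power of `d`. -/
theorem conj_mem_A (i : ℕ) : d ^ i * zc φ * (d ^ i)⁻¹ ∈ SA φ :=
  (mem_normalizer_iff.1 (pow_mem P.stab.mem.1 i) _).1 (av_mem hS hF vz)

theorem img_d (i : ℕ) :
    π (dd P ^ i * zz hS hF P *
      (dd P ^ i)⁻¹) ∈ img (φ := φ) π :=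
  (mem_img hS hF hZ hrot hB P hπ hker).2
    ⟨_, by simpa [dd, zz] using conj_mem_A hS hF hZ hrot hB P hπ hker i, rfl⟩

/-- The involutions of the image are the three conjugates of the image of `z`. -/
theorem img_cases {w : K} (hw : w ∈ img (φ := φ) π) (hw1 : w ≠ 1) :
    ∃ i : ℕ, π (dd P) ^ i * π (zz hS hF P) *
      (π (dd P) ^ i)⁻¹ = w := by
  have hK := klein_img hS hF hZ hrot hB P hπ hker
  set D := π (dd P) with hD
  set Z := π (zz hS hF P) with hZd
  have hmem : ∀ i : ℕ, D ^ i * Z * (D ^ i)⁻¹ ∈ img (φ := φ) π := fun i => by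
    have := img_d hS hF hZ hrot hB P hπ hker i
    simpa [hD, hZd, map_mul, map_inv, map_pow] using this
  have hne : ∀ i, i = 1 ∨ i = 2 → D ^ i * Z * (D ^ i)⁻¹ ≠ Z := by
    intro i hi e
    have h1 : π (dd P ^ i * zz hS hF P *
      (dd P ^ i)⁻¹) = π (zz hS hF P) := by
      simpa [hD, hZd, map_mul, map_inv, map_pow] using e
    rw [mk_eq_iff hS hF hZ hrot hB P hπ hker
      (by simpa [dd, zz] using conj_mem_A hS hF hZ hrot hB P hπ hker i)
      (by simpa [zz] using av_mem hS hF vz)] at h1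
    have h2 := d_moves hS hF hZ hrot hB P (i := i) (by simpa [dd, zz] using h1)
    apply z_not_SF hS hF hZ hrot hB P
    refine ⟨av_mem hS hF vz, mem_centralizer_singleton_iff.2 ?_⟩
    rcases hi with rfl | rfl
    · rw [pow_one] at h2
      exact (mul_inv_eq_iff_eq_mul.1 h2).symm
    · have h3 : d ^ 3 * zc φ * (d ^ 3)⁻¹ = zc φ :=
        fix_of_centralizer P.stab.cube (av_mem hS hF vz)
      rw [pow_succ', show d * d ^ 2 * zc φ * (d * d ^ 2)⁻¹ = d * (d ^ 2 * zc φ * (d ^ 2)⁻¹) * d⁻¹ by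
        group, h2] at h3
      exact (mul_inv_eq_iff_eq_mul.1 h3).symm
  have hZ1 : Z ≠ 1 := fun e => z_not_SF hS hF hZ hrot hB P
    (inf_ker hS hF hZ hrot hB P (av_mem hS hF vz) ((hker _).1 e))
  have hc1 : ∀ i : ℕ, D ^ i * Z * (D ^ i)⁻¹ ≠ 1 := fun i e => hZ1 (conj_eq_one_iff.1 e)
  have h21 : D ^ 2 * Z * (D ^ 2)⁻¹ ≠ D ^ 1 * Z * (D ^ 1)⁻¹ := by
    intro e
    apply hne 1 (Or.inl rfl)
    rw [sq, show D * D * Z * (D * D)⁻¹ = D * (D * Z * D⁻¹) * D⁻¹ by group, pow_one] at e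
    rw [pow_one]
    exact mul_left_cancel (mul_right_cancel e)
  by_cases e0 : w = Z
  · exact ⟨0, by simp [e0]⟩
  by_cases e1 : w = D ^ 1 * Z * (D ^ 1)⁻¹
  · exact ⟨1, e1.symm⟩
  refine ⟨2, ?_⟩
  have h0 : Z ∈ img (φ := φ) π := by simpa using hmem 0
  rw [Involutions.klein_eq_mul hK h0 (hmem 1) hw hZ1 (hc1 1) (hne 1 (Or.inl rfl)).symm hw1 e0 e1,
    ← Involutions.klein_eq_mul hK h0 (hmem 1) (hmem 2) hZ1 (hc1 1) (hne 1 (Or.inl rfl)).symm
      (hc1 2) (hne 2 (Or.inr rfl)) h21]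

theorem one_class {s : K} (hs : orderOf s = 2) : IsConj (π (zz hS hF P)) s := by
  haveI : Fact (Nat.Prime 2) := ⟨Nat.prime_two⟩
  have hK := klein_img hS hF hZ hrot hB P hπ hker
  have hodd : ¬ 2 ∣ (img (φ := φ) π).relIndex ⊤ := fun h => by
    rw [relIndex_top_right] at h
    exact P.cent.odd_index (h.trans (index_map_dvd _ hπ))
  obtain ⟨c, -, hc⟩ := CfsgLib.Transfer.exists_conj_le_of_isPGroup
    (IsPGroup.of_card (n := 2) (by rw [hK.card_four]; norm_num) : IsPGroup 2 (img (φ := φ) π))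
    le_top hodd (V := zpowers s)
    (IsPGroup.of_card (n := 1) (by rw [Nat.card_zpowers, hs, pow_one])) le_top
  have h1 : c⁻¹ * s * c ≠ 1 := fun e => by
    have : s = 1 := by
      calc s = c * (c⁻¹ * s * c) * c⁻¹ := by group
        _ = 1 := by rw [e]; group
    rw [this, orderOf_one] at hs; omega
  obtain ⟨i, hi⟩ := img_cases hS hF hZ hrot hB P hπ hker (hc s (mem_zpowers s)) h1
  refine isConj_iff.2 ⟨c * π (dd P) ^ i, ?_⟩
  calc _ = c * (c⁻¹ * s * c) * c⁻¹ := by rw [← hi]; group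
    _ = s := by group

theorem core_bot : oddCore K = ⊥ := by
  haveI : Fact (Nat.Prime 2) := ⟨Nat.prime_two⟩
  set t := av φ v
  set F := SF φ d
  have hFA : F ≤ SA φ := SF_le_A hS hF hZ hrot hB P
  have hFH : F ≤ H₀ := hFA.trans P.cent.A_le
  have hFn : F ≤ normalizer (core t : Set G) :=
    (hFA.trans (A_le_cz hS hF (av_mem hS hF v))).trans (norm_core t)
  set X := ((oddCore K).comap π).map H₀.subtype with hX
  have hXH : X ≤ H₀ := map_subtype_le _
  have hkerG : π.ker.map H₀.subtype = core t ⊔ F := by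
    ext g
    simp only [Subgroup.mem_map, MonoidHom.mem_ker]
    refine ⟨?_, fun hg => ⟨⟨g, sup_le P.cent.core_le hFH hg⟩, (hker _).2 hg, rfl⟩⟩
    rintro ⟨x, hx, rfl⟩
    exact (hker x).1 hx
  have hkX : core t ⊔ F ≤ X := hkerG ▸ map_mono (fun x hx => by
    show π x ∈ oddCore K
    rw [MonoidHom.mem_ker.1 hx]; exact one_mem _)
  have h4 : Nat.card F = 4 := P.stab.fixed
  have hodd : ¬ 2 ∣ F.relIndex X := by
    rw [← relIndex_mul_relIndex F (core t ⊔ F) X le_sup_right hkX]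
    intro h
    rcases (Nat.Prime.dvd_mul Nat.prime_two).1 h with h | h
    · have h1 : F.relIndex (core t ⊔ F) * 4 = Nat.card ↥(core t ⊔ F) := by
        rw [← h4, relIndex, ← Nat.card_congr
          (subgroupOfEquivOfLe (le_sup_right : F ≤ core t ⊔ F)).toEquiv, index_mul_card]
      have h2 : Nat.card ↥(core t ⊔ F) ∣ Nat.card (core t) * 4 := by
        rw [sup_comm, ← h4, mul_comm (Nat.card (core t))]
        exact CfsgLib.Coprime.card_sup_dvd hFn
      rw [← h1] at h2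
      have h3 := h.trans (Nat.dvd_of_mul_dvd_mul_right (by norm_num : 0 < 4) h2)
      exact Nat.not_even_iff_odd.2 (odd_core t) (even_iff_two_dvd.2 h3)
    · rw [← hkerG, hX, relIndex_map_map_of_injective _ _ H₀.subtype_injective,
        ← MonoidHom.comap_bot, relIndex_comap, map_comap_eq_self_of_surjective hπ,
        relIndex_bot_left] at h
      exact Nat.not_even_iff_odd.2 (Base.odd_card_oddCore K) (even_iff_two_dvd.2 h)
  have hc : X ⊓ normalizer (F : Set G) ≤ centralizer (F : Set G) := by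
    intro n hn
    refine mem_centralizer_iff.2 fun f hf => ?_
    have h1 := P.cent.central f hf.1 hf.2 n (hXH hn.1)
    have h2 : f * n * f⁻¹ * n⁻¹ ∈ F := by
      rw [show f * n * f⁻¹ * n⁻¹ = f * (n * f⁻¹ * n⁻¹) by group]
      exact mul_mem hf ((mem_normalizer_iff.1 hn.2 _).1 (inv_mem hf))
    have h3 : f * n * f⁻¹ * n⁻¹ = 1 := eq_one_of_odd_two (odd_order (odd_core t) h1) (by
      rw [← sq]; exact hF.elem_A.2 _ (hFA h2))
    rw [mul_inv_eq_one, mul_inv_eq_iff_eq_mul] at h3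
    exact h3
  have hXb := burnside (elem_le hF.elem_A hFA) ((le_sup_right).trans hkX) hodd hc
  have hnX : H₀ ≤ normalizer (X : Set G) := fun g hg => by
    have h := le_normalizer_map (H := (oddCore K).comap π) H₀.subtype
      ⟨⟨g, hg⟩, ?_, rfl⟩
    · exact h
    · rw [normalizer_eq_top]; exact mem_top _
  have hO1 : (oddCore ↥X).map X.subtype ≤ core t := by
    set OX := (oddCore ↥X).map X.subtype
    have hn1 : H₀ ≤ normalizer (OX : Set G) :=
      hnX.trans (CfsgLib.Base.normalizer_le_normalizer_map_subtype X _)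
    have hodd1 : (Nat.card OX).Coprime 2 := CfsgLib.Base.coprime_card_map_pPrimeCore X
    have h1 : OX ≤ (oddCore ↥H₀).map H₀.subtype :=
      CfsgLib.Base.le_map_pPrimeCore ((map_subtype_le _).trans hXH) hn1 hodd1
    refine h1.trans (StrongTwoClasses.le_core ((map_subtype_le _).trans P.cent.le) ?_
      (Nat.coprime_two_right.1 (CfsgLib.Base.coprime_card_map_pPrimeCore H₀)))
    exact P.cent.normal.trans (CfsgLib.Base.normalizer_le_normalizer_map_subtype H₀ _)
  refine eq_bot_iff.2 fun w hw => ?_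
  obtain ⟨x, rfl⟩ := hπ w
  have hxX : (x : G) ∈ X := ⟨x, hw, rfl⟩
  exact Subgroup.mem_bot.2 ((hker x).2 (sup_le_sup hO1 le_rfl (hXb hxX)))

theorem khyp : KHyp (img (φ := φ) π) :=
  ⟨klein_img hS hF hZ hrot hB P hπ hker, sylow_img hS hF hZ hrot hB P hπ hker,
    fun _ _ hs hu => (one_class hS hF hZ hrot hB P hπ hker hs).symm.trans
      (one_class hS hF hZ hrot hB P hπ hker hu),
    core_bot hS hF hZ hrot hB P hπ hker⟩

/-- The centralizer of the image of `z`. -/
theorem cent_img {g : ↥H₀} (hg : π g ∈ cz (π (zz hS hF P))) :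
    (g : G) ∈ (gen (SL φ j) ⊓ H₀) ⊔ SA φ := by
  haveI : Fact (Nat.Prime 2) := ⟨Nat.prime_two⟩
  set t := av φ v with ht
  set F := SF φ d
  have hFA : F ≤ SA φ := SF_le_A hS hF hZ hrot hB P
  set Z1 := F ⊔ zpowers (zc φ) with hZ1
  have hZA : Z1 ≤ SA φ := sup_le hFA (zpowers_le.2 (av_mem hS hF vz))
  have htA := A_le_cz hS hF (av_mem hS hF v)
  have hzker : (g : G) * zc φ * (g : G)⁻¹ * (zc φ)⁻¹ ∈ core t ⊔ F := by
    have e := mem_centralizer_singleton_iff.1 hg
    have h1 : π (g * zz hS hF P * g⁻¹ *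
        (zz hS hF P)⁻¹) = 1 := by
      rw [map_mul, map_mul, map_mul, map_inv, map_inv, e]; group
    simpa [zz] using (hker _).1 h1
  have hmaps : ∀ a ∈ Z1, (g : G) * a * (g : G)⁻¹ ∈ Z1 ⊔ core t := by
    have hle : Z1 ≤ (Z1 ⊔ core t).comap (MulAut.conj (g : G)).toMonoidHom := by
      refine sup_le (fun f hf => ?_) (zpowers_le.2 ?_)
      · show (g : G) * f * (g : G)⁻¹ ∈ Z1 ⊔ core t
        have h2 := P.cent.central f hf.1 hf.2 g g.2
        rw [show (g : G) * f * (g : G)⁻¹ = (f * g * f⁻¹ * (g : G)⁻¹)⁻¹ * f by group]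
        exact mul_mem (mem_sup_right (inv_mem h2)) (mem_sup_left (mem_sup_left hf))
      · show (g : G) * zc φ * (g : G)⁻¹ ∈ Z1 ⊔ core t
        rw [show (g : G) * zc φ * (g : G)⁻¹ =
          (g : G) * zc φ * (g : G)⁻¹ * (zc φ)⁻¹ * zc φ by group]
        refine mul_mem ((show core t ⊔ F ≤ Z1 ⊔ core t from
          sup_le le_sup_right (le_sup_left.trans le_sup_left)) hzker) ?_
        exact mem_sup_left (mem_sup_right (mem_zpowers _))
    exact fun a ha => hle ha
  obtain ⟨o, ho, n, hn, hgn⟩ := StrongTwoClasses.exists_mul_of_conj_le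
    (isPGroup_of_elem (elem_le hF.elem_A hZA)) (odd_core t)
    ((hZA.trans htA).trans (norm_core t)) hmaps
  have hnH : n ∈ H₀ := by
    have := mul_mem (inv_mem (P.cent.core_le ho)) g.2
    rwa [hgn, inv_mul_cancel_left] at this
  have hnz' : n * zc φ * n⁻¹ ∈ SA φ :=
    hZA ((mem_normalizer_iff.1 hn _).1 (mem_sup_right (mem_zpowers _)))
  obtain ⟨m, hm, hm'⟩ := control hF.elem_A hF.weak_A P.cent.A_le (av_mem hS hF vz) hnH hnz'
  obtain ⟨i, hi⟩ := act_z hS hF hZ hrot hB P hm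
  rw [hm'] at hi
  have hnz : n * zc φ * n⁻¹ = zc φ := by
    rw [hi]
    refine d_moves hS hF hZ hrot hB P (inf_ker hS hF hZ hrot hB P ?_ ?_)
    · exact (SA φ).mul_mem (conj_mem_A hS hF hZ hrot hB P hπ hker i) (av_mem hS hF vz)
    · rw [← hi]
      have e : n * zc φ * n⁻¹ * zc φ =
          (o⁻¹ * ((g : G) * zc φ * (g : G)⁻¹ * (zc φ)⁻¹) * o) * (o⁻¹ * (zc φ * o * (zc φ)⁻¹)) := by
        have hzz : ∀ w : G, zc φ * (zc φ * w) = w := fun w => by
          rw [← mul_assoc, sq_of_orderOf (orderOf_z hS hF), one_mul]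
        rw [hgn, inv_eq_of_mul_eq_one_right (sq_of_orderOf (orderOf_z hS hF))]
        simp only [mul_inv_rev, mul_assoc, inv_mul_cancel_left, mul_inv_cancel_left, hzz]
      rw [e]
      have ho' : o ∈ core t ⊔ F := mem_sup_left ho
      refine mul_mem (mul_mem (mul_mem (inv_mem ho') hzker) ho') (mul_mem (inv_mem ho') ?_)
      exact mem_sup_left
        ((mem_normalizer_iff.1 (norm_core t (htA (av_mem hS hF vz))) o).1 ho)
  have hnC : n ∈ cz (zc φ) ⊓ cz t :=
    ⟨mem_centralizer_singleton_iff.2 (mul_inv_eq_iff_eq_mul.1 hnz), P.cent.le hnH⟩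
  obtain ⟨o', ho', r, hr, hnr⟩ := hB.cent k v P.line P.ne0 P.nez n hnC
  have hrt : r ∈ cz t := R_le_cz hS hF P.line P.ne0 P.nez hr
  have ho't : o' ∈ cz t := by
    have := (cz t).mul_mem hnC.2 ((cz t).inv_mem hrt)
    rwa [hnr, mul_inv_cancel_right] at this
  have ho'H : o' ∈ H₀ := odd_mem hS hF hZ hrot hB P.cent ho't (odd_order (odd_core _) ho')
  have hrH : r ∈ H₀ := by
    have := mul_mem (inv_mem ho'H) hnH
    rwa [hnr, inv_mul_cancel_left] at this
  have hrA : r ∈ SA φ := by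
    have h1 : SR φ k ⊓ H₀ = SA φ := eq_of_two_le (le_inf (A_le_R hS hF k) P.cent.A_le) inf_le_right
      ((S.2.to_le (hF.le_S.2.2 k)).to_le inf_le_left) P.cent.odd_index
    exact h1.le ⟨hr, hrH⟩
  rw [hgn, hnr]
  refine mul_mem (mem_sup_left ⟨le_W_A hS hF hB P.zline (av_mem hS hF v) (av_ne_one hS hF P.ne0) ho,
    P.cent.core_le ho⟩) (mul_mem (mem_sup_left ⟨le_W_A hS hF hB P.zline (av_mem hS hF vz)
      (av_ne_one hS hF (by decide)) ho', ho'H⟩) (mem_sup_right hrA))

/-- The centralisers of involutions in the quotient have order four. -/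
theorem cz_four : ∀ w : K, orderOf w = 2 → Nat.card (cz w) = 4 := by
  haveI : Fact (Nat.Prime 2) := ⟨Nat.prime_two⟩
  have hh := khyp hS hF hZ hrot hB P hπ hker
  set t := av φ v with ht
  set W := gen (SL φ j) with hW
  set Q := W ⊓ H₀ with hQ
  set N' := normalizer (SA φ : Set G) ⊓ H₀ with hN'
  set O := (Q.subgroupOf H₀).map π with hO
  set Nb := (N'.subgroupOf H₀).map π with hNb
  set V := img (φ := φ) π with hV
  set Kl := O ⊔ Nb with hKl
  have hN'Q : N' ≤ normalizer (Q : Set G) := fun x hx => inf_normalizer_le_normalizer_inf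
    ⟨NA_le hS hF hB P.zline hx.1, le_normalizer hx.2⟩
  have hmapn : ∀ (X : Subgroup G), N' ≤ normalizer (X : Set G) →
      Nb ≤ normalizer (((X.subgroupOf H₀).map π : Subgroup K) : Set K) := by
    rintro X hX _ ⟨x, hx, rfl⟩
    exact le_normalizer_map π ⟨x, le_normalizer_comap H₀.subtype (hX hx), rfl⟩
  have hVN : V ≤ Nb := map_mono fun x hx => ⟨le_normalizer (mem_subgroupOf.1 hx), x.2⟩
  have hOo : Odd (Nat.card O) := by
    refine ((odd_W hS hF hB P.zline).of_dvd_nat (card_dvd_of_le (inf_le_left : Q ≤ W))).of_dvd_nat ?_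
    refine (card_map_dvd _ _).trans ?_
    rw [Nat.card_congr (subgroupOfEquivOfLe (inf_le_right : Q ≤ H₀)).toEquiv]
  have hKO : Kl ≤ normalizer (O : Set K) := sup_le le_normalizer (hmapn Q hN'Q)
  have hKOV : Kl ≤ normalizer ((O ⊔ V : Subgroup K) : Set K) :=
    sup_le (le_sup_left.trans le_normalizer)
      (CfsgLib.Coprime.le_normalizer_sup_sup (hmapn Q hN'Q) (hmapn _ inf_le_left))
  have hNK : normalizer (V : Set K) ≤ Kl := by
    intro w hw
    obtain ⟨g, rfl⟩ := hπ w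
    have hmaps : ∀ a ∈ SA φ, (g : G) * a * (g : G)⁻¹ ∈ SA φ ⊔ core t := by
      intro a ha
      obtain ⟨x, hx, hxe⟩ := (mem_img hS hF hZ hrot hB P hπ hker).1
        ((mem_normalizer_iff.1 hw _).1
          ((mem_img hS hF hZ hrot hB P hπ hker).2 ⟨⟨a, P.cent.A_le ha⟩, ha, rfl⟩))
      rw [← map_inv, ← map_mul, ← map_mul, ← mul_inv_eq_one, ← map_inv, ← map_mul, hker] at hxe
      have h1 : (x : G) * ((g : G) * a * (g : G)⁻¹)⁻¹ ∈ SA φ ⊔ core t := by
        refine sup_le le_sup_right ((SF_le_A hS hF hZ hrot hB P).trans le_sup_left) ?_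
        simpa using hxe
      have h2 := mul_mem (inv_mem h1) (mem_sup_left hx)
      simpa [mul_assoc] using h2
    obtain ⟨o, ho, m, hm, hgm⟩ := StrongTwoClasses.exists_mul_of_conj_le
      (isPGroup_of_elem hF.elem_A) (odd_core t)
      ((A_le_cz hS hF (av_mem hS hF v)).trans (norm_core t)) hmaps
    have hmH : m ∈ H₀ := by
      have := mul_mem (inv_mem (P.cent.core_le ho)) g.2
      rwa [hgm, inv_mul_cancel_left] at this
    have e : g = ⟨o, P.cent.core_le ho⟩ * ⟨m, hmH⟩ := Subtype.ext hgm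
    rw [e, map_mul]
    exact mul_mem (mem_sup_left ⟨_, ⟨le_W_A hS hF hB P.zline (av_mem hS hF v)
      (av_ne_one hS hF P.ne0) ho, P.cent.core_le ho⟩, rfl⟩)
      (mem_sup_right ⟨_, ⟨hm, hmH⟩, rfl⟩)
  have hcz : cz (π (zz hS hF P)) ≤ Kl := by
    intro w hw
    obtain ⟨g, rfl⟩ := hπ w
    have hg := cent_img hS hF hZ hrot hB P hπ hker hw
    have hle : Q ⊔ SA φ ≤ H₀ := sup_le inf_le_right P.cent.A_le
    have h2 : π g ∈ (((Q ⊔ SA φ).subgroupOf H₀).map π) := ⟨g, hg, rfl⟩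
    rw [subgroupOf_sup inf_le_right P.cent.A_le, Subgroup.map_sup] at h2
    exact sup_le_sup le_rfl hVN h2
  have hd : π (dd P) ∈ Kl :=
    mem_sup_right ⟨_, ⟨P.stab.mem.1, P.cent.d_mem⟩, rfl⟩
  have hCK : ∀ w ∈ V, w ≠ 1 → cz w ≤ Kl := by
    intro w hw hw1 c hc
    obtain ⟨i, hi⟩ := img_cases hS hF hZ hrot hB P hπ hker hw hw1
    set D := π (dd P) ^ i with hD
    have h1 := conj_cz (g := D⁻¹) hc
    rw [show D⁻¹ * w * D⁻¹⁻¹ = π (zz hS hF P) by rw [← hi]; group] at h1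
    have := mul_mem (mul_mem (pow_mem hd i) (hcz h1)) (inv_mem (pow_mem hd i))
    simpa [hD, mul_assoc] using this
  have hz1 : π (zz hS hF P) ≠ 1 := fun e => z_not_SF hS hF hZ hrot hB P
    (inf_ker hS hF hZ hrot hB P (av_mem hS hF vz) ((hker _).1 e))
  exact ((L34Sylow.klein K V hh _ (by simpa using img_d hS hF hZ hrot hB P hπ hker 0) hz1).2.2.2
    Kl O hNK hCK le_sup_left hOo hKO hKOV).2

/-- Balance at `t`. -/
theorem balA_of_quot : BalA φ (av φ v) := by
  haveI : Fact (Nat.Prime 2) := ⟨Nat.prime_two⟩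
  intro a ha ha1 x hx
  set t := av φ v with ht
  set Y := core a ⊓ cz t with hY
  have hYo : Odd (Nat.card Y) := (odd_core a).of_dvd_nat (card_dvd_of_le inf_le_left)
  have hYH : Y ≤ H₀ := fun y hy =>
    odd_mem hS hF hZ hrot hB P.cent hy.2 (odd_order hYo hy)
  set Yb := (Y.subgroupOf H₀).map π with hYb
  have hYbo : Odd (Nat.card Yb) := by
    refine hYo.of_dvd_nat ((card_map_dvd _ _).trans ?_)
    rw [Nat.card_congr (subgroupOfEquivOfLe hYH).toEquiv]
  set V := img (φ := φ) π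
  have hK := klein_img hS hF hZ hrot hB P hπ hker
  haveI := hK
  haveI : IsMulCommutative V := ⟨⟨fun p q => mul_comm_of_exponent_two
    (IsKleinFour.exponent_two (G := V)) p q⟩⟩
  have hnorm : V ≤ normalizer (Yb : Set K) := by
    rintro _ ⟨y, hy, rfl⟩
    refine le_normalizer_map π ⟨y, le_normalizer_comap H₀.subtype ?_, rfl⟩
    exact inf_normalizer_le_normalizer_inf ⟨norm_core a (A_le_cz hS hF ha hy),
      le_normalizer (A_le_cz hS hF (av_mem hS hF v) hy)⟩
  have hbot : Yb ≤ ⊥ := by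
    refine CfsgLib.Coprime.le_of_centralizer_le_of_not_isCyclic (A := V)
      IsKleinFour.not_isCyclic hnorm ?_ ?_
    · rw [hK.card_four]
      exact ((Nat.coprime_two_left.2 hYbo).pow_left 2)
    · intro w hw hw1
      refine le_of_eq (eq_bot_of_card_eq _ ?_)
      have h4 : Nat.card ↥(Yb ⊓ centralizer ({w} : Set K)) ∣ 2 ^ 2 := by
        have := card_dvd_of_le (inf_le_right : Yb ⊓ centralizer ({w} : Set K) ≤ _)
        rwa [show Nat.card (centralizer ({w} : Set K)) = 2 ^ 2 from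
          cz_four hS hF hZ hrot hB P hπ hker w (Involutions.orderOf_eq_two_of_mem hK hw hw1)] at this
      exact ((Nat.coprime_two_right.2
        (hYbo.of_dvd_nat (card_dvd_of_le inf_le_left))).pow_right 2).eq_one_of_dvd h4
  have h1 : π ⟨x, hYH hx⟩ = 1 := Subgroup.mem_bot.1 (hbot ⟨⟨x, hYH hx⟩, hx, rfl⟩)
  have h2 : x ∈ SF φ d ⊔ core t := by rw [sup_comm]; exact (hker _).1 h1
  have hFn : SF φ d ≤ normalizer (core t : Set G) :=
    ((SF_le_A hS hF hZ hrot hB P).trans (A_le_cz hS hF (av_mem hS hF v))).trans (norm_core t)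
  obtain ⟨f, hf, o, ho, rfl⟩ := (CfsgLib.Coprime.mem_sup_iff_of_le_normalizer hFn).1 h2
  have hxo : Odd (orderOf (f * o)) := odd_order hYo hx
  have e : f * o = f * o * f⁻¹ * f := by group
  rw [e] at hxo ⊢
  have ho' : f * o * f⁻¹ ∈ core t := (mem_normalizer_iff.1 (hFn hf) o).1 ho
  have hf1 : f = 1 := StrongTwoClasses.eq_one_of_odd_mul (odd_core t) ho'
    (by rw [← sq]; exact hF.elem_A.2 f hf.1) (hFn hf) hxo
  subst hf1
  simpa using ho

end CfsgLib.AEightSyl.CoresL
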