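import Cfsg.Agent.Lib.AEightSyl.CoresLinesBasic

/-!
# The centralisers of the other involutions when `z` meets one line (S2918, piece F)
-/

set_option autoImplicit false
set_option linter.style.haveILetI false
set_option linter.unusedSectionVars false
set_option synthInstance.maxSize 4000

namespace CfsgLib.AEightSyl.CoresL

open Cfsg Subgroup CfsgLib.L34Sylow CfsgLib.AEightSyl CoresTools
open CfsgLib.L34Sylow.CoresAux (Bal gen le_gen gen_mono normalizer_le_gen)

universe u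

variable {G : Type u} [Group G] [Finite G] {S : Sylow 2 G} {φ : El → G}
variable (hS : Setup S φ) (hF : Facts S φ)
include hS hF

theorem R_le_cz {k : Fin 3} {v : Vec} (hv : v ∈ lineV k) (hv0 : v ≠ v0) (hvz : v ≠ vz) :
    SR φ k ≤ cz (av φ v) :=
  (hF.cent_line k v hv hv0 hvz).ge.trans inf_le_right

theorem A_le_R (k : Fin 3) : SA φ ≤ SR φ k := fun g hg => by
  obtain ⟨v, rfl⟩ := (hF.mem_A g).1 hg
  exact (hF.mem_R k _).2 ⟨v, Or.inl rfl⟩

theorem sylow_R {k : Fin 3} {v : Vec} (hv : v ∈ lineV k) (hv0 : v ≠ v0) (hvz : v ≠ vz)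
    (hnz : ¬ ZType φ (av φ v)) : ¬ 2 ∣ (SR φ k).relIndex (cz (av φ v)) := by
  haveI : Fact (Nat.Prime 2) := ⟨Nat.prime_two⟩
  obtain ⟨T, hRT, hTt, hT, hodd⟩ := StrongTwoClasses.exists_twoGroup_ge
    (S.2.to_le (hF.le_S.2.2 k)) (R_le_cz hS hF hv hv0 hvz)
  obtain ⟨T', hTT'⟩ := hT.exists_le_sylow
  obtain ⟨g, hg⟩ := MulAction.exists_smul_eq G T' S
  have hgS : ∀ x ∈ T, g * x * g⁻¹ ∈ (S : Subgroup G) := fun x hx => by
    rw [← hg]
    exact Subgroup.smul_mem_pointwise_smul x (MulAut.conj g) _ (hTT' hx)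
  set t := av φ v
  have hgA : (SA φ).map (MulAut.conj g).toMonoidHom = SA φ := hF.weak_A g (by
    rintro _ ⟨a, ha, rfl⟩
    exact hgS a (hRT (A_le_R hS hF k ha)))
  have ht' : g * t * g⁻¹ ∈ SA φ := hgA.le (mem_map_of_mem _ (av_mem hS hF v))
  -- the conjugate is not central in `S`
  have hne : ¬ (S : Subgroup G) ≤ cz (g * t * g⁻¹) := by
    intro hle
    rcases (hF.center _ (hF.le_S.1 ht')).1 (fun h hh =>
      (mem_centralizer_singleton_iff.1 (hle hh)).symm) with e | e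
    · exact av_ne_one hS hF hv0 (conj_eq_one_iff.1 e)
    · exact hnz (isConj_iff.2 ⟨g⁻¹, by rw [← e]; group⟩)
  set U := T.map (MulAut.conj g).toMonoidHom with hU
  have hUle : U ≤ (S : Subgroup G) ⊓ cz (g * t * g⁻¹) := by
    rintro _ ⟨x, hx, rfl⟩
    exact ⟨hgS x hx, conj_cz (hTt hx)⟩
  have hlt : (S : Subgroup G) ⊓ cz (g * t * g⁻¹) < (S : Subgroup G) :=
    lt_of_le_of_ne inf_le_left fun e => hne (e ▸ inf_le_right)
  have h32 : Nat.card ↥((S : Subgroup G) ⊓ cz (g * t * g⁻¹)) ≤ 32 := by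
    obtain ⟨n, hn⟩ := IsPGroup.iff_card.1 (S.2.to_le (inf_le_left :
      (S : Subgroup G) ⊓ cz (g * t * g⁻¹) ≤ S))
    have hl : Nat.card ↥((S : Subgroup G) ⊓ cz (g * t * g⁻¹)) < 64 := by
      by_contra h
      exact hlt.ne (eq_of_le_of_card_ge inf_le_left (by rw [hF.card_S]; omega))
    rw [hn] at hl ⊢
    have : n < 6 := (Nat.pow_lt_pow_iff_right (by norm_num : 1 < 2)).1 (hl.trans_eq (by norm_num))
    calc 2 ^ n ≤ 2 ^ 5 := Nat.pow_le_pow_right (by norm_num) (by omega)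
      _ = 32 := by norm_num
  have hTc : Nat.card T ≤ 32 := by
    have h := Subgroup.card_le_of_le hUle
    rw [hU, Subgroup.card_map_of_injective (MulEquiv.injective _)] at h
    exact h.trans h32
  rw [eq_of_le_of_card_ge hRT (by rw [hF.card_R]; exact hTc)]
  exact hodd

/-- In the case of one line the centralisers of the other involutions lie in `N(W)`. -/
theorem cz_le_one (hB : BigCent φ) {j : Fin 3} (hj : ZLine φ j) (h1 : OneLine φ j) {t : G}
    (ht : t ∈ SA φ) (ht1 : t ≠ 1) (hnt : ¬ ZType φ t) :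
    cz t ≤ normalizer (gen (SL φ j) : Set G) := by
  haveI : Fact (Nat.Prime 2) := ⟨Nat.prime_two⟩
  obtain ⟨k, hkj, n₀, hn₀, v, hv, hv0, hvz, rfl⟩ := h1.trans t ht ht1 hnt
  refine cz_conj_le hS hF hB hj hn₀ ?_
  have hnz : ¬ ZType φ (av φ v) := fun h => hnt (h.trans (isConj_iff.2 ⟨n₀, rfl⟩))
  set t := av φ v with htdef
  have htA : t ∈ SA φ := av_mem hS hF v
  have ht1' : t ≠ 1 := av_ne_one hS hF hv0
  set R := SR φ k with hR
  have hRt : R ≤ cz t := R_le_cz hS hF hv hv0 hvz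
  have hodd : ¬ 2 ∣ R.relIndex (cz t) := sylow_R hS hF hv hv0 hvz hnz
  have hRS : R ≤ (S : Subgroup G) := hF.le_S.2.2 k
  have hzR : zc φ ∈ R := A_le_R hS hF k (av_mem hS hF vz)
  -- the automiser fixes `z`
  have hfixN : normalizer (SA φ : Set G) ⊓ cz t ≤ cz (zc φ) := by
    set H := normalizer (SA φ : Set G) ⊓ cz t with hH
    have hRH : R ≤ H := le_inf (hRS.trans hF.norm_S.1) hRt
    set X := R ⊔ (H ⊓ centralizer (SA φ : Set G)) with hX
    have hXH : X ≤ H := sup_le hRH inf_le_left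
    have hXz : X ≤ cz (zc φ) := sup_le (hRS.trans (S_le_cz hS hF))
      (inf_le_right.trans (centralizer_le (Set.singleton_subset_iff.2 (av_mem hS hF vz))))
    have hsq : ∀ x : ↥H, x * x ∈ X.subgroupOf H := fun x =>
      mem_subgroupOf.2 (mem_sup_right ⟨H.mul_mem x.2 x.2,
        h1.stab t htA ht1' hnz x x.2⟩)
    haveI : (X.subgroupOf H).Normal := by
      refine ⟨fun m hm g => ?_⟩
      have e : g * m * g⁻¹ = g * m * (g * m) * m⁻¹ * (g * g)⁻¹ := by group
      rw [e]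
      exact mul_mem (mul_mem (hsq _) (inv_mem hm)) (inv_mem (hsq _))
    have hidx : ¬ 2 ∣ (X.subgroupOf H).index := by
      have h1 := (not_dvd_relIndex_mono hRH inf_le_right hodd).2
      exact (not_dvd_relIndex_mono le_sup_left hXH h1).1
    intro g hg
    exact hXz (mem_subgroupOf.1 (mem_of_sq hidx (hsq (⟨g, hg⟩ : ↥H))))
  have hfix : ∀ c ∈ cz t, c * zc φ * c⁻¹ ∈ R → c * zc φ * c⁻¹ = zc φ := by
    intro c hc hcR
    have hzt : ZType φ (c * zc φ * c⁻¹) := isConj_iff.2 ⟨c, rfl⟩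
    obtain ⟨w, hw⟩ := (hF.mem_R k _).1 hcR
    rcases hw with hw | hw
    · obtain ⟨m, hm, hm'⟩ := control hF.elem_A hF.weak_A (A_le_cz hS hF htA)
        (av_mem hS hF vz) hc ((hF.mem_A _).2 ⟨w, hw⟩)
      have h := mem_centralizer_singleton_iff.1 (hfixN hm)
      rw [← hm', h, mul_inv_cancel_right]
    · exfalso
      have hwl : w ∈ lineV k := flag_sq k w (hS.inj (by
        rw [← hS.mul, hw, phi_one hS hF,
          show c * zc φ * c⁻¹ * (c * zc φ * c⁻¹) = c * (zc φ * zc φ) * c⁻¹ by group,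
          sq_of_orderOf (orderOf_z hS hF), mul_one, mul_inv_cancel]))
      obtain ⟨c', -, w', hw', hw'0, hw'z, hcw⟩ := hB.fuse k w hwl
      have hz' : ZType φ (av φ w') := (hw.symm ▸ hzt).trans (isConj_iff.2 ⟨c', hcw⟩)
      have := line_inter k j w' hkj hw' ((h1.ztype w' hw'0).1 hz')
      tauto
  intro g hg
  obtain ⟨o, ho, c, hc, rfl⟩ := exists_mul_of_isolated (S.2.to_le hRS) hRt hodd hzR
    (orderOf_z hS hF) hfix g hg
  exact mul_mem (core_le_M hS hF hB hj htA ht1' ho) (cz_z_le hS hF hB hj h1.not_rot hc.2)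

end CfsgLib.AEightSyl.CoresL
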