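import Cfsg.Agent.Lib.AEightSyl.CoresLinesOne
import Cfsg.Agent.Lib.L34Sylow.Klein

/-!
# The centralisers of the other involutions when `z` meets two lines (S2918, piece F)
-/

set_option autoImplicit false
set_option linter.style.haveILetI false
set_option linter.unusedSectionVars false
set_option synthInstance.maxSize 4000

namespace CfsgLib.AEightSyl.CoresL

open Cfsg Subgroup CfsgLib.L34Sylow CfsgLib.AEightSyl CoresTools
open CfsgLib.L34Sylow.CoresAux (Bal gen le_gen gen_mono normalizer_le_gen)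

universe u

variable {G : Type u} [Group G] [Finite G]

/-- Balance at `t` from the involutions of `A`. -/
def BalA (φ : El → G) (t : G) : Prop := ∀ a ∈ SA φ, a ≠ 1 → core a ⊓ cz t ≤ core t

/-- The fixed points on `A` of the element of order three. -/
def SF (φ : El → G) (d : G) : Subgroup G := SA φ ⊓ cz d

theorem flag_ne : ∀ k : Fin 3, ∀ v : Vec, ((v0, flag k) : El) ≠ (v, t0) := by decide

variable {S : Sylow 2 G} {φ : El → G}
variable (hS : Setup S φ) (hF : Facts S φ) (hZ : StabZ S φ) (hrot : ¬ Rot φ) (hB : BigCent φ)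
include hS hF hZ hrot hB

omit hB in
/-- A fixed point of the element of order three is not conjugate to `z`. -/
theorem not_ztype_SF {k : Fin 3} {t d : G} (hd : Stab φ k t d) {f : G} (hf : f ∈ SF φ d) :
    ¬ ZType φ f := by
  intro hz
  obtain ⟨g, hg⟩ := isConj_iff.1 hz
  obtain ⟨n, hn, hn'⟩ := hF.fus_A _ (av_mem hS hF vz) g
    (by show g * zc φ * g⁻¹ ∈ _; rw [hg]; exact hf.1)
  have e : n * zc φ * n⁻¹ = f := hn'.trans hg
  set N := normalizer (SA φ : Set G) with hN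
  set d' := n⁻¹ * d * n with hd'
  have hd'N : d' ∈ N ⊓ cz (zc φ) := by
    refine ⟨N.mul_mem (N.mul_mem (N.inv_mem hn) hd.mem.1) hn, ?_⟩
    have h1 : d ∈ cz f := mem_centralizer_singleton_iff.2
      (mem_centralizer_singleton_iff.1 hf.2).symm
    have h2 := conj_cz (g := n⁻¹) h1
    rw [inv_inv, show n⁻¹ * f * n = zc φ by rw [← e]; group] at h2
    exact h2
  obtain ⟨s, hs, hsd⟩ := hZ.1 hrot d' hd'N
  let ψ := (SA φ).normalizerMonoidHom
  have hsN : s ∈ N := hF.norm_S.1 hs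
  have hds : ψ ⟨s, hsN⟩ = ψ ⟨d', hd'N.1⟩ := (normalizerHom_eq_iff _ _).2 hsd
  have hd3 : d' ^ 3 ∈ centralizer (SA φ : Set G) := by
    have h : n⁻¹ * d ^ 3 * n⁻¹⁻¹ ∈ centralizer (SA φ : Set G) := by
      refine mem_centralizer_iff.2 fun a ha => ?_
      have hna : n * a * n⁻¹ ∈ SA φ := (mem_normalizer_iff.1 hn a).1 ha
      have := mem_centralizer_iff.1 hd.cube _ hna
      calc a * (n⁻¹ * d ^ 3 * n⁻¹⁻¹) = n⁻¹ * (n * a * n⁻¹ * d ^ 3) * n := by group
        _ = n⁻¹ * (d ^ 3 * (n * a * n⁻¹)) * n := by rw [this]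
        _ = _ := by group
    rwa [← conj_pow, inv_inv] at h
  have hs3 : s ^ 3 ∈ SA φ := by
    refine hF.cent_A.le ⟨pow_mem hs 3, ?_⟩
    have h1 : ψ (⟨s, hsN⟩ ^ 3) = 1 := by
      rw [map_pow, hds, ← map_pow]
      exact (normalizerHom_eq_one_iff _).2 (by simpa using hd3)
    simpa using (normalizerHom_eq_one_iff _).1 h1
  have hs64 : s ^ 64 = 1 := by
    have h := orderOf_dvd_natCard (⟨s, hs⟩ : (S : Subgroup G))
    rw [Subgroup.orderOf_mk] at h
    exact orderOf_dvd_iff_pow_eq_one.1 (h.trans hF.card_S.dvd)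
  have hsA : s ∈ SA φ := by
    have h := pow_mem hs3 43
    rwa [← pow_mul, show 3 * 43 = 64 * 2 + 1 by norm_num, pow_succ, pow_mul, hs64, one_pow,
      one_mul] at h
  haveI := hF.elem_A.1
  have hd'C : d' ∈ centralizer (SA φ : Set G) := by
    have h := mul_mem (le_centralizer (SA φ) hsA : s ∈ centralizer (SA φ : Set G)) hsd
    rwa [mul_inv_cancel_left] at h
  refine hd.ne (mem_centralizer_iff.2 fun a ha => ?_)
  have hna : n⁻¹ * a * n ∈ SA φ := by
    simpa using (mem_normalizer_iff.1 (inv_mem hn) a).1 ha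
  have := mem_centralizer_iff.1 hd'C _ hna
  calc a * d = n * (n⁻¹ * a * n * d') * n⁻¹ := by rw [hd']; group
    _ = n * (d' * (n⁻¹ * a * n)) * n⁻¹ := by rw [this]
    _ = d * a := by rw [hd']; group

/-- Odd elements of `C(t)` lie in `H₀`. -/
theorem odd_mem {k : Fin 3} {t d : G} {H₀ : Subgroup G} (hC : CentT φ k t d H₀) {y : G}
    (hy : y ∈ cz t) (ho : Odd (orderOf y)) : y ∈ H₀ := by
  set s := φ (v0, flag k)
  have hs2 : s * s = 1 := by rw [hS.mul, flag0_sq, phi_one hS hF]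
  have hsn : zpowers s ≤ normalizer (H₀ : Set G) :=
    (le_sup_right.trans hC.sup.ge).trans hC.normal
  rw [hC.sup, sup_comm] at hy
  obtain ⟨a, ha, l, hl, rfl⟩ := (CfsgLib.Coprime.mem_sup_iff_of_le_normalizer hsn).1 hy
  refine Signalizer2.mem_of_sq_mem ho ?_
  have ha2 : a * a = 1 := by
    obtain ⟨i, rfl⟩ := mem_zpowers_iff.1 ha
    rw [← zpow_add, ← two_mul, zpow_mul, zpow_two, hs2, one_zpow]
  have e : (a * l) ^ 2 = a * l * a⁻¹ * l := by
    rw [inv_eq_of_mul_eq_one_right ha2, sq]; group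
  rw [e]
  exact mul_mem ((mem_normalizer_iff.1 (hsn ha) l).1 hl) hl

/-- What is known at a representative `t`. -/
structure Pt (S : Sylow 2 G) (φ : El → G) (j k : Fin 3) (v : Vec) (d : G) (H₀ : Subgroup G) :
    Prop where
  line : v ∈ lineV k
  ne0 : v ≠ v0
  nez : v ≠ vz
  nonz : ¬ ZType φ (av φ v)
  stab : Stab φ k (av φ v) d
  cent : CentT φ k (av φ v) d H₀
  zline : ZLine φ j

variable {j k : Fin 3} {v : Vec} {d : G} {H₀ : Subgroup G} (P : Pt S φ j k v d H₀)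
include P

theorem t_mem_SF : av φ v ∈ SF φ d :=
  ⟨av_mem hS hF v, mem_centralizer_singleton_iff.2
    (mem_centralizer_singleton_iff.1 P.stab.mem.2).symm⟩

theorem SF_le_A : SF φ d ≤ SA φ := inf_le_left

/-- The kernel of the map to the Klein quotient. -/
theorem ker_normal : H₀ ≤ normalizer ((core (av φ v) ⊔ SF φ d : Subgroup G) : Set G) := by
  set t := av φ v
  refine CfsgLib.Components.le_normalizer_of_conj_mem fun g hg x hx => ?_
  have hFt : SF φ d ≤ normalizer (core t : Set G) :=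
    ((SF_le_A hS hF hZ hrot hB P).trans (A_le_cz hS hF (av_mem hS hF v))).trans (norm_core t)
  rw [sup_comm] at hx ⊢
  obtain ⟨f, hf, o, ho, rfl⟩ := (CfsgLib.Coprime.mem_sup_iff_of_le_normalizer hFt).1 hx
  have h1 : g * f * g⁻¹ ∈ SF φ d ⊔ core t := by
    have h2 := P.cent.central f hf.1 hf.2 g hg
    have e : g * f * g⁻¹ = (f * g * f⁻¹ * g⁻¹)⁻¹ * f := by group
    rw [e]
    exact mul_mem (mem_sup_right (inv_mem h2)) (mem_sup_left hf)
  have h2 : g * o * g⁻¹ ∈ SF φ d ⊔ core t :=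
    mem_sup_right ((mem_normalizer_iff.1 (norm_core t (P.cent.le hg)) o).1 ho)
  have := mul_mem h1 h2
  rwa [show g * f * g⁻¹ * (g * o * g⁻¹) = g * (f * o) * g⁻¹ by group] at this

/-- `A` meets that kernel in the fixed points. -/
theorem inf_ker {a : G} (ha : a ∈ SA φ) (hk : a ∈ core (av φ v) ⊔ SF φ d) : a ∈ SF φ d := by
  set t := av φ v
  have hFt : SF φ d ≤ normalizer (core t : Set G) :=
    ((SF_le_A hS hF hZ hrot hB P).trans (A_le_cz hS hF (av_mem hS hF v))).trans (norm_core t)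
  rw [sup_comm] at hk
  obtain ⟨f, hf, o, ho, rfl⟩ := (CfsgLib.Coprime.mem_sup_iff_of_le_normalizer hFt).1 hk
  have hoA : o ∈ SA φ := by simpa using (SA φ).mul_mem ((SA φ).inv_mem hf.1) ha
  have : o = 1 := eq_one_of_odd_two (odd_order (odd_core t) ho) (by
    rw [← sq]; exact hF.elem_A.2 o hoA)
  rw [this, mul_one]; exact hf

/-- The powers of `d` applied to `z` separate the three cosets. -/
theorem conj_d_cases : ∀ i : ℕ,
    d ^ i * zc φ * (d ^ i)⁻¹ = d ^ (i % 3) * zc φ * (d ^ (i % 3))⁻¹ := by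
  intro i
  conv_lhs => rw [← Nat.mod_add_div i 3, pow_add, pow_mul]
  have h : (d ^ 3) ^ (i / 3) * zc φ * ((d ^ 3) ^ (i / 3))⁻¹ = zc φ :=
    fix_of_centralizer (pow_mem P.stab.cube _) (av_mem hS hF vz)
  calc d ^ (i % 3) * (d ^ 3) ^ (i / 3) * zc φ * (d ^ (i % 3) * (d ^ 3) ^ (i / 3))⁻¹
      = d ^ (i % 3) * ((d ^ 3) ^ (i / 3) * zc φ * ((d ^ 3) ^ (i / 3))⁻¹) * (d ^ (i % 3))⁻¹ := by
        group
    _ = _ := by rw [h]

theorem z_not_SF : zc φ ∉ SF φ d := fun h =>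
  not_ztype_SF hS hF hZ hrot P.stab h (IsConj.refl _)

/-- Only the trivial power of `d` fixes `z` modulo the fixed points. -/
theorem d_moves {i : ℕ} (h : d ^ i * zc φ * (d ^ i)⁻¹ * zc φ ∈ SF φ d) :
    d ^ i * zc φ * (d ^ i)⁻¹ = zc φ := by
  have hz2 : zc φ * zc φ = 1 := sq_of_orderOf (orderOf_z hS hF)
  set f := d ^ i * zc φ * (d ^ i)⁻¹ * zc φ with hf
  have h1 : d ^ i * zc φ * (d ^ i)⁻¹ = f * zc φ := by rw [hf, mul_assoc _ (zc φ) (zc φ), hz2, mul_one]
  have hfd : Commute d f := (mem_centralizer_singleton_iff.1 h.2).symm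
  have hff : f * f = 1 := by rw [← sq]; exact hF.elem_A.2 f h.1
  have h2 : d ^ (i + i) * zc φ * (d ^ (i + i))⁻¹ = zc φ := by
    rw [pow_add, show d ^ i * d ^ i * zc φ * (d ^ i * d ^ i)⁻¹ =
      d ^ i * (d ^ i * zc φ * (d ^ i)⁻¹) * (d ^ i)⁻¹ by group, h1,
      show d ^ i * (f * zc φ) * (d ^ i)⁻¹ = d ^ i * f * (d ^ i)⁻¹ * (d ^ i * zc φ * (d ^ i)⁻¹)
      by group, h1, ((hfd.pow_left i).eq), mul_inv_cancel_right, ← mul_assoc, hff, one_mul]
  rw [conj_d_cases hS hF hZ hrot hB P] at h2 ⊢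
  have hlt : i % 3 < 3 := Nat.mod_lt _ (by norm_num)
  interval_cases hi : i % 3
  · simp
  · -- the square of `d` fixes `z`
    exfalso
    rw [show (i + i) % 3 = 2 by omega] at h2
    have h3 : d ^ 3 * zc φ * (d ^ 3)⁻¹ = zc φ :=
      fix_of_centralizer P.stab.cube (av_mem hS hF vz)
    rw [pow_succ', show d * d ^ 2 * zc φ * (d * d ^ 2)⁻¹ = d * (d ^ 2 * zc φ * (d ^ 2)⁻¹) * d⁻¹ by
      group, h2] at h3
    exact z_not_SF hS hF hZ hrot hB P ⟨av_mem hS hF vz, mem_centralizer_singleton_iff.2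
      (mul_inv_eq_iff_eq_mul.1 h3).symm⟩
  · exfalso
    rw [show (i + i) % 3 = 1 by omega, pow_one] at h2
    exact z_not_SF hS hF hZ hrot hB P ⟨av_mem hS hF vz, mem_centralizer_singleton_iff.2
      (mul_inv_eq_iff_eq_mul.1 h2).symm⟩

/-- An element of `N(A) ∩ H₀` moves `z` as a power of `d`. -/
theorem act_z {n : G} (hn : n ∈ normalizer (SA φ : Set G) ⊓ H₀) :
    ∃ i : ℕ, n * zc φ * n⁻¹ = d ^ i * zc φ * (d ^ i)⁻¹ := by
  haveI : Fact (Nat.Prime 2) := ⟨Nat.prime_two⟩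
  set N := normalizer (SA φ : Set G) with hN
  set H := N ⊓ H₀ with hH
  obtain ⟨i, e, he, hne⟩ := P.stab.all n ⟨hn.1, P.cent.le hn.2⟩
  have hconj : n * zc φ * n⁻¹ = d ^ i * e * zc φ * (d ^ i * e)⁻¹ := by
    have := fix_of_centralizer hne (av_mem hS hF vz)
    calc n * zc φ * n⁻¹ = (d ^ i * e) * ((d ^ i * e)⁻¹ * n * zc φ * ((d ^ i * e)⁻¹ * n)⁻¹) *
          (d ^ i * e)⁻¹ := by group
      _ = _ := by rw [this]
  refine ⟨i, ?_⟩
  rcases he with rfl | rfl
  · simpa using hconj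
  · -- `z` is fixed by the flag
    have hs : φ (v0, flag k) ∈ cz (zc φ) := S_le_cz hS hF (hS.mem _)
    have hs' := mem_centralizer_singleton_iff.1 hs
    rw [hconj, show d ^ i * φ (v0, flag k) * zc φ * (d ^ i * φ (v0, flag k))⁻¹ =
      d ^ i * (φ (v0, flag k) * zc φ * (φ (v0, flag k))⁻¹) * (d ^ i)⁻¹ by group, hs',
      mul_inv_cancel_right]

end CfsgLib.AEightSyl.CoresL
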