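import Mathlib
import Cfsg.Prelude.Def_Local
import Cfsg.Prelude.Def_Involutions
import Cfsg.Prelude.Def_Classical
import Cfsg.Agent.Lib.L34Sylow.Defs
import Cfsg.Agent.Lib.U42.Setup

/-!
# Groups with Sylow two-subgroups of type `A₈` and soluble central centralisers (S2918): interface

The Sylow two-subgroup `S` has coordinates: a vector of `A` (the entries 13, 14, 23, 24 of an
upper unitriangular matrix of degree four) and two flags, for the transvections 12 and 34.
The plan is in `tools/S2918_plan.md`.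
-/

set_option autoImplicit false
set_option linter.style.haveILetI false

namespace CfsgLib.AEightSyl

open Cfsg Subgroup CfsgLib.L34Sylow

universe u

/-- Vectors of the elementary abelian subgroup of order sixteen: entries 13, 14, 23, 24. -/
abbrev Vec : Type := Bool × Bool × Bool × Bool

/-- The two flags. -/
abbrev Top : Type := Bool × Bool

/-- An element of the Sylow subgroup: the vector first. -/
abbrev El : Type := Vec × Top

/-- Sum of vectors. -/
def vadd : Vec → Vec → Vec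
  | (a, b, c, d), (a', b', c', d') => (xor a a', xor b b', xor c c', xor d d')

/-- Action of the transvection 12. -/
def actX : Vec → Vec
  | (a, b, c, d) => (xor a c, xor b d, c, d)

/-- Action of the transvection 34. -/
def actY : Vec → Vec
  | (a, b, c, d) => (a, xor b a, c, xor d c)

/-- Action of a pair of flags. -/
def act : Top → Vec → Vec
  | (s, t), v => (if s then actX else id) ((if t then actY else id) v)

/-- The product in coordinates. -/
def emul : El → El → El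
  | (v, s), (v', s') => (vadd v (act s v'), (xor s.1 s'.1, xor s.2 s'.2))

/-- The zero vector. -/
def v0 : Vec := (false, false, false, false)

/-- The vector of the central involution (entry 14). -/
def vz : Vec := (false, true, false, false)

/-- The trivial flags. -/
def t0 : Top := (false, false)

/-- The three non-trivial pairs of flags. -/
def flag : Fin 3 → Top := ![(true, false), (false, true), (true, true)]

/-- The line `C_A(flag i)`, a four-group containing the central involution. -/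
def lineV (i : Fin 3) : List Vec :=
  match i with
  | 0 => [v0, vz, (true, false, false, false), (true, true, false, false)]
  | 1 => [v0, vz, (false, false, false, true), (false, true, false, true)]
  | 2 => [v0, vz, (true, false, false, true), (true, true, false, true)]

/-- The vector is off the hyperplane spanned by the lines. -/
def offH (v : Vec) : Bool := v.2.2.1

/-- For a vector off the hyperplane: whether the matrix of its entries is singular. -/
def singular (v : Vec) : Bool := v.2.1 == (v.1 && v.2.2.2)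

variable {G : Type u} [Group G]

/-- The coordinates of the Sylow subgroup. -/
structure Setup (S : Sylow 2 G) (φ : El → G) : Prop where
  mem : ∀ e, φ e ∈ S
  surj : ∀ g ∈ S, ∃ e, φ e = g
  inj : Function.Injective φ
  mul : ∀ e f, φ e * φ f = φ (emul e f)
  residual : pResidual 2 G = ⊤
  pcore_bot : pCore 2 G = ⊥
  core_bot : oddCore G = ⊥
  sol : IsSolvable ↥(cz (φ (vz, t0)))

/-- The elementary abelian subgroup of order sixteen. -/
def SA (φ : El → G) : Subgroup G := closure {g | ∃ v, φ (v, t0) = g}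

/-- The central involution. -/
abbrev zc (φ : El → G) : G := φ (vz, t0)

/-- An element of the vector coordinates. -/
abbrev av (φ : El → G) (v : Vec) : G := φ (v, t0)

/-- The line number `i` in the group. -/
def SL (φ : El → G) (i : Fin 3) : Subgroup G := closure {g | ∃ v ∈ lineV i, φ (v, t0) = g}

/-- The elementary subgroup of order eight on the line number `i`. -/
def SE (φ : El → G) (i : Fin 3) : Subgroup G :=
  closure {g | ∃ v ∈ lineV i, φ (v, t0) = g ∨ φ (v, flag i) = g}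

/-- The subgroup of order thirty-two over `A` with the flag number `i`. -/
def SR (φ : El → G) (i : Fin 3) : Subgroup G :=
  closure {g | ∃ v, φ (v, t0) = g ∨ φ (v, flag i) = g}

/-- The extraspecial subgroup of order thirty-two. -/
def SQ (φ : El → G) : Subgroup G := closure {g | ∃ v s, offH v = false ∧ φ (v, s) = g}

/-- Conjugate to the central involution. -/
def ZType (φ : El → G) (g : G) : Prop := IsConj (zc φ) g

/-- Elementary facts about the Sylow subgroup. -/
structure Facts (S : Sylow 2 G) (φ : El → G) : Prop where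
  card_S : Nat.card S = 64
  mem_A : ∀ g, g ∈ SA φ ↔ ∃ v, φ (v, t0) = g
  mem_L : ∀ i g, g ∈ SL φ i ↔ ∃ v ∈ lineV i, φ (v, t0) = g
  mem_E : ∀ i g, g ∈ SE φ i ↔ ∃ v ∈ lineV i, φ (v, t0) = g ∨ φ (v, flag i) = g
  mem_R : ∀ i g, g ∈ SR φ i ↔ ∃ v, φ (v, t0) = g ∨ φ (v, flag i) = g
  mem_Q : ∀ g, g ∈ SQ φ ↔ ∃ v s, offH v = false ∧ φ (v, s) = g
  card_A : Nat.card (SA φ) = 16
  card_E : ∀ i, Nat.card (SE φ i) = 8
  card_R : ∀ i, Nat.card (SR φ i) = 32
  card_Q : Nat.card (SQ φ) = 32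
  elem_A : IsElementaryAbelian 2 (SA φ)
  elem_E : ∀ i, IsElementaryAbelian 2 (SE φ i)
  le_S : SA φ ≤ S ∧ SQ φ ≤ S ∧ ∀ i, SR φ i ≤ S
  sub_Q : ∀ i, SE φ i ≤ SQ φ
  norm_S : (S : Subgroup G) ≤ normalizer (SA φ : Set G) ∧
    (S : Subgroup G) ≤ normalizer (SQ φ : Set G) ∧
    ∀ i, (S : Subgroup G) ≤ normalizer (SE φ i : Set G) ∧
      (S : Subgroup G) ≤ normalizer (SR φ i : Set G)
  center : ∀ g ∈ S, (∀ h ∈ S, g * h = h * g) ↔ (g = 1 ∨ g = zc φ)
  cent_A : (S : Subgroup G) ⊓ centralizer (SA φ : Set G) = SA φ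
  only_A : ∀ U : Subgroup G, U ≤ (S : Subgroup G) → IsElementaryAbelian 2 U →
    Nat.card U = 16 → U = SA φ
  norm_A : normalizer (S : Set G) ≤ normalizer (SA φ : Set G)
  weak_A : ∀ g : G, (SA φ).map (MulAut.conj g).toMonoidHom ≤ S →
    (SA φ).map (MulAut.conj g).toMonoidHom = SA φ
  fus_A : ∀ x ∈ SA φ, ∀ g : G, cj g x ∈ SA φ →
    ∃ n ∈ normalizer (SA φ : Set G), cj n x = cj g x
  invol : ∀ g ∈ S, g * g = 1 → g ∈ SA φ ∨ ∃ i, ∃ v ∈ lineV i, φ (v, flag i) = g
  exists_conj : ∀ g : G, orderOf g = 2 → ∃ x ∈ S, IsConj x g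
  cent_out : ∀ i, ∀ v ∈ lineV i,
    Nat.card ↥((S : Subgroup G) ⊓ cz (φ (v, flag i))) = 16 ∧
      SA φ ⊓ cz (φ (v, flag i)) = SL φ i ∧
      ∃ g h, g ∈ (S : Subgroup G) ⊓ cz (φ (v, flag i)) ∧ h ∈ (S : Subgroup G) ⊓ cz (φ (v, flag i)) ∧
        g * h * g⁻¹ * h⁻¹ = zc φ
  cent_line : ∀ i, ∀ v ∈ lineV i, v ≠ v0 → v ≠ vz →
    (S : Subgroup G) ⊓ cz (av φ v) = SR φ i
  cent_off : ∀ v, offH v = true → (S : Subgroup G) ⊓ cz (av φ v) = SA φ

/-! ### The automiser of `A` -/

/-- Some element of the centraliser of `z` permutes the three flags cyclically modulo `A`. -/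
def Rot (φ : El → G) : Prop :=
  ∃ n ∈ normalizer (SA φ : Set G) ⊓ cz (zc φ), ∀ i : Fin 3, ∃ a ∈ SA φ,
    ∃ c ∈ centralizer (SA φ : Set G), cj n (φ (v0, flag i)) = φ (v0, flag (i + 1)) * a * c

/-- An element stabilising `t`, of order three on `A`, inverted by the flag `k`, and generating
with it the stabiliser. -/
structure Stab (φ : El → G) (k : Fin 3) (t d : G) : Prop where
  mem : d ∈ normalizer (SA φ : Set G) ⊓ cz t
  cube : d ^ 3 ∈ centralizer (SA φ : Set G)
  ne : d ∉ centralizer (SA φ : Set G)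
  inv : cj (φ (v0, flag k)) d * d ∈ centralizer (SA φ : Set G)
  all : ∀ n ∈ normalizer (SA φ : Set G) ⊓ cz t, ∃ i : ℕ, ∃ e : G,
    (e = 1 ∨ e = φ (v0, flag k)) ∧ (d ^ i * e)⁻¹ * n ∈ centralizer (SA φ : Set G)
  fixed : Nat.card ↥(SA φ ⊓ cz d) = 4

/-- One line of involutions conjugate to `z`. -/
structure OneLine (φ : El → G) (j : Fin 3) : Prop where
  not_rot : ¬ Rot φ
  ztype : ∀ v, v ≠ v0 → (ZType φ (av φ v) ↔ v ∈ lineV j)
  stab : ∀ t ∈ SA φ, t ≠ 1 → ¬ ZType φ t → ∀ n ∈ normalizer (SA φ : Set G) ⊓ cz t,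
    n * n ∈ centralizer (SA φ : Set G)
  trans : ∀ t ∈ SA φ, t ≠ 1 → ¬ ZType φ t → ∃ k, k ≠ j ∧
    ∃ n ∈ normalizer (SA φ : Set G), ∃ v ∈ lineV k, v ≠ v0 ∧ v ≠ vz ∧ cj n (av φ v) = t

/-- Two such lines and one of the classes off the hyperplane. -/
structure TwoLines (φ : El → G) (k : Fin 3) : Prop where
  not_rot : ¬ Rot φ
  ztype : ∃ b : Bool, ∀ v, v ≠ v0 → (ZType φ (av φ v) ↔
    ((∃ i, i ≠ k ∧ v ∈ lineV i) ∨ (offH v = true ∧ singular v = b)))
  trans : ∀ t ∈ SA φ, t ≠ 1 → ¬ ZType φ t →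
    ∃ n ∈ normalizer (SA φ : Set G), ∃ v ∈ lineV k, v ≠ v0 ∧ v ≠ vz ∧ cj n (av φ v) = t
  stab : ∀ v ∈ lineV k, v ≠ v0 → v ≠ vz → ∃ d, Stab φ k (av φ v) d

/-- Five involutions of `A` conjugate to `z`. -/
structure FiveOrbit (φ : El → G) : Prop where
  rot : Rot φ
  ztype : ∃ b : Bool, ∀ v, v ≠ v0 →
    (ZType φ (av φ v) ↔ (v = vz ∨ (offH v = true ∧ singular v = b)))
  trans : ∀ k, ∀ t ∈ SA φ, t ≠ 1 → ¬ ZType φ t →
    ∃ n ∈ normalizer (SA φ : Set G), ∃ v ∈ lineV k, v ≠ v0 ∧ v ≠ vz ∧ cj n (av φ v) = t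
  stab : ∀ k, ∀ v ∈ lineV k, v ≠ v0 → v ≠ vz → ∃ d, Stab φ k (av φ v) d ∧
    ∃ f ∈ SA φ, f ∈ cz d ∧ ZType φ f
  quot : Nat.card ↥(normalizer (SA φ : Set G)) =
    60 * Nat.card ↥(centralizer (SA φ : Set G))

/-- The possible actions on `A`. -/
def Orbits (φ : El → G) : Prop :=
  (∃ j, OneLine φ j) ∨ (∃ k, TwoLines φ k) ∨ FiveOrbit φ

/-! ### The centraliser of `z` -/

/-- Modulo its odd core the centraliser of `z` normalises `A`. -/
def Normed (φ : El → G) : Prop :=
  ∀ g ∈ cz (zc φ), ∃ o ∈ core (zc φ), ∃ n ∈ normalizer (SA φ : Set G) ⊓ cz (zc φ), g = o * n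

/-- Modulo its odd core the centraliser of `z` is `2^(1+4)` extended by `S₃` or `3 × S₃`. -/
structure BigCent (φ : El → G) : Prop where
  frattini : ∀ g ∈ cz (zc φ), ∃ o ∈ core (zc φ),
    ∃ n ∈ normalizer (SQ φ : Set G) ⊓ cz (zc φ), g = o * n
  fuse : ∀ i, ∀ v ∈ lineV i, ∃ c ∈ cz (zc φ), ∃ w ∈ lineV i, w ≠ v0 ∧ w ≠ vz ∧
    cj c (φ (v, flag i)) = av φ w
  cent : ∀ i, ∀ v ∈ lineV i, v ≠ v0 → v ≠ vz → ∀ g ∈ cz (zc φ) ⊓ cz (av φ v),
    ∃ o ∈ core (zc φ), ∃ r ∈ SR φ i, g = o * r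
  planes : ¬ Rot φ → ∀ i, ∀ g ∈ cz (zc φ), ∃ o ∈ core (zc φ),
    ∃ n ∈ normalizer (SE φ i : Set G) ⊓ cz (zc φ), g = o * n
  card : (¬ Rot φ → (core (zc φ)).relIndex (cz (zc φ)) = 192) ∧
    (Rot φ → (core (zc φ)).relIndex (cz (zc φ)) = 576)

/-- The structure of the centraliser of an involution `t` not conjugate to `z`. -/
structure CentT (φ : El → G) (k : Fin 3) (t d : G) (H₀ : Subgroup G) : Prop where
  le : H₀ ≤ cz t
  normal : cz t ≤ normalizer (H₀ : Set G)
  core_le : core t ≤ H₀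
  A_le : SA φ ≤ H₀
  d_mem : d ∈ H₀
  sup : cz t = H₀ ⊔ zpowers (φ (v0, flag k))
  odd_index : ¬ 2 ∣ (SA φ).relIndex H₀
  central : ∀ f ∈ SA φ, f ∈ cz d → ∀ g ∈ H₀, f * g * f⁻¹ * g⁻¹ ∈ core t

/-- The odd core of the centraliser of `z` is trivial. -/
def CoreTrivial (φ : El → G) : Prop := core (zc φ) = ⊥

end CfsgLib.AEightSyl
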