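import Cfsg.Agent.Lib.AEightSyl.Pieces
import Cfsg.Agent.Lib.Ext32.Recognise2
import Cfsg.Agent.Lib.Ext32.ToM12
import Cfsg.Agent.Lib.Ext32.Identify
import Cfsg.Agent.Lib.Ext32.Fuse
import Cfsg.Agent.Lib.Ext32.Act

/-!
# S2918, piece I: the alternating groups

With trivial core the centraliser of `z` is one of the four models of `Ext32`; the presence of an
elementary subgroup of order sixteen outside `Q` excludes the one of `M₁₂`.
-/

set_option autoImplicit false
set_option linter.style.haveILetI false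
set_option linter.unusedSectionVars false
set_option maxRecDepth 100000
set_option synthInstance.maxSize 4000

namespace CfsgLib.AEightSyl

open Cfsg Subgroup CfsgLib.L34Sylow

universe u

namespace EndAlt

/-- Belonging to `Q`, in coordinates. -/
def inQ (e : El) : Bool := !offH e.1

theorem el_comm_Q : ∀ a b : El, inQ a → inQ b →
    emul a b = emul b a ∨ emul a b = emul (emul b a) (vz, t0) := by decide +kernel

theorem el_sq_Q : ∀ a : El, inQ a → emul a a = (v0, t0) ∨ emul a a = (vz, t0) := by decide +kernel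

theorem el_z_central : ∀ a : El, emul a (vz, t0) = emul (vz, t0) a := by decide +kernel

/-- An element of `A` outside `Q`. -/
def p23 : Vec := (false, false, true, false)

/-- The elements of `Q` commuting with a given one. -/
def centL (h : El) : Finset El := Finset.univ.filter fun e => inQ e ∧ emul h e = emul e h

theorem el_small : ∀ h : El, inQ h → h ≠ (v0, t0) → h ≠ (vz, t0) →
    (centL h).card = 16 ∧ ∃ a ∈ centL h, ∃ b ∈ centL h, emul a b ≠ emul b a := by
  decide +kernel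

theorem el_sq_S : ∀ a : El, inQ (emul a a) := by decide +kernel

theorem el_coset : ∀ e : El, inQ e = false → inQ (emul (p23, t0) e) := by decide +kernel

theorem el_line_conj : ∀ e : El, ∀ v ∈ lineV 0, ∃ w ∈ lineV 0,
    emul e (v, t0) = emul (w, t0) e := by decide +kernel

theorem el_line_inQ : ∀ i : Fin 3, ∀ v ∈ lineV i, inQ (v, t0) := by decide +kernel

/-- The elements of a plane. -/
def planeL (i : Fin 3) : List El := (lineV i).flatMap fun v => [(v, t0), (v, flag i)]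

theorem mem_planeL {i : Fin 3} {y : El} (h : y.1 ∈ lineV i ∧ (y.2 = t0 ∨ y.2 = flag i)) :
    y ∈ planeL i := by
  obtain ⟨v, s⟩ := y
  refine List.mem_flatMap.2 ⟨v, h.1, ?_⟩
  rcases h.2 with e | e <;> dsimp only at e <;> subst e <;> simp

theorem el_plane : ∀ b ∈ planeL 0, ∀ b' ∈ planeL 0, ∀ c ∈ planeL 1, ∀ c' ∈ planeL 1,
    emul b' c' = emul b c →
      (b' = b ∨ b' = emul b (vz, t0)) ∧ (c' = c ∨ c' = emul c (vz, t0)) := by decide +kernel

theorem el_gen : ∀ a : El, inQ a → ∃ b ∈ planeL 0, ∃ c ∈ planeL 1, a = emul b c := by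
  decide +kernel

theorem planeL_mem : ∀ i : Fin 3, ∀ y ∈ planeL i, y.1 ∈ lineV i ∧ (y.2 = t0 ∨ y.2 = flag i) := by
  decide +kernel


theorem el_line_or : ∀ i : Fin 3, ∀ v ∈ lineV i, ∀ w ∈ lineV i, w ≠ v0 → w ≠ vz →
    v = v0 ∨ v = vz ∨ v = w ∨ v = vadd w vz := by decide +kernel

theorem el_add_z : ∀ e : El, emul e (vz, t0) = (vadd e.1 vz, e.2) := by decide +kernel

theorem el_off : ∀ a b : El, a.2 = t0 → b.2 = t0 → emul a b = emul b a := by decide +kernel

theorem mk0_outside : ∀ m ∈ Ext32.els, Ext32.mulN 0 m m = 0 → m % 6 ≠ 0 →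
    (Ext32.els.filter fun n => Ext32.mulN 0 m n == Ext32.mulN 0 n m).length < 16 := by
  decide +kernel

theorem q_count : (Ext32.els.filter fun m => m % 6 == 0).length = 32 := by decide +kernel

end EndAlt

open EndAlt

variable {G : Type u} [Group G] [Finite G] {S : Sylow 2 G} {φ : El → G}

/-- Equations between products are checked in coordinates. -/
theorem EndAlt.mul_eq_iff (hS : Setup S φ) (a b c d : El) :
    φ a * φ b = φ c * φ d ↔ emul a b = emul c d := by
  rw [hS.mul, hS.mul]; exact hS.inj.eq_iff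

/-- In a finite group it is enough that conjugation maps a subgroup into itself. -/
theorem EndAlt.mem_normalizer_of_conj (H : Subgroup G) {g : G}
    (h : ∀ u ∈ H, g * u * g⁻¹ ∈ H) : g ∈ normalizer (H : Set G) := by
  classical
  haveI := Fintype.ofFinite G
  let f : H → H := fun u => ⟨g * u * g⁻¹, h u u.2⟩
  have hf : Function.Injective f := fun a b e => Subtype.ext
    (mul_left_cancel (mul_right_cancel (congrArg Subtype.val e)))
  refine mem_normalizer_iff.2 fun u => ⟨h u, fun hu => ?_⟩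
  obtain ⟨w, hw⟩ := (Finite.injective_iff_surjective.1 hf) ⟨_, hu⟩
  have e : g * (w : G) * g⁻¹ = g * u * g⁻¹ := congrArg Subtype.val hw
  exact mul_left_cancel (mul_right_cancel e) ▸ w.2

theorem endAlt : StmtEndAlt.{u} := by
  intro G _ _ S φ hS hF hZ hlines hB hcore
  classical
  haveI : Fact (Nat.Prime 2) := ⟨Nat.prime_two⟩
  haveI : Fact (Nat.Prime 3) := ⟨Nat.prime_three⟩
  have hnr : ¬ Rot φ := by
    rcases hlines with ⟨j, h⟩ | ⟨k, h⟩
    exacts [h.not_rot, h.not_rot]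
  obtain ⟨p, hp0, hpz, ⟨jp, hpj⟩, hpZ⟩ :
      ∃ p, p ≠ v0 ∧ p ≠ vz ∧ (∃ j, p ∈ lineV j) ∧ ZType φ (av φ p) := by
    have key : ∀ i : Fin 3, ∃ w ∈ lineV i, w ≠ v0 ∧ w ≠ vz := by decide +kernel
    rcases hlines with ⟨j, h⟩ | ⟨k, h⟩
    · obtain ⟨w, hw, hw0, hwz⟩ := key j
      exact ⟨w, hw0, hwz, ⟨j, hw⟩, (h.ztype w hw0).2 hw⟩
    · obtain ⟨b, hb⟩ := h.ztype
      obtain ⟨w, hw, hw0, hwz⟩ := key (k + 1)
      exact ⟨w, hw0, hwz, ⟨k + 1, hw⟩,
        (hb w hw0).2 (Or.inl ⟨k + 1, (show ∀ i : Fin 3, i + 1 ≠ i by decide) k, hw⟩)⟩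
  set z := zc φ with hzdef
  set C := cz z with hCdef
  set Q := SQ φ with hQdef
  have hmemC : ∀ g, g ∈ C ↔ g * z = z * g := fun g => mem_centralizer_singleton_iff
  have hSC : (S : Subgroup G) ≤ C := fun g hg => by
    obtain ⟨e, rfl⟩ := hS.surj g hg
    exact (hmemC _).2 ((EndAlt.mul_eq_iff hS _ _ _ _).2 (el_z_central e))
  have hcore' : core z = ⊥ := hcore
  have hnormQ : ∀ g ∈ C, g ∈ normalizer (Q : Set G) := fun g hg => by
    obtain ⟨o, ho, n, hn, rfl⟩ := hB.frattini g hg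
    rw [hcore', mem_bot] at ho
    subst ho
    rw [one_mul]
    exact hn.1
  have hnormE : ∀ i, ∀ g ∈ C, g ∈ normalizer (SE φ i : Set G) := fun i g hg => by
    obtain ⟨o, ho, n, hn, rfl⟩ := hB.planes hnr i g hg
    rw [hcore', mem_bot] at ho
    subst ho
    rw [one_mul]
    exact hn.1
  have hC192 : Nat.card C = 192 := by
    have h := hB.card.1 hnr
    rwa [hcore', relIndex_bot_left] at h
  have hQmem : ∀ e : El, φ e ∈ Q ↔ inQ e := fun e => by
    rw [hQdef, hF.mem_Q]
    constructor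
    · rintro ⟨v, s, hv, he⟩
      rw [← hS.inj he]
      simp [inQ, hv]
    · intro he
      exact ⟨e.1, e.2, by simpa [inQ] using he, rfl⟩
  have hQS : Q ≤ S := hF.le_S.2.1
  have hQel : ∀ q ∈ Q, ∃ e : El, inQ e ∧ φ e = q := fun q hq => by
    obtain ⟨e, rfl⟩ := hS.surj q (hQS hq)
    exact ⟨e, (hQmem e).1 hq, rfl⟩
  have h1 : φ (v0, t0) = 1 := by
    have h := hS.mul (v0, t0) (v0, t0)
    rw [show emul (v0, t0) (v0, t0) = (v0, t0) by decide] at h
    exact left_eq_mul.1 h.symm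
  have hzne : z ≠ 1 := fun h => by
    have := hS.inj (h.trans h1.symm)
    revert this; decide
  have hzz : z * z = 1 := by rw [hzdef, ← h1, hS.mul]; congr 1
  -- the stabiliser of a line inside the centraliser is the Sylow subgroup
  have hLmem : ∀ i, ∀ v ∈ lineV i, av φ v ∈ SL φ i := fun i v hv => (hF.mem_L i _).2 ⟨v, hv, rfl⟩
  have hSK : ∀ i, (S : Subgroup G) ≤ C ⊓ normalizer (SL φ i : Set G) := fun i g hg => by
    obtain ⟨e, rfl⟩ := hS.surj g hg
    refine ⟨hSC hg, ?_⟩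
    have key : ∀ (i : Fin 3) (e : El), ∀ v ∈ lineV i,
        ∃ w ∈ lineV i, emul e (v, t0) = emul (w, t0) e := by decide +kernel
    refine mem_normalizer_of_conj _ fun x hx => ?_
    obtain ⟨v, hv, rfl⟩ := (hF.mem_L i x).1 hx
    obtain ⟨w, hw, hw'⟩ := key i e v hv
    rw [(EndAlt.mul_eq_iff hS _ _ _ _).2 hw', mul_inv_cancel_right]
    exact (hF.mem_L i _).2 ⟨w, hw, rfl⟩
  have hKS : ∀ i, C ⊓ normalizer (SL φ i : Set G) ≤ (S : Subgroup G) := by
    intro i
    set K := C ⊓ normalizer (SL φ i : Set G) with hKdef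
    obtain ⟨c₀, hc₀C, w₀, hw₀, hw₀0, hw₀z, hc₀⟩ := hB.fuse i v0 ((show ∀ i : Fin 3, v0 ∈ lineV i by decide) i)
    have hKne : K ≠ C := by
      intro h
      have hci : c₀⁻¹ ∈ normalizer (SL φ i : Set G) :=
        (h.symm ▸ inv_mem hc₀C : c₀⁻¹ ∈ K).2
      have := (mem_normalizer_iff.1 hci _).1 (hLmem i w₀ hw₀)
      rw [← hc₀, cj] at this
      simp only [inv_inv] at this
      rw [show c₀⁻¹ * (c₀ * φ (v0, flag i) * c₀⁻¹) * c₀ = φ (v0, flag i) by group] at this
      obtain ⟨v, -, hv⟩ := (hF.mem_L i _).1 this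
      exact absurd (congrArg Prod.snd (hS.inj hv)) ((show ∀ i : Fin 3, t0 ≠ flag i by decide) i)
    have hK64 : Nat.card K = 64 := by
      have h1' : 64 ∣ Nat.card K := hF.card_S ▸ card_dvd_of_le (hSK i)
      have h2 : Nat.card K ∣ 192 := hC192 ▸ card_dvd_of_le inf_le_left
      have h3 : Nat.card K ≠ 192 := fun h => hKne (eq_of_le_of_card_ge inf_le_left (by omega))
      obtain ⟨m, hm⟩ := h1'
      have : m ≤ 3 := by have := Nat.le_of_dvd (by norm_num) h2; omega
      interval_cases m <;> first | omega | (rw [hm] at h2; norm_num at h2)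
    exact (eq_of_le_of_card_ge (hSK i) (by rw [hK64, hF.card_S])).ge
  -- an element of order three
  obtain ⟨⟨x, hxC⟩, hxo⟩ := exists_prime_orderOf_dvd_card' (G := C) 3 (by rw [hC192]; norm_num)
  rw [orderOf_mk] at hxo
  have hx3 : x * x * x = 1 := by
    rw [← pow_two, ← pow_succ, show 2 + 1 = orderOf x by rw [hxo], pow_orderOf_eq_one]
  have hnot64 : ∀ i, ∀ g ∈ C, g⁻¹ * x * g ∉ C ⊓ normalizer (SL φ i : Set G) := fun i g _ h => by
    have h3 : orderOf (g⁻¹ * x * g) = 3 := by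
      rw [← hxo]
      exact orderOf_injective (MulAut.conj g⁻¹).toMonoidHom (MulEquiv.injective _) x ▸ by simp
    have := h3 ▸ orderOf_dvd_natCard _ (hKS i h)
    rw [hF.card_S] at this; norm_num at this
  -- the points modulo the centre
  have hnoL : ∀ i, ∀ g ∈ C, ∀ v ∈ lineV i, v ≠ v0 → v ≠ vz →
      x * (g * av φ v * g⁻¹) * x⁻¹ ≠ g * av φ v * g⁻¹ ∧
      x * (g * av φ v * g⁻¹) * x⁻¹ ≠ g * av φ v * g⁻¹ * z := by
    intro i g hg v hv hv0 hvz
    have hgz : g⁻¹ * z = z * g⁻¹ := (hmemC _).1 (inv_mem hg)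
    have hyC : g⁻¹ * x * g ∈ C := mul_mem (mul_mem (inv_mem hg) hxC) hg
    have hfin : ∀ r : G, (r = av φ v ∨ r = av φ v * z) →
        g⁻¹ * x * g * av φ v * (g⁻¹ * x * g)⁻¹ = r → False := by
      intro r hr he
      refine hnot64 i g hg ⟨hyC, ?_⟩
      have hrL : r ∈ SL φ i := by
        rcases hr with rfl | rfl
        · exact hLmem i v hv
        · exact mul_mem (hLmem i v hv) (hLmem i vz ((show ∀ i : Fin 3, vz ∈ lineV i by decide) i))
      have hyz : g⁻¹ * x * g * z * (g⁻¹ * x * g)⁻¹ = z := by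
        rw [(hmemC _).1 hyC, mul_inv_cancel_right]
      have hcov : ∀ u ∈ SL φ i, u = 1 ∨ u = z ∨ u = av φ v ∨ u = av φ v * z := by
        intro u hu
        obtain ⟨u', hu', rfl⟩ := (hF.mem_L i u).1 hu
        rcases el_line_or i u' hu' v hv hv0 hvz with rfl | rfl | rfl | rfl
        · exact Or.inl h1
        · exact Or.inr (Or.inl rfl)
        · exact Or.inr (Or.inr (Or.inl rfl))
        · refine Or.inr (Or.inr (Or.inr ?_))
          rw [hzdef, hS.mul, el_add_z]
      refine mem_normalizer_of_conj _ fun w hw => ?_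
      rcases hcov w hw with rfl | rfl | rfl | rfl
      · simp
      · rw [hyz]; exact hLmem i vz ((show ∀ i : Fin 3, vz ∈ lineV i by decide) i)
      · rw [he]; exact hrL
      · rw [← conj_mul, he, hyz]; exact mul_mem hrL (hLmem i vz ((show ∀ i : Fin 3, vz ∈ lineV i by decide) i))
    have key : ∀ r : G, x * (g * av φ v * g⁻¹) * x⁻¹ = g * r * g⁻¹ →
        g⁻¹ * x * g * av φ v * (g⁻¹ * x * g)⁻¹ = r := fun r h => by
      calc g⁻¹ * x * g * av φ v * (g⁻¹ * x * g)⁻¹
          = g⁻¹ * (x * (g * av φ v * g⁻¹) * x⁻¹) * g := by group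
        _ = r := by rw [h]; group
    refine ⟨fun h => hfin _ (Or.inl rfl) (key _ h), fun h => hfin _ (Or.inr rfl) (key _ ?_)⟩
    rw [h, mul_assoc (g * av φ v), hgz]; group
  have hxz : x * z = z * x := (hmemC x).1 hxC
  have hzC : z ∈ C := (hmemC z).2 rfl
  have hQC : Q ≤ C := hQS.trans hSC
  -- the elements of a plane are not fixed modulo the centre
  have hplane : ∀ i, ∀ e : El, (e.1 ∈ lineV i ∧ (e.2 = t0 ∨ e.2 = flag i)) →
      e ≠ (v0, t0) → e ≠ (vz, t0) → x * φ e * x⁻¹ ≠ φ e ∧ x * φ e * x⁻¹ ≠ φ e * z := by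
    rintro i ⟨v, s⟩ ⟨hv, hs⟩ hne hne'
    rcases hs with hs | hs <;> dsimp only at hs <;> subst hs
    · have := hnoL i 1 (one_mem _) v hv (fun h => hne (by rw [h])) (fun h => hne' (by rw [h]))
      simpa using this
    · obtain ⟨c, hc, w, hw, hw0, hwz, hcw⟩ := hB.fuse i v hv
      have := hnoL i c⁻¹ (inv_mem hc) w hw hw0 hwz
      rw [← hcw] at this
      simpa [cj, mul_assoc] using this
  have hfix : ∀ q ∈ Q, x * q * x⁻¹ = q → q = 1 ∨ q = z := by
    intro q hq hxq
    obtain ⟨e, he, rfl⟩ := hQel q hq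
    obtain ⟨b, hb', c, hc', hbc⟩ := el_gen e he
    have hb := planeL_mem 0 b hb'
    have hc := planeL_mem 1 c hc'
    clear hb' hc'
    have hxmem : ∀ i, ∀ y : El, (y.1 ∈ lineV i ∧ (y.2 = t0 ∨ y.2 = flag i)) →
        ∃ y' : El, (y'.1 ∈ lineV i ∧ (y'.2 = t0 ∨ y'.2 = flag i)) ∧ φ y' = x * φ y * x⁻¹ := by
      rintro i ⟨v, s⟩ ⟨hv, hs⟩
      have hmem : φ (v, s) ∈ SE φ i := (hF.mem_E i _).2 ⟨v, hv, by
        rcases hs with hs | hs <;> dsimp only at hs <;> subst hs <;> simp⟩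
      obtain ⟨w, hw, hw'⟩ := (hF.mem_E i _).1 ((mem_normalizer_iff.1 (hnormE i x hxC) _).1 hmem)
      rcases hw' with hw' | hw'
      exacts [⟨_, ⟨hw, Or.inl rfl⟩, hw'⟩, ⟨_, ⟨hw, Or.inr rfl⟩, hw'⟩]
    obtain ⟨b', hb', hbe⟩ := hxmem 0 b hb
    obtain ⟨c', hc', hce⟩ := hxmem 1 c hc
    have hprod : emul b' c' = emul b c := hS.inj (by
      rw [← hS.mul, ← hS.mul, hbe, hce, conj_mul, hS.mul, ← hbc, hxq])
    obtain ⟨k1, k2⟩ := el_plane b (mem_planeL hb) b' (mem_planeL hb') c (mem_planeL hc) c'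
      (mem_planeL hc') hprod
    have htriv : ∀ i, ∀ y y' : El, (y.1 ∈ lineV i ∧ (y.2 = t0 ∨ y.2 = flag i)) →
        φ y' = x * φ y * x⁻¹ → (y' = y ∨ y' = emul y (vz, t0)) →
        y = (v0, t0) ∨ y = (vz, t0) := by
      intro i y y' hy hye h
      by_contra hcon
      push Not at hcon
      obtain ⟨n1, n2⟩ := hplane i y hy hcon.1 hcon.2
      rcases h with rfl | rfl
      · exact n1 hye.symm
      · exact n2 (by rw [← hye, ← hS.mul])
    have kb := htriv 0 b b' hb hbe k1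
    have kc := htriv 1 c c' hc hce k2
    rcases kb with rfl | rfl <;> rcases kc with rfl | rfl <;> subst hbc
    · exact Or.inl ((congrArg φ (show emul (v0, t0) (v0, t0) = (v0, t0) by decide)).trans h1)
    · exact Or.inr (congrArg φ (show emul (v0, t0) (vz, t0) = (vz, t0) by decide))
    · exact Or.inr (congrArg φ (show emul (vz, t0) (v0, t0) = (vz, t0) by decide))
    · exact Or.inl ((congrArg φ (show emul (vz, t0) (vz, t0) = (v0, t0) by decide)).trans h1)
  have T : Ext32.Act Q z x :=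
    { hs := hzz
      hs1 := hzne
      hsQ := (hQmem _).2 (by decide)
      hz := fun q hq => (hmemC q).1 (hQC hq)
      hx := hx3
      hxs := hxz
      hfix := hfix
      hxQ := fun q hq => (mem_normalizer_iff.1 (hnormQ x hxC) q).1 hq
      hcm := fun p hp q hq => by
        obtain ⟨e, he, rfl⟩ := hQel p hp
        obtain ⟨f, hf, rfl⟩ := hQel q hq
        rcases el_comm_Q e f he hf with h | h
        · exact Or.inl (by rw [hS.mul, hS.mul, h])
        · exact Or.inr (by rw [hS.mul, hS.mul, hzdef, hS.mul, h])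
      hsq := fun p hp => by
        obtain ⟨e, he, rfl⟩ := hQel p hp
        rcases el_sq_Q e he with h | h
        · exact Or.inl (by rw [hS.mul, h, h1])
        · exact Or.inr (by rw [hS.mul, h])
      hcard := hF.card_Q
      small := by
        intro H hHQ hzH h16
        by_contra hno
        push Not at hno
        obtain ⟨p, hp, hp1, hpz'⟩ : ∃ p ∈ H, p ≠ 1 ∧ p ≠ z := by
          by_contra hcon
          push Not at hcon
          have h2 : Nat.card H ≤ 2 := by
            refine (card_le_of_le (K := zpowers z) fun p hp => ?_).trans ?_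
            · by_cases hp1 : p = 1
              · rw [hp1]; exact one_mem _
              · rw [hcon p hp hp1]; exact mem_zpowers z
            · rw [Nat.card_zpowers, orderOf_eq_prime (by rw [sq]; exact hzz) hzne]
          omega
        obtain ⟨h, hh, rfl⟩ := hQel p (hHQ hp)
        obtain ⟨hcard16, a, ha, b, hb, hab⟩ :=
          el_small h hh (fun e0 => hp1 (by rw [e0, h1])) (fun e0 => hpz' (by rw [e0]))
        have hcoord : ∀ r ∈ H, ∃ e ∈ centL h, φ e = r := fun r hr => by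
          obtain ⟨e, he, rfl⟩ := hQel r (hHQ hr)
          refine ⟨e, Finset.mem_filter.2 ⟨Finset.mem_univ _, he, hS.inj ?_⟩, rfl⟩
          rw [← hS.mul, ← hS.mul]; exact hno _ hp _ hr
        have hset : (H : Set G) = φ '' (centL h : Set El) := by
          refine Set.eq_of_subset_of_ncard_le
            (fun r hr => by obtain ⟨e, he, h'⟩ := hcoord r hr; exact ⟨e, he, h'⟩) ?_
          rw [Set.ncard_image_of_injective _ hS.inj, Set.ncard_coe_finset, hcard16,
            ← Nat.card_coe_set_eq]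
          exact h16
        have hmem : ∀ e ∈ centL h, φ e ∈ H := fun e he => by
          rw [← SetLike.mem_coe, hset]; exact ⟨e, he, rfl⟩
        exact hab ((EndAlt.mul_eq_iff hS _ _ _ _).1 (hno _ (hmem a ha) _ (hmem b hb))) }
  -- an inverting element
  have hinQb : inQ (p23, t0) = false := by decide
  set b0 := av φ p23 with hb0def
  have hb0C : b0 ∈ C := hSC (hS.mem _)
  have hb0Q : b0 ∉ Q := fun h => by
    have := (hQmem _).1 h
    rw [hinQb] at this; exact Bool.false_ne_true this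
  have hxS : x ∉ (S : Subgroup G) := fun h => by
    have := orderOf_dvd_natCard _ h
    rw [hxo, hF.card_S] at this; norm_num at this
  let xC : C := ⟨x, hxC⟩
  let bC : C := ⟨b0, hb0C⟩
  set Q' : Subgroup C := Q.subgroupOf C with hQ'def
  haveI hQ'n : Q'.Normal :=
    ⟨fun n hn g => mem_subgroupOf.2 (by
      simpa using (mem_normalizer_iff.1 (hnormQ g g.2) n).1 (mem_subgroupOf.1 hn))⟩
  set π := QuotientGroup.mk' Q' with hπdef
  have hπ : ∀ g : C, π g = 1 ↔ (g : G) ∈ Q := fun g =>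
    (QuotientGroup.eq_one_iff g).trans mem_subgroupOf
  have hC6 : Nat.card (C ⧸ Q') = 6 := by
    have h := card_eq_card_quotient_mul_card_subgroup Q'
    rw [hC192, Nat.card_congr (subgroupOfEquivOfLe hQC).toEquiv, hF.card_Q] at h
    omega
  have hX3 : π xC ^ 3 = 1 := by
    rw [← map_pow]
    exact (hπ _).2 (by
      have : ((xC ^ 3 : C) : G) = 1 := by
        show x ^ 3 = 1
        rw [← hxo, pow_orderOf_eq_one]
      rw [this]; exact one_mem _)
  have hXo : orderOf (π xC) = 3 :=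
    orderOf_eq_prime hX3 fun h => hxS (hQS ((hπ _).1 h))
  set XX := zpowers (π xC) with hXXdef
  have hXi : XX.index = 2 := by
    have := XX.index_mul_card
    rw [hC6, Nat.card_zpowers, hXo] at this
    omega
  have hbX : π bC ∉ XX := fun h => by
    have h3 := orderOf_dvd_natCard _ h
    rw [Nat.card_zpowers, hXo] at h3
    have h2 : orderOf (π bC) ∣ 2 := by
      refine orderOf_dvd_of_pow_eq_one ?_
      rw [← map_pow]
      refine (hπ _).2 ?_
      show b0 ^ 2 ∈ Q
      rw [sq, hb0def, hS.mul]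
      exact (hQmem _).2 (el_sq_S _)
    have h1' : orderOf (π bC) = 1 := Nat.dvd_one.1 (Nat.dvd_gcd h3 h2)
    exact hb0Q ((hπ _).1 (orderOf_eq_one_iff.1 h1'))
  have hconj : π bC * π xC * (π bC)⁻¹ = π xC ∨ π bC * π xC * (π bC)⁻¹ = π xC * π xC := by
    obtain ⟨n, hn⟩ := mem_zpowers_iff.1
      ((normal_of_index_eq_two hXi).conj_mem _ (mem_zpowers (π xC)) (π bC))
    rw [← hn, ← zpow_mod_orderOf (π xC) n, hXo]
    have : n % ((3 : ℕ) : ℤ) = 0 ∨ n % ((3 : ℕ) : ℤ) = 1 ∨ n % ((3 : ℕ) : ℤ) = 2 := by omega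
    rcases this with e | e | e <;> rw [e]
    · exfalso
      rw [← zpow_mod_orderOf (π xC) n, hXo, e, zpow_zero, eq_comm] at hn
      have : π xC = 1 := conj_eq_one_iff.1 hn
      rw [this, orderOf_one] at hXo
      norm_num at hXo
    · exact Or.inl (zpow_one _)
    · exact Or.inr (zpow_two _)
  have hb1 : b0 * x * b0⁻¹ * x ∈ Q := by
    rcases hconj with e | e
    · exfalso
      have hcomm : x * b0 * x⁻¹ * b0⁻¹ ∈ Q := by
        have e' : π bC * π xC = π xC * π bC := mul_inv_eq_iff_eq_mul.1 e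
        refine (hπ (xC * bC * xC⁻¹ * bC⁻¹)).1 ?_
        rw [map_mul, map_mul, map_mul, map_inv, map_inv, ← e']
        group
      have hxnS : x ∈ normalizer ((S : Subgroup G) : Set G) := by
        refine mem_normalizer_of_conj _ fun u hu => ?_
        obtain ⟨e, rfl⟩ := hS.surj u hu
        by_cases he : inQ e = true
        · exact hQS ((mem_normalizer_iff.1 (hnormQ x hxC) _).1 ((hQmem e).2 he))
        · simp only [Bool.not_eq_true] at he
          have hq : b0 * φ e ∈ Q := by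
            rw [hb0def, hS.mul]; exact (hQmem _).2 (el_coset e he)
          have hbb : b0⁻¹ ∈ (S : Subgroup G) := inv_mem (hS.mem _)
          have hxb : x * b0⁻¹ * x⁻¹ ∈ (S : Subgroup G) := by
            have : x * b0 * x⁻¹ ∈ (S : Subgroup G) := by
              have h := mul_mem (hQS hcomm) (hS.mem (p23, t0))
              simpa [hb0def, mul_assoc] using h
            simpa [mul_assoc] using inv_mem this
          have := mul_mem hxb (hQS ((mem_normalizer_iff.1 (hnormQ x hxC) _).1 hq))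
          simpa [mul_assoc] using this
      have hxA := hF.norm_A hxnS
      obtain ⟨s, hs, hsx⟩ := hZ.1 hnr x ⟨hxA, hxC⟩
      refine hnot64 0 1 (one_mem _) ?_
      rw [inv_one, one_mul, mul_one]
      refine ⟨hxC, mem_normalizer_of_conj _ fun u hu => ?_⟩
      obtain ⟨v, hv, rfl⟩ := (hF.mem_L 0 u).1 hu
      obtain ⟨e, rfl⟩ := hS.surj s hs
      obtain ⟨w, hw, hew⟩ := el_line_conj e v hv
      have hc : (φ e)⁻¹ * x * φ (v, t0) = φ (v, t0) * ((φ e)⁻¹ * x) :=
        (mem_centralizer_iff.1 hsx _ ((hF.mem_A _).2 ⟨v, rfl⟩)).symm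
      have hx' : x * φ (v, t0) * x⁻¹ = φ (w, t0) := by
        calc x * φ (v, t0) * x⁻¹ = φ e * ((φ e)⁻¹ * x * φ (v, t0)) * x⁻¹ := by group
          _ = φ e * φ (v, t0) * (φ e)⁻¹ := by rw [hc]; group
          _ = φ (w, t0) := by
            rw [(EndAlt.mul_eq_iff hS _ _ _ _).2 hew, mul_inv_cancel_right]
      rw [hx']
      exact (hF.mem_L 0 _).2 ⟨w, hw, rfl⟩
    · refine (hπ (bC * xC * bC⁻¹ * xC)).1 ?_
      rw [map_mul, map_mul, map_mul, map_inv, e, ← pow_two, ← pow_succ]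
      exact hX3
  obtain ⟨i, w, F⟩ := T.exists_frame
  obtain ⟨n, hn32, hqn⟩ := F.qv_surj T.hxQ T.hcm T.hcard hb1
  obtain ⟨q, hqdef⟩ : ∃ q : G, q = b0 * x * b0⁻¹ * x := ⟨_, rfl⟩
  rw [← hqdef] at hqn
  have hxi : x⁻¹ = x * x := inv_eq_of_mul_eq_one_right (by rw [← mul_assoc, hx3])
  have hqx : b0 * x * b0⁻¹ = q * x⁻¹ := by rw [hqdef, mul_inv_cancel_right]
  have h3 : q * (x⁻¹ * q * x) * (x * q * x⁻¹) = 1 := by
    have h : q * x⁻¹ * (q * x⁻¹) * (q * x⁻¹) = 1 := by
      rw [← hqx, conj_mul, conj_mul, hx3]; group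
    calc q * (x⁻¹ * q * x) * (x * q * x⁻¹) = q * x⁻¹ * q * (x * x) * (q * x⁻¹) := by group
      _ = q * x⁻¹ * (q * x⁻¹) * (q * x⁻¹) := by rw [← hxi]; group
      _ = 1 := h
  have phl : ∀ {m}, m < 32 → CfsgLib.Ext32.ph m < 32 := fun hm =>
    (CfsgLib.Ext32.ph_facts _ (List.mem_range.2 hm)).1
  obtain ⟨y, hy, y', hy', hyy, hyq⟩ := CfsgLib.Ext32.third_cases n (List.mem_range.2 hn32) (by
    refine F.qv_injective T.hxQ T.hcm (CfsgLib.Ext32.qMul_lt _ _) (by norm_num) ?_
    rw [F.qv_mul T.hxQ T.hcm (CfsgLib.Ext32.qMul_lt _ _) (phl hn32),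
      F.qv_mul T.hxQ T.hcm hn32 (phl (phl hn32)), ← F.qv_ph2 T hn32, ← F.qv_ph T.hxQ T.hcm hn32,
      hqn, CfsgLib.Ext32.qv_zero, h3])
  rw [List.mem_range] at hy hy'
  set yv := CfsgLib.Ext32.qv z x i w y with hyv
  have hyinv : CfsgLib.Ext32.qv z x i w y' = yv⁻¹ := eq_inv_of_mul_eq_one_right (by
    rw [← F.qv_mul T.hxQ T.hcm hy hy', hyy, CfsgLib.Ext32.qv_zero])
  have hqy : q = yv * (x⁻¹ * yv⁻¹ * x) := by
    rw [← hqn, ← hyq, F.qv_mul T.hxQ T.hcm hy (phl (phl hy')), ← F.qv_ph2 T hy', hyinv]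
  have hyQ : yv ∈ Q := F.qv_mem T.hxQ y
  set b : G := yv⁻¹ * b0 with hbdef
  have hbS : b ∈ (S : Subgroup G) := mul_mem (inv_mem (hQS hyQ)) (hS.mem _)
  have hbC : b ∈ C := hSC hbS
  have hbQ : b ∉ Q := fun h => hb0Q (by
    have := mul_mem hyQ h
    rwa [hbdef, mul_inv_cancel_left] at this)
  have hbx : b * x * b⁻¹ = x⁻¹ := by
    calc b * x * b⁻¹ = yv⁻¹ * (b0 * x * b0⁻¹) * yv := by rw [hbdef]; group
      _ = x⁻¹ := by rw [hqx, hqy]; group
  have hb2 : b * b = 1 ∨ b * b = z := by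
    refine hfix _ ?_ ?_
    · obtain ⟨e, he⟩ := hS.surj b hbS
      rw [← he, hS.mul]; exact (hQmem _).2 (el_sq_S e)
    · have e1 : b * x⁻¹ * b⁻¹ = x := by
        rw [← inv_inv (b * x⁻¹ * b⁻¹), conj_inv, inv_inv, hbx, inv_inv]
      have e2 : b * b * x * (b * b)⁻¹ = x := by
        calc b * b * x * (b * b)⁻¹ = b * (b * x * b⁻¹) * b⁻¹ := by group
          _ = x := by rw [hbx, e1]
      calc x * (b * b) * x⁻¹ = (b * b * x * (b * b)⁻¹) * (b * b) * x⁻¹ := by rw [e2]
        _ = b * b := by group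
  have hbn : b ∉ Q ⊔ zpowers x := by
    intro h
    have hle : Q ⊔ zpowers x ≤ (XX.comap π).map C.subtype := by
      refine sup_le (fun g hg => ⟨⟨g, hQC hg⟩, ?_, rfl⟩)
        (zpowers_le.2 ⟨xC, mem_zpowers (π xC), rfl⟩)
      show π ⟨g, hQC hg⟩ ∈ XX
      rw [(hπ _).2 hg]; exact one_mem _
    obtain ⟨c, hc, hce⟩ := hle h
    have hcb : c = ⟨b, hbC⟩ := Subtype.ext hce
    subst hcb
    refine hbX ?_
    have e1 : (⟨b, hbC⟩ : C) = ⟨yv, hQC hyQ⟩⁻¹ * bC := rfl
    have hc' : π ⟨b, hbC⟩ ∈ XX := hc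
    rwa [e1, map_mul, map_inv, (hπ _).2 (show ((⟨yv, hQC hyQ⟩ : C) : G) ∈ Q from hyQ), inv_one,
      one_mul] at hc'
  obtain ⟨k, D, hD⟩ := T.exists_cen hbx ((hmemC b).1 hbC)
    (fun q hq => (mem_normalizer_iff.1 (hnormQ b hbC) q).1 hq) hb2 hbn hC192
  -- the model of the Mathieu group has no elementary subgroup of order sixteen outside `Q`
  have hk0 : k ≠ 0 := by
    intro hk
    subst hk
    obtain ⟨m, hm, hmv⟩ := D.val_surj b0 ((hmemC b0).1 hb0C)
    have hbsq : b0 * b0 = 1 := by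
      rw [hb0def, hS.mul, show emul (p23, t0) (p23, t0) = (v0, t0) by decide, h1]
    have hmm : Ext32.mulN 0 m m = 0 := D.val_sq hm (by rw [hmv]; exact hbsq)
    have hm6 : m % 6 ≠ 0 := by
      intro h6
      set l := Ext32.els.filter fun m => m % 6 == 0 with hl
      have hset : (Q : Set G) = {g | ∃ n ∈ l, D.val n = g} := by
        refine Set.eq_of_subset_of_ncard_le (fun g hg => ?_) ?_
        · obtain ⟨n, hn, hn6, hnv⟩ := hD g hg
          exact ⟨n, List.mem_filter.2 ⟨Ext32.mem_els hn, by simpa using hn6⟩, hnv⟩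
        · rw [← Nat.card_coe_set_eq, ← Nat.card_coe_set_eq]
          show Nat.card {g : G // ∃ n ∈ l, D.val n = g} ≤ Nat.card Q
          rw [D.card_image (fun n hn => Ext32.els_lt (List.mem_filter.1 hn).1)
            (List.nodup_range.filter _), q_count, hF.card_Q]
      refine hb0Q (?_ : b0 ∈ (Q : Set G))
      rw [hset]
      exact ⟨m, List.mem_filter.2 ⟨Ext32.mem_els hm, by simpa using h6⟩, hmv⟩
    have hlt := mk0_outside m (Ext32.mem_els hm) hmm hm6
    set l := Ext32.els.filter fun n => Ext32.mulN 0 m n == Ext32.mulN 0 n m with hl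
    have hle : Nat.card (SA φ) ≤ Nat.card {g : G // ∃ n ∈ l, D.val n = g} := by
      refine Nat.card_le_card_of_injective (fun g => ⟨g, ?_⟩) fun g g' h => ?_
      · obtain ⟨v, hv⟩ := (hF.mem_A g).1 g.2
        obtain ⟨n, hn, hnv⟩ := D.val_surj g ((hmemC g).1 (hSC (hv ▸ hS.mem _)))
        refine ⟨n, List.mem_filter.2 ⟨Ext32.mem_els hn, ?_⟩, hnv⟩
        rw [beq_iff_eq]
        refine D.mul_val_eq hm hn ?_
        rw [hmv, hnv, ← hv]
        exact (EndAlt.mul_eq_iff hS _ _ _ _).2 (el_off _ _ rfl rfl)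
      · exact Subtype.ext (congrArg Subtype.val h :)
    rw [hF.card_A, D.card_image (fun n hn => Ext32.els_lt (List.mem_filter.1 hn).1)
      (List.nodup_range.filter _)] at hle
    exact absurd (lt_of_le_of_lt hle hlt) (lt_irrefl _)
  obtain ⟨m, hm, hm6, hmv⟩ := hD (av φ p) ((hQmem _).2 (el_line_inQ jp p hpj))
  obtain ⟨D', hv⟩ := D.exists_fused hm hm6
    (fun h => hpz (congrArg Prod.fst (hS.inj (show φ (p, t0) = φ (vz, t0) by
      show av φ p = z
      rw [← hmv, h, D.val_tau]))))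
    (hmv ▸ hpZ)
  rcases (show k = 0 ∨ k = 1 ∨ k = 2 ∨ k = 3 by have := D'.hk; omega) with rfl | rfl | rfl | rfl
  · exact absurd rfl hk0
  · exact (CfsgLib.Ext32.Cen.dic_false D' (Or.inl rfl) hv).elim
  · rcases D'.classify hv with ⟨N, hN, -, -, hN8, -⟩ | h | h
    · exfalso
      have hle : N ≤ pCore 2 G :=
        CfsgLib.Base.le_pCore (IsPGroup.of_card (n := 3) (by rw [hN8]; norm_num))
      rw [hS.pcore_bot] at hle
      rw [le_bot_iff.1 hle, card_bot] at hN8
      norm_num at hN8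
    · exact Or.inl h
    · exact Or.inr h
  · exact (CfsgLib.Ext32.Cen.dic_false D' (Or.inr rfl) hv).elim

end CfsgLib.AEightSyl
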