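import Cfsg.Agent.Lib.AEightSyl.Pieces
import Cfsg.Agent.Lib.U42.Main
import Cfsg.Agent.Lib.U42.Target

/-!
# S2918, piece H2: recognition of `PSp₄(3)` from the model
-/

set_option autoImplicit false
set_option linter.style.haveILetI false

namespace CfsgLib.AEightSyl

open Cfsg

universe u

theorem index_ne_two_of_residual {G : Type u} [Group G] [Finite G] (h : pResidual 2 G = ⊤)
    (K : Subgroup G) : K.index ≠ 2 := fun hK => by
  haveI := Subgroup.normal_of_index_eq_two hK
  have hle : pResidual 2 G ≤ K := by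
    rw [pResidual, Subgroup.closure_le]
    intro g hg
    obtain ⟨m, hm⟩ := Nat.coprime_two_right.1 hg
    have hg2 : g ^ 2 ∈ K := hK ▸ K.pow_index_mem g
    have h1 : g = ((g ^ 2) ^ m)⁻¹ * g ^ (orderOf g) := by
      rw [hm, pow_add, pow_one, pow_mul, inv_mul_cancel_left]
    rw [pow_orderOf_eq_one, mul_one] at h1
    rw [SetLike.mem_coe, h1]
    exact inv_mem (pow_mem hg2 m)
  rw [h, top_le_iff] at hle
  rw [hle, Subgroup.index_top] at hK
  omega

theorem two_ne_zero_three : (2 : ZMod 3) ≠ 0 := by decide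

/-- **Piece H2 of S2918.** -/
theorem endPSp : StmtEndPSp.{u} := by
  intro G _ _ hO2 t hD
  obtain ⟨D⟩ := hD
  haveI : Fact (Nat.Prime 3) := ⟨Nat.prime_three⟩
  have hF : Fintype.card (ZMod 3) = 3 := ZMod.card 3
  haveI : NeZero (2 : ZMod 3) := ⟨two_ne_zero_three⟩
  refine ⟨ZMod 3, inferInstance, inferInstance, hF, ?_⟩
  let E := CfsgLib.U42.cenP (F := ZMod 3) hF
  haveI : IsSimpleGroup (Cfsg.PSp 2 (ZMod 3)) := CfsgLib.Classical.isSimpleGroup_psp (by simp)
    (CfsgLib.Classical.sp_commutator_eq_top' (Or.inr (Or.inl ⟨by simp, by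
      rw [Nat.card_eq_fintype_card, hF]⟩)))
  refine CfsgLib.U42.unique (index_ne_two_of_residual hO2) (fun K hK => ?_) D E
  haveI := Subgroup.normal_of_index_eq_two hK
  rcases IsSimpleGroup.eq_bot_or_eq_top_of_normal K inferInstance with h | h
  · rw [h, Subgroup.index_bot] at hK
    have hU : Nat.card (Subgroup.centralizer ({CfsgLib.Involutions.PSpFour.zG (ZMod 3)} : Set (Cfsg.PSp 2 (ZMod 3))))
        ≤ Nat.card (Cfsg.PSp 2 (ZMod 3)) := Subgroup.card_le_card_group _
    rw [E.card_cent, hK] at hU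
    norm_num at hU
  · rw [h, Subgroup.index_top] at hK
    norm_num at hK

end CfsgLib.AEightSyl
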