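import Cfsg.Agent.Lib.AEightSyl.Pieces
import Cfsg.Agent.Lib.AEightSyl.CoresTools

/-!
# S2918, piece A2: elementary facts about the Sylow subgroup
-/

set_option autoImplicit false
set_option linter.style.haveILetI false
set_option linter.unusedSectionVars false
set_option maxRecDepth 100000
set_option synthInstance.maxSize 4000

namespace CfsgLib.AEightSyl

open Cfsg Subgroup CfsgLib.L34Sylow

universe u

namespace FactsAux

/-- The inverse in coordinates. -/
def einv (e : El) : El := emul e (emul e e)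

theorem el_einv : ∀ e : El, emul e (einv e) = (v0, t0) ∧ emul (v0, t0) e = e := by decide +kernel

/-- Conjugation in coordinates. -/
def ecj (e a : El) : El := emul (emul e a) (einv e)

/-- The coordinates of `A`. -/
def pA (e : El) : Bool := e.2 == t0

/-- The coordinates of a line. -/
def pL (i : Fin 3) (e : El) : Bool := decide (e.1 ∈ lineV i) && e.2 == t0

/-- The coordinates of a plane. -/
def pE (i : Fin 3) (e : El) : Bool := decide (e.1 ∈ lineV i) && (e.2 == t0 || e.2 == flag i)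

/-- The coordinates of a subgroup of index two. -/
def pR (i : Fin 3) (e : El) : Bool := e.2 == t0 || e.2 == flag i

/-- The coordinates of `Q`. -/
def pQ (e : El) : Bool := !offH e.1

theorem el_pL (i : Fin 3) (e : El) : pL i e = true ↔ e.1 ∈ lineV i ∧ e.2 = t0 := by
  simp [pL]

theorem el_pE (i : Fin 3) (e : El) :
    pE i e = true ↔ e.1 ∈ lineV i ∧ (e.2 = t0 ∨ e.2 = flag i) := by
  simp [pE]

theorem el_pR (i : Fin 3) (e : El) : pR i e = true ↔ e.2 = t0 ∨ e.2 = flag i := by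
  simp [pR]

theorem el_pQ (e : El) : pQ e = true ↔ offH e.1 = false := by
  simp [pQ]

theorem sub_A : pA (v0, t0) ∧ ∀ a b : El, pA a → pA b → pA (emul a b) := by decide +kernel

theorem sub_L : ∀ i, pL i (v0, t0) ∧ ∀ a b : El, pL i a → pL i b → pL i (emul a b) := by
  decide +kernel

theorem sub_E : ∀ i, pE i (v0, t0) ∧ ∀ a b : El, pE i a → pE i b → pE i (emul a b) := by
  decide +kernel

theorem sub_R : ∀ i, pR i (v0, t0) ∧ ∀ a b : El, pR i a → pR i b → pR i (emul a b) := by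
  decide +kernel

theorem sub_Q : pQ (v0, t0) ∧ ∀ a b : El, pQ a → pQ b → pQ (emul a b) := by decide +kernel

theorem elem_pA : ∀ a : El, pA a → emul a a = (v0, t0) ∧
    ∀ b : El, pA b → emul a b = emul b a := by decide +kernel

theorem elem_pE : ∀ i, ∀ a : El, pE i a → emul a a = (v0, t0) ∧
    ∀ b : El, pE i b → emul a b = emul b a := by decide +kernel

theorem E_le_Q : ∀ i, ∀ a : El, pE i a → pQ a := by decide +kernel

theorem norm_A : ∀ e a : El, pA a → pA (ecj e a) := by decide +kernel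

theorem norm_Q : ∀ e a : El, pQ a → pQ (ecj e a) := by decide +kernel

theorem norm_E : ∀ i, ∀ e a : El, pE i a → pE i (ecj e a) := by decide +kernel

theorem norm_R : ∀ i, ∀ e a : El, pR i a → pR i (ecj e a) := by decide +kernel

theorem el_center : ∀ e : El,
    (∀ f : El, emul e f = emul f e) ↔ (e = (v0, t0) ∨ e = (vz, t0)) := by decide +kernel

theorem el_cent_A : ∀ e : El, (∀ v : Vec, emul (v, t0) e = emul e (v, t0)) → e.2 = t0 := by
  decide +kernel

theorem el_invol : ∀ e : El, emul e e = (v0, t0) →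
    e.2 = t0 ∨ ∃ i, e.1 ∈ lineV i ∧ e.2 = flag i := by decide +kernel

/-- The involutions commuting with an element, and the identity. -/
def invCent (h : El) : Finset El :=
  Finset.univ.filter fun e => emul e e = (v0, t0) ∧ emul h e = emul e h

theorem el_only : ∀ h : El, emul h h = (v0, t0) → h.2 ≠ t0 → (invCent h).card < 16 := by
  decide +kernel

theorem el_cent_out : ∀ i : Fin 3, ∀ v ∈ lineV i,
    (Finset.univ.filter fun e : El => emul e (v, flag i) = emul (v, flag i) e).card = 16 ∧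
    (∀ w : Vec, emul (w, t0) (v, flag i) = emul (v, flag i) (w, t0) ↔ w ∈ lineV i) ∧
    ∃ a b : El, emul a (v, flag i) = emul (v, flag i) a ∧ emul b (v, flag i) = emul (v, flag i) b ∧
      emul (emul (emul a b) (einv a)) (einv b) = (vz, t0) := by decide +kernel

theorem el_cent_line : ∀ i : Fin 3, ∀ v ∈ lineV i, v ≠ v0 → v ≠ vz → ∀ e : El,
    (emul e (v, t0) = emul (v, t0) e ↔ pR i e = true) := by decide +kernel

theorem el_cent_off : ∀ v : Vec, offH v = true → ∀ e : El,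
    (emul e (v, t0) = emul (v, t0) e ↔ pA e = true) := by decide +kernel

theorem counts : (Finset.univ.filter fun e => pA e = true).card = 16 ∧
    (∀ i, (Finset.univ.filter fun e => pE i e = true).card = 8) ∧
    (∀ i, (Finset.univ.filter fun e => pR i e = true).card = 32) ∧
    (Finset.univ.filter fun e => pQ e = true).card = 32 := by decide +kernel

variable {G : Type u} [Group G] {S : Sylow 2 G} {φ : El → G}

theorem phi_one (hS : Setup S φ) : φ (v0, t0) = 1 := by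
  have h := hS.mul (v0, t0) (v0, t0)
  rw [(el_einv _).2] at h
  exact left_eq_mul.1 h.symm

theorem phi_inv (hS : Setup S φ) (e : El) : (φ e)⁻¹ = φ (einv e) :=
  inv_eq_of_mul_eq_one_right (by rw [hS.mul, (el_einv e).1, phi_one hS])

theorem mem_closure_coord (hS : Setup S φ) (p : El → Bool)
    (hp : p (v0, t0) ∧ ∀ a b : El, p a → p b → p (emul a b)) (T : Set G)
    (hT : ∀ g, g ∈ T ↔ ∃ e, p e = true ∧ φ e = g) (g : G) :
    g ∈ closure T ↔ ∃ e, p e = true ∧ φ e = g := by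
  refine ⟨fun h => ?_, fun h => subset_closure ((hT g).2 h)⟩
  refine closure_induction (fun x hx => (hT x).1 hx) ⟨_, hp.1, phi_one hS⟩ ?_ ?_ h
  · rintro _ _ _ _ ⟨a, ha, rfl⟩ ⟨b, hb, rfl⟩
    exact ⟨_, hp.2 a b ha hb, (hS.mul a b).symm⟩
  · rintro _ _ ⟨a, ha, rfl⟩
    exact ⟨_, hp.2 _ _ ha (hp.2 _ _ ha ha), (phi_inv hS a).symm⟩

theorem card_coord (hS : Setup S φ) {H : Subgroup G} (q : El → Prop) [DecidablePred q]
    (hH : ∀ g, g ∈ H ↔ ∃ e, q e ∧ φ e = g) :
    Nat.card H = (Finset.univ.filter q).card := by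
  have h : (H : Set G) = φ '' ((Finset.univ.filter q : Finset El) : Set El) := by
    ext g
    rw [SetLike.mem_coe, hH, Set.mem_image]
    simp
  rw [← Set.ncard_coe_finset, ← Set.ncard_image_of_injective _ hS.inj, ← h,
    ← Nat.card_coe_set_eq]
  rfl

theorem norm_coord [Finite G] (hS : Setup S φ) {H : Subgroup G} {p : El → Bool}
    (hH : ∀ g, g ∈ H ↔ ∃ e, p e = true ∧ φ e = g) (hn : ∀ e a : El, p a → p (ecj e a)) :
    (S : Subgroup G) ≤ normalizer (H : Set G) := fun g hg => by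
  obtain ⟨e, rfl⟩ := hS.surj g hg
  refine StrongTwoClasses.mem_normalizer_of_forall fun u hu => ?_
  obtain ⟨a, ha, rfl⟩ := (hH u).1 hu
  exact (hH _).2 ⟨ecj e a, hn e a ha, by rw [phi_inv hS, hS.mul, hS.mul]; rfl⟩

theorem elem_coord (hS : Setup S φ) {H : Subgroup G} {p : El → Bool}
    (hH : ∀ g, g ∈ H ↔ ∃ e, p e = true ∧ φ e = g)
    (he : ∀ a : El, p a → emul a a = (v0, t0) ∧ ∀ b : El, p b → emul a b = emul b a) :
    IsElementaryAbelian 2 H := by
  refine ⟨⟨⟨fun a b => Subtype.ext ?_⟩⟩, fun a ha => ?_⟩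
  · obtain ⟨x, hx, hxa⟩ := (hH a).1 a.2
    obtain ⟨y, hy, hyb⟩ := (hH b).1 b.2
    show (a : G) * b = b * a
    rw [← hxa, ← hyb, hS.mul, hS.mul, (he x hx).2 y hy]
  · obtain ⟨x, hx, rfl⟩ := (hH a).1 ha
    rw [sq, hS.mul, (he x hx).1, phi_one hS]

theorem mem_inf_cz (hS : Setup S φ) (h : El) (g : G) :
    g ∈ (S : Subgroup G) ⊓ cz (φ h) ↔ ∃ e, emul e h = emul h e ∧ φ e = g := by
  constructor
  · rintro ⟨hg, hc⟩
    obtain ⟨e, rfl⟩ := hS.surj g hg
    refine ⟨e, hS.inj ?_, rfl⟩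
    rw [← hS.mul, ← hS.mul]
    exact mem_centralizer_singleton_iff.1 hc
  · rintro ⟨e, he, rfl⟩
    refine ⟨hS.mem e, mem_centralizer_singleton_iff.2 ?_⟩
    rw [hS.mul, hS.mul, he]

end FactsAux

open FactsAux

/-- Piece A2. -/
theorem facts : StmtFacts.{u} := by
  intro G _ _ S φ hS
  classical
  haveI : Fact (Nat.Prime 2) := ⟨Nat.prime_two⟩
  have hA : ∀ g, g ∈ SA φ ↔ ∃ e, pA e = true ∧ φ e = g := by
    intro g
    refine mem_closure_coord hS pA sub_A _ (fun x => ?_) g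
    show (∃ v, φ (v, t0) = x) ↔ _
    constructor
    · rintro ⟨v, hv⟩
      exact ⟨(v, t0), beq_self_eq_true t0, hv⟩
    · rintro ⟨⟨v, s⟩, he, hx⟩
      obtain rfl : s = t0 := eq_of_beq he
      exact ⟨v, hx⟩
  have hL : ∀ i g, g ∈ SL φ i ↔ ∃ e, pL i e = true ∧ φ e = g := by
    intro i g
    refine mem_closure_coord hS (pL i) (sub_L i) _ (fun x => ?_) g
    show (∃ v ∈ lineV i, φ (v, t0) = x) ↔ _
    constructor
    · rintro ⟨v, hv, hx⟩
      exact ⟨(v, t0), (el_pL i (v, t0)).2 ⟨hv, rfl⟩, hx⟩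
    · rintro ⟨⟨v, s⟩, he, hx⟩
      obtain ⟨hv, hs : s = t0⟩ := (el_pL i _).1 he
      subst hs
      exact ⟨v, hv, hx⟩
  have hE : ∀ i g, g ∈ SE φ i ↔ ∃ e, pE i e = true ∧ φ e = g := by
    intro i g
    refine mem_closure_coord hS (pE i) (sub_E i) _ (fun x => ?_) g
    show (∃ v ∈ lineV i, φ (v, t0) = x ∨ φ (v, flag i) = x) ↔ _
    constructor
    · rintro ⟨v, hv, hx | hx⟩
      exacts [⟨(v, t0), (el_pE i (v, t0)).2 ⟨hv, Or.inl rfl⟩, hx⟩,
        ⟨(v, flag i), (el_pE i (v, flag i)).2 ⟨hv, Or.inr rfl⟩, hx⟩]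
    · rintro ⟨⟨v, s⟩, he, hx⟩
      obtain ⟨hv, hs⟩ := (el_pE i _).1 he
      rcases (hs : s = t0 ∨ s = flag i) with e | e <;> subst e
      exacts [⟨v, hv, Or.inl hx⟩, ⟨v, hv, Or.inr hx⟩]
  have hR : ∀ i g, g ∈ SR φ i ↔ ∃ e, pR i e = true ∧ φ e = g := by
    intro i g
    refine mem_closure_coord hS (pR i) (sub_R i) _ (fun x => ?_) g
    show (∃ v, φ (v, t0) = x ∨ φ (v, flag i) = x) ↔ _
    constructor
    · rintro ⟨v, hx | hx⟩
      exacts [⟨(v, t0), (el_pR i (v, t0)).2 (Or.inl rfl), hx⟩,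
        ⟨(v, flag i), (el_pR i (v, flag i)).2 (Or.inr rfl), hx⟩]
    · rintro ⟨⟨v, s⟩, he, hx⟩
      rcases ((el_pR i _).1 he : s = t0 ∨ s = flag i) with e | e <;> subst e
      exacts [⟨v, Or.inl hx⟩, ⟨v, Or.inr hx⟩]
  have hQ : ∀ g, g ∈ SQ φ ↔ ∃ e, pQ e = true ∧ φ e = g := by
    intro g
    refine mem_closure_coord hS pQ sub_Q _ (fun x => ?_) g
    show (∃ v s, offH v = false ∧ φ (v, s) = x) ↔ _
    constructor
    · rintro ⟨v, s, hv, hx⟩
      exact ⟨(v, s), (el_pQ (v, s)).2 hv, hx⟩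
    · rintro ⟨⟨v, s⟩, he, hx⟩
      exact ⟨v, s, (el_pQ (v, s)).1 he, hx⟩
  have hAS : SA φ ≤ S := fun g hg => by
    obtain ⟨e, -, rfl⟩ := (hA g).1 hg; exact hS.mem e
  have memA : ∀ g, g ∈ SA φ ↔ ∃ v, φ (v, t0) = g := fun g => (hA g).trans
    ⟨fun ⟨⟨v, s⟩, he, hx⟩ => ⟨v, by obtain rfl : s = t0 := eq_of_beq he; exact hx⟩,
      fun ⟨v, hv⟩ => ⟨(v, t0), beq_self_eq_true t0, hv⟩⟩
  have elemA : IsElementaryAbelian 2 (SA φ) := elem_coord hS hA elem_pA
  have cardA : Nat.card (SA φ) = 16 := (card_coord hS _ hA).trans counts.1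
  have only : ∀ U : Subgroup G, U ≤ (S : Subgroup G) → IsElementaryAbelian 2 U →
      Nat.card U = 16 → U = SA φ := by
    intro U hU hUe hU16
    refine eq_of_le_of_card_ge (fun g hg => ?_) (by rw [cardA, hU16])
    obtain ⟨h, rfl⟩ := hS.surj g (hU hg)
    by_contra hh
    have hh2 : h.2 ≠ t0 := fun e => hh ((hA _).2 ⟨h, by simp [pA, e], rfl⟩)
    have hsq : ∀ e, φ e ∈ U → emul e e = (v0, t0) := fun e he => hS.inj (by
      rw [← hS.mul, ← sq, hUe.2 _ he, phi_one hS])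
    have hlt := el_only h (hsq h hg) hh2
    have hle : Nat.card U ≤ (invCent h).card := by
      have hsub : (U : Set G) ⊆ φ '' (invCent h : Set El) := fun r hr => by
        obtain ⟨e, rfl⟩ := hS.surj r (hU hr)
        refine ⟨e, Finset.mem_filter.2 ⟨Finset.mem_univ _, hsq e hr, hS.inj ?_⟩, rfl⟩
        rw [← hS.mul, ← hS.mul]
        exact congrArg Subtype.val (hUe.1.is_comm.comm ⟨_, hg⟩ ⟨_, hr⟩)
      have := Set.ncard_le_ncard hsub
      rw [Set.ncard_image_of_injective _ hS.inj, Set.ncard_coe_finset, ← Nat.card_coe_set_eq]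
        at this
      exact this
    omega
  have weak : ∀ g : G, (SA φ).map (MulAut.conj g).toMonoidHom ≤ S →
      (SA φ).map (MulAut.conj g).toMonoidHom = SA φ := fun g hg => by
    refine only _ hg ⟨⟨⟨fun a b => Subtype.ext ?_⟩⟩, ?_⟩ ?_
    · obtain ⟨x, hx, hxa⟩ := a.2
      obtain ⟨y, hy, hyb⟩ := b.2
      show (a : G) * b = b * a
      have e : x * y = y * x :=
        congrArg Subtype.val (elemA.1.is_comm.comm (⟨x, hx⟩ : SA φ) ⟨y, hy⟩ : _ = _)
      rw [← hxa, ← hyb, ← map_mul, ← map_mul, e]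
    · rintro _ ⟨x, hx, rfl⟩
      rw [← map_pow, elemA.2 x hx, map_one]
    · rw [card_map_of_injective (MulEquiv.injective _), cardA]
  have nA : (S : Subgroup G) ≤ normalizer (SA φ : Set G) := norm_coord hS hA norm_A
  refine
    { card_S := ?_
      mem_A := memA
      mem_L := fun i g => (hL i g).trans ?_
      mem_E := fun i g => (hE i g).trans ?_
      mem_R := fun i g => (hR i g).trans ?_
      mem_Q := fun g => (hQ g).trans ?_
      card_A := cardA
      card_E := fun i => (card_coord hS _ (hE i)).trans (counts.2.1 i)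
      card_R := fun i => (card_coord hS _ (hR i)).trans (counts.2.2.1 i)
      card_Q := (card_coord hS _ hQ).trans counts.2.2.2
      elem_A := elemA
      elem_E := fun i => elem_coord hS (hE i) (elem_pE i)
      le_S := ⟨hAS, fun g hg => by obtain ⟨e, -, rfl⟩ := (hQ g).1 hg; exact hS.mem e,
        fun i g hg => by obtain ⟨e, -, rfl⟩ := (hR i g).1 hg; exact hS.mem e⟩
      sub_Q := fun i g hg => by
        obtain ⟨e, he, rfl⟩ := (hE i g).1 hg
        exact (hQ _).2 ⟨e, E_le_Q i e he, rfl⟩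
      norm_S := ⟨nA, norm_coord hS hQ norm_Q,
        fun i => ⟨norm_coord hS (hE i) (norm_E i), norm_coord hS (hR i) (norm_R i)⟩⟩
      center := ?_
      cent_A := ?_
      only_A := only
      norm_A := ?_
      weak_A := weak
      fus_A := ?_
      invol := ?_
      exists_conj := ?_
      cent_out := ?_
      cent_line := ?_
      cent_off := ?_ }
  · have h : ∀ g, g ∈ (S : Subgroup G) ↔ ∃ e, (fun _ => True) e ∧ φ e = g := fun g =>
      ⟨fun hg => by obtain ⟨e, he⟩ := hS.surj g hg; exact ⟨e, trivial, he⟩,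
        fun ⟨e, _, he⟩ => he ▸ hS.mem e⟩
    rw [card_coord hS (fun _ => True) h]
    rfl
  · constructor
    · rintro ⟨⟨v, s⟩, he, hx⟩
      obtain ⟨hv, hs : s = t0⟩ := (el_pL i _).1 he
      subst hs
      exact ⟨v, hv, hx⟩
    · rintro ⟨v, hv, hx⟩
      exact ⟨(v, t0), (el_pL i (v, t0)).2 ⟨hv, rfl⟩, hx⟩
  · constructor
    · rintro ⟨⟨v, s⟩, he, hx⟩
      obtain ⟨hv, hs⟩ := (el_pE i _).1 he
      rcases (hs : s = t0 ∨ s = flag i) with e | e <;> subst e
      exacts [⟨v, hv, Or.inl hx⟩, ⟨v, hv, Or.inr hx⟩]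
    · rintro ⟨v, hv, hx | hx⟩
      exacts [⟨(v, t0), (el_pE i (v, t0)).2 ⟨hv, Or.inl rfl⟩, hx⟩,
        ⟨(v, flag i), (el_pE i (v, flag i)).2 ⟨hv, Or.inr rfl⟩, hx⟩]
  · constructor
    · rintro ⟨⟨v, s⟩, he, hx⟩
      rcases ((el_pR i _).1 he : s = t0 ∨ s = flag i) with e | e <;> subst e
      exacts [⟨v, Or.inl hx⟩, ⟨v, Or.inr hx⟩]
    · rintro ⟨v, hx | hx⟩
      exacts [⟨(v, t0), (el_pR i (v, t0)).2 (Or.inl rfl), hx⟩,
        ⟨(v, flag i), (el_pR i (v, flag i)).2 (Or.inr rfl), hx⟩]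
  · constructor
    · rintro ⟨⟨v, s⟩, he, hx⟩
      exact ⟨v, s, (el_pQ (v, s)).1 he, hx⟩
    · rintro ⟨v, s, hv, hx⟩
      exact ⟨(v, s), (el_pQ (v, s)).2 hv, hx⟩
  · intro g hg
    obtain ⟨e, rfl⟩ := hS.surj g hg
    rw [← phi_one hS, hS.inj.eq_iff, show zc φ = φ (vz, t0) from rfl, hS.inj.eq_iff, ← el_center e]
    exact ⟨fun h f => hS.inj (by rw [← hS.mul, ← hS.mul]; exact h _ (hS.mem f)), fun h k hk => by
      obtain ⟨f, rfl⟩ := hS.surj k hk; rw [hS.mul, hS.mul, h f]⟩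
  · refine le_antisymm ?_ (le_inf hAS fun g hg => mem_centralizer_iff.2 fun a ha =>
      congrArg Subtype.val (elemA.1.is_comm.comm ⟨a, ha⟩ ⟨g, hg⟩ : _ = _))
    rintro g ⟨hg, hc⟩
    obtain ⟨e, rfl⟩ := hS.surj g hg
    refine (hA _).2 ⟨e, ?_, rfl⟩
    have := el_cent_A e fun v => hS.inj (by
      rw [← hS.mul, ← hS.mul]; exact mem_centralizer_iff.1 hc _ ((memA _).2 ⟨v, rfl⟩))
    simp [pA, this]
  · intro g hg
    have h := weak g (by
      rintro _ ⟨a, ha, rfl⟩
      exact (mem_normalizer_iff.1 hg a).1 (hAS ha))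
    exact StrongTwoClasses.mem_normalizer_of_forall fun a ha => h.le (mem_map_of_mem _ ha)
  · intro x hx g hg
    obtain ⟨n, hn, he⟩ := CoresTools.control elemA weak (K := ⊤) le_top hx (mem_top g) hg
    exact ⟨n, hn.1, he⟩
  · intro g hg hgg
    obtain ⟨e, rfl⟩ := hS.surj g hg
    rcases el_invol e (hS.inj (by rw [← hS.mul, hgg, phi_one hS])) with h | ⟨i, hv, hf⟩
    · exact Or.inl ((hA _).2 ⟨e, by simp [pA, h], rfl⟩)
    · exact Or.inr ⟨i, e.1, hv, congrArg φ (Prod.ext rfl hf.symm)⟩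
  · intro g hg
    have hp : IsPGroup 2 (zpowers g) :=
      IsPGroup.of_card (n := 1) (by rw [Nat.card_zpowers, hg]; norm_num)
    obtain ⟨P, hP⟩ := hp.exists_le_sylow
    obtain ⟨k, hk⟩ := MulAction.exists_smul_eq G P S
    refine ⟨k * g * k⁻¹, ?_, isConj_iff.2 ⟨k⁻¹, by group⟩⟩
    rw [← hk]
    exact Subgroup.smul_mem_pointwise_smul g (MulAut.conj k) _ (hP (mem_zpowers g))
  · intro i v hv
    obtain ⟨h16, hline, a, b, ha, hb, hab⟩ := el_cent_out i v hv
    refine ⟨(card_coord hS (fun e => emul e (v, flag i) = emul (v, flag i) e)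
      (mem_inf_cz hS (v, flag i))).trans h16, ?_, φ a, φ b,
      (mem_inf_cz hS _ _).2 ⟨a, ha, rfl⟩, (mem_inf_cz hS _ _).2 ⟨b, hb, rfl⟩, ?_⟩
    · ext g
      rw [hL i]
      constructor
      · rintro ⟨hg, hc⟩
        obtain ⟨w, rfl⟩ := (memA g).1 hg
        refine ⟨(w, t0), ?_, rfl⟩
        have := (hline w).1 (hS.inj (by
          rw [← hS.mul, ← hS.mul]; exact mem_centralizer_singleton_iff.1 hc))
        exact (el_pL i _).2 ⟨this, rfl⟩
      · rintro ⟨⟨w, s⟩, he, rfl⟩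
        obtain ⟨hw, hs : s = t0⟩ := (el_pL i _).1 he
        subst hs
        refine ⟨(memA _).2 ⟨w, rfl⟩, mem_centralizer_singleton_iff.2 ?_⟩
        rw [hS.mul, hS.mul, (hline w).2 hw]
    · rw [phi_inv hS, phi_inv hS, hS.mul, hS.mul, hS.mul, hab]
  · intro i v hv h0 hz
    ext g
    rw [mem_inf_cz hS (v, t0) g, hR i]
    exact exists_congr fun e => and_congr_left' (el_cent_line i v hv h0 hz e)
  · intro v hv
    ext g
    rw [mem_inf_cz hS (v, t0) g, hA]
    exact exists_congr fun e => and_congr_left' (el_cent_off v hv e)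

end CfsgLib.AEightSyl
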