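import Cfsg.Agent.Lib.AEightSyl.KillCases

/-!
# S2918, piece D: the coordinates embed in the alternating group of degree eight
-/

set_option autoImplicit false
set_option linter.style.haveILetI false
set_option linter.unusedSectionVars false
set_option synthInstance.maxSize 4000

namespace CfsgLib.AEightSyl.Kill

open Cfsg Subgroup Equiv

universe u

/-- A point: the half and the two coordinates inside it. -/
abbrev Pt : Type := Bool × Bool × Bool

/-- The action of an element on the eight points. -/
def pAct : El → Pt → Pt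
  | ((a, b, c, d), (s, t)), (h, p, q) =>
    let h' := xor h t
    let q' := if s && !p then !q else q
    (h', xor p (if h' then d else xor c d), xor q' (if h' then b else xor a b))

theorem pAct_mul : ∀ (e f : El) (i : Pt), pAct e (pAct f i) = pAct (emul e f) i := by
  decide +kernel

theorem pAct_one : ∀ e : El, (∀ i, pAct e i = i) → e = (v0, t0) := by decide +kernel

theorem pAct_inv : ∀ (e : El) (i : Pt), pAct (emul e (emul e e)) (pAct e i) = i ∧
    pAct e (pAct (emul e (emul e e)) i) = i := by
  decide +kernel

/-- The permutation of the points. -/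
def pPerm (e : El) : Perm Pt :=
  ⟨pAct e, pAct (emul e (emul e e)), fun i => (pAct_inv e i).1, fun i => (pAct_inv e i).2⟩

theorem pPerm_sign : ∀ e : El, Perm.sign (pPerm e) = 1 := by decide +kernel

/-- The eight points. -/
def ptEquiv : Pt ≃ Fin 8 where
  toFun i := ⟨(if i.1 then 4 else 0) + (if i.2.1 then 2 else 0) + (if i.2.2 then 1 else 0), by
    rcases i with ⟨h, p, q⟩; cases h <;> cases p <;> cases q <;> decide⟩
  invFun i := (decide (4 ≤ i.1), decide (2 ≤ i.1 % 4), decide (i.1 % 2 = 1))
  left_inv := by decide
  right_inv := by decide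

/-- The image of an element. -/
def elPerm (e : El) : Perm (Fin 8) := ptEquiv.permCongr (pPerm e)

theorem elPerm_apply (e : El) (i : Fin 8) : elPerm e i = ptEquiv (pAct e (ptEquiv.symm i)) := by
  simp [elPerm, pPerm, Equiv.permCongr_apply]

theorem elPerm_mul (e f : El) : elPerm e * elPerm f = elPerm (emul e f) := Equiv.ext fun i => by
  simp [elPerm_apply, pAct_mul]

theorem elPerm_one (e : El) (h : ∀ i, elPerm e i = i) : e = (v0, t0) := pAct_one e fun i => by
  simpa [elPerm_apply] using h (ptEquiv i)

/-- The permutations are even. -/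
theorem elPerm_sign (e : El) : Perm.sign (elPerm e) = 1 := by
  rw [elPerm, Equiv.Perm.sign_permCongr, pPerm_sign]

theorem model (G : Type u) [Group G] [Finite G] (S : Sylow 2 G) (φ : El → G) (hS : Setup S φ) :
    ∃ P : Sylow 2 ↥(alternatingGroup (Fin 8)),
      Nonempty (↥(S : Subgroup G) ≃* ↥(P : Subgroup ↥(alternatingGroup (Fin 8)))) := by
  classical
  haveI : Fact (Nat.Prime 2) := ⟨Nat.prime_two⟩
  have hex : ∀ g : (S : Subgroup G), ∃ e, φ e = (g : G) := fun g => hS.surj _ g.2
  choose t ht using hex
  let f : (S : Subgroup G) →* ↥(alternatingGroup (Fin 8)) :=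
    MonoidHom.mk' (fun g => ⟨elPerm (t g), Equiv.Perm.mem_alternatingGroup.2 (elPerm_sign _)⟩) (fun g k => by
      refine Subtype.ext (Equiv.ext fun i => ?_)
      show elPerm (t (g * k)) i = (elPerm (t g) * elPerm (t k)) i
      rw [elPerm_mul, show t (g * k) = emul (t g) (t k) from hS.inj (by
        rw [ht, ← hS.mul, ht, ht]; rfl)])
  have hinj : Function.Injective f := by
    rw [← MonoidHom.ker_eq_bot_iff, Subgroup.eq_bot_iff_forall]
    intro g hg
    have h := elPerm_one (t g) (fun i => Equiv.congr_fun (congrArg Subtype.val (MonoidHom.mem_ker.1 hg)) i)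
    exact Subtype.ext (by rw [← ht g, h, one hS, OneMemClass.coe_one])
  have hcard : Nat.card (S : Subgroup G) = 64 := by
    rw [← Nat.card_congr (Equiv.ofBijective (fun e : El => (⟨φ e, hS.mem e⟩ : (S : Subgroup G)))
      ⟨fun a b h => hS.inj (congrArg Subtype.val h),
        fun g => ⟨t g, Subtype.ext (ht g)⟩⟩), Nat.card_eq_fintype_card]
    rfl
  have hR : Nat.card f.range = 64 := by
    rw [← hcard]
    exact (Nat.card_congr (MonoidHom.ofInjective hinj).toEquiv).symm
  have hp : IsPGroup 2 f.range := IsPGroup.of_card (n := 6) (by rw [hR]; norm_num)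
  refine ⟨hp.toSylow ?_, ⟨(MonoidHom.ofInjective hinj).trans (MulEquiv.subgroupCongr rfl)⟩⟩
  intro hd
  have h := Subgroup.card_mul_index f.range
  rw [hR, nat_card_alternatingGroup, Nat.card_fin, show Nat.factorial 8 / 2 = 64 * 315 from rfl] at h
  rw [Nat.eq_of_mul_eq_mul_left (by norm_num) h] at hd
  norm_num at hd

/-- Piece D: the normed shape is impossible. -/
theorem kill : StmtKill.{u} := kill_of fun G _ _ S φ hS => model G S φ hS

end CfsgLib.AEightSyl.Kill
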