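import Cfsg.Agent.Lib.AEightSyl.Defs

/-!
# S2918: one statement per piece and the assembly

The plan, with the proof of each piece, is in `tools/S2918_plan.md`.
-/

set_option autoImplicit false
set_option linter.style.haveILetI false

namespace CfsgLib.AEightSyl

open Cfsg Subgroup CfsgLib.L34Sylow

universe u

/-- The stabiliser of `z` in the automiser of `A` is a four-group, or `A₄` when `Rot`. -/
def StabZ {G : Type u} [Group G] (S : Sylow 2 G) (φ : El → G) : Prop :=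
  (¬ Rot φ → ∀ n ∈ normalizer (SA φ : Set G) ⊓ cz (zc φ),
    ∃ s ∈ S, s⁻¹ * n ∈ centralizer (SA φ : Set G)) ∧
  ∀ n ∈ normalizer (SA φ : Set G) ⊓ cz (zc φ),
    ∃ s ∈ S, s⁻¹ * n ^ 3 ∈ centralizer (SA φ : Set G)

/-- Piece A1: coordinates. -/
def StmtStart : Prop :=
  ∀ (G : Type u) [Group G] [Finite G], pResidual 2 G = ⊤ → pCore 2 G = ⊥ → oddCore G = ⊥ →
    ∀ S : Sylow 2 G, (∀ P : Sylow 2 ↥(alternatingGroup (Fin 8)),
      Nonempty (↥(S : Subgroup G) ≃* ↥(P : Subgroup ↥(alternatingGroup (Fin 8))))) →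
    (∀ z : G, z ∈ (S : Subgroup G) → (∀ s ∈ (S : Subgroup G), s * z = z * s) → orderOf z = 2 →
      IsSolvable ↥(centralizer ({z} : Set G))) →
    ∃ φ : El → G, Setup S φ

/-- Piece A2: elementary facts. -/
def StmtFacts : Prop :=
  ∀ (G : Type u) [Group G] [Finite G] (S : Sylow 2 G) (φ : El → G), Setup S φ → Facts S φ

/-- Piece B1: the stabiliser of `z`. -/
def StmtStabZ : Prop :=
  ∀ (G : Type u) [Group G] [Finite G] (S : Sylow 2 G) (φ : El → G), Setup S φ → Facts S φ →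
    StabZ S φ

/-- Piece B2: the orbits on `A`. -/
def StmtOrbits : Prop :=
  ∀ (G : Type u) [Group G] [Finite G] (S : Sylow 2 G) (φ : El → G), Setup S φ → Facts S φ →
    StabZ S φ → Orbits φ

/-- Piece C: the shape of the centraliser of `z`. -/
def StmtShape : Prop :=
  ∀ (G : Type u) [Group G] [Finite G] (S : Sylow 2 G) (φ : El → G), Setup S φ → Facts S φ →
    StabZ S φ → Normed φ ∨ BigCent φ

/-- Piece D: the first shape is impossible. -/
def StmtKill : Prop :=
  ∀ (G : Type u) [Group G] [Finite G] (S : Sylow 2 G) (φ : El → G), Setup S φ → Facts S φ →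
    StabZ S φ → Orbits φ → Normed φ → False

/-- Piece E: the centraliser of a non-central involution. -/
def StmtCentT : Prop :=
  ∀ (G : Type u) [Group G] [Finite G] (S : Sylow 2 G) (φ : El → G), Setup S φ → Facts S φ →
    StabZ S φ → BigCent φ → ∀ (k : Fin 3) (v : Vec) (d : G), v ∈ lineV k → v ≠ v0 → v ≠ vz →
      ¬ ZType φ (av φ v) → Stab φ k (av φ v) d → ∃ H₀, CentT φ k (av φ v) d H₀

/-- Piece F: the cores vanish when `z` meets the lines. -/
def StmtCoresLines : Prop :=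
  StmtCentT.{u} → ∀ (G : Type u) [Group G] [Finite G] (S : Sylow 2 G) (φ : El → G), Setup S φ →
    Facts S φ → StabZ S φ → ((∃ j, OneLine φ j) ∨ ∃ k, TwoLines φ k) → BigCent φ → CoreTrivial φ

/-- Piece G: the cores vanish in the other case. -/
def StmtCoresFive : Prop :=
  StmtCentT.{u} → ∀ (G : Type u) [Group G] [Finite G] (S : Sylow 2 G) (φ : El → G), Setup S φ →
    Facts S φ → StabZ S φ → FiveOrbit φ → BigCent φ → CoreTrivial φ

/-- Piece I: recognition of the alternating groups. -/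
def StmtEndAlt : Prop :=
  ∀ (G : Type u) [Group G] [Finite G] (S : Sylow 2 G) (φ : El → G), Setup S φ → Facts S φ →
    StabZ S φ → ((∃ j, OneLine φ j) ∨ ∃ k, TwoLines φ k) → BigCent φ → CoreTrivial φ →
      Nonempty (G ≃* ↥(alternatingGroup (Fin 8))) ∨ Nonempty (G ≃* ↥(alternatingGroup (Fin 9)))

/-- Piece H1: the centraliser of `z` follows the model of `PSp₄(3)`. -/
def StmtModel : Prop :=
  ∀ (G : Type u) [Group G] [Finite G] (S : Sylow 2 G) (φ : El → G), Setup S φ → Facts S φ →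
    StabZ S φ → Rot φ → BigCent φ → CoreTrivial φ → Nonempty (CfsgLib.U42.Cen (zc φ))

/-- Piece H2: recognition of `PSp₄(3)` from the model. -/
def StmtEndPSp : Prop :=
  ∀ (G : Type u) [Group G] [Finite G], pResidual 2 G = ⊤ →
    ∀ t : G, Nonempty (CfsgLib.U42.Cen t) →
      ∃ (F : Type) (_ : Field F) (_ : Fintype F), Fintype.card F = 3 ∧ Nonempty (G ≃* Cfsg.PSp 2 F)

/-- The theorem from the pieces. -/
theorem main (h1 : StmtStart.{u}) (h2 : StmtFacts.{u}) (h3 : StmtStabZ.{u})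
    (h4 : StmtOrbits.{u}) (h5 : StmtShape.{u}) (h6 : StmtKill.{u}) (h7 : StmtCentT.{u})
    (h8 : StmtCoresLines.{u}) (h9 : StmtCoresFive.{u}) (h10 : StmtEndAlt.{u})
    (h11 : StmtModel.{u}) (h12 : StmtEndPSp.{u}) {G : Type u} [Group G] [Finite G]
    (hO2 : pResidual 2 G = ⊤) (hcore2 : pCore 2 G = ⊥) (hodd : oddCore G = ⊥) (S : Sylow 2 G)
    (hS : ∀ P : Sylow 2 ↥(alternatingGroup (Fin 8)),
      Nonempty (↥(S : Subgroup G) ≃* ↥(P : Subgroup ↥(alternatingGroup (Fin 8)))))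
    (hsol : ∀ z : G, z ∈ (S : Subgroup G) → (∀ s ∈ (S : Subgroup G), s * z = z * s) →
      orderOf z = 2 → IsSolvable ↥(centralizer ({z} : Set G))) :
    Nonempty (G ≃* ↥(alternatingGroup (Fin 8))) ∨ Nonempty (G ≃* ↥(alternatingGroup (Fin 9))) ∨
      (∃ (F : Type) (_ : Field F) (_ : Fintype F),
        Fintype.card F = 3 ∧ Nonempty (G ≃* Cfsg.PSp 2 F)) := by
  obtain ⟨φ, hφ⟩ := h1 G hO2 hcore2 hodd S hS hsol
  have hF := h2 G S φ hφ
  have hZ := h3 G S φ hφ hF
  have hO := h4 G S φ hφ hF hZ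
  rcases h5 G S φ hφ hF hZ with hN | hB
  · exact (h6 G S φ hφ hF hZ hO hN).elim
  have hlines : ((∃ j, OneLine φ j) ∨ ∃ k, TwoLines φ k) →
      Nonempty (G ≃* ↥(alternatingGroup (Fin 8))) ∨
        Nonempty (G ≃* ↥(alternatingGroup (Fin 9))) := fun h =>
    h10 G S φ hφ hF hZ h hB (h8 h7 G S φ hφ hF hZ h hB)
  rcases hO with h | h | h
  · exact (hlines (Or.inl h)).imp id Or.inl
  · exact (hlines (Or.inr h)).imp id Or.inl
  · exact Or.inr (Or.inr (h12 G hO2 (zc φ)
      (h11 G S φ hφ hF hZ h.rot hB (h9 h7 G S φ hφ hF hZ h hB))))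

end CfsgLib.AEightSyl
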