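import Cfsg.Agent.Lib.AEightSyl.KillFive
import Cfsg.Agent.Lib.AEightSyl.Pieces
import Cfsg.Agent.Lib.Transfer.ThompsonTransfer
import Cfsg.Agent.S3197

/-!
# S2918, piece D: the centraliser of `z` does not normalise `A` modulo its core
-/

set_option autoImplicit false
set_option linter.style.haveILetI false
set_option linter.unusedSectionVars false

namespace CfsgLib.AEightSyl.Kill

open Cfsg Subgroup CfsgLib.L34Sylow
open CfsgLib.AEightSyl (av zc SA SR Setup Facts FiveOrbit)

universe u

variable {G : Type u} [Group G] [Finite G] {S : Sylow 2 G} {φ : El → G}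

/-- A small automiser is killed by transfer. -/
theorem notRot_kill (hS : Setup S φ) (hF : Facts S φ) (hZ : StabZ S φ) (hN : Normed φ) (hR : ¬ Rot φ) :
    False := by
  haveI : Fact (Nat.Prime 2) := ⟨Nat.prime_two⟩
  have hv0 : ∀ i : Fin 3, v0 ∈ lineV i := by decide
  have hrel : (SR φ 1).relIndex (S : Subgroup G) = 2 := by
    have h := Subgroup.card_mul_index ((SR φ 1).subgroupOf (S : Subgroup G))
    rw [Nat.card_congr (Subgroup.subgroupOfEquivOfLe (hF.le_S.2.2 1)).toEquiv, hF.card_R,
      hF.card_S] at h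
    show ((SR φ 1).subgroupOf (S : Subgroup G)).index = 2
    omega
  have hu2 : orderOf (φ (v0, flag 0)) = 2 :=
    orderOf_eq_prime (by rw [sq]; exact out_sq hS (hv0 0)) fun h => by
      have := hS.inj (h.trans (one hS).symm)
      exact flag_ne 0 (congrArg Prod.snd this)
  obtain ⟨M, hM, hi, hu⟩ := Transfer.exists_index_two_of_not_conj_mem S (hF.le_S.2.2 1) hrel hu2
    (fun g hg => by
      obtain ⟨v, hv | hv⟩ := (hF.mem_R 1 _).1 hg
      · exact out_not_A hS hF hN (hv0 0) (g := g) (by
          show g * φ (v0, flag 0) * g⁻¹ ∈ SA φ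
          rw [← hv]; exact av_mem hS hF v)
      · have hin := hF.invol _ (hS.mem (v, flag 1)) (by
          rw [hv, show g * φ (v0, flag 0) * g⁻¹ * (g * φ (v0, flag 0) * g⁻¹) =
            g * (φ (v0, flag 0) * φ (v0, flag 0)) * g⁻¹ by group, out_sq hS (hv0 0), mul_one, mul_inv_cancel])
        rcases hin with hA | ⟨j, v', hv', he⟩
        · exact out_notMem hS hF v 1 hA
        · have h2 := hS.inj he
          obtain rfl : j = 1 := flag_inj _ _ (congrArg Prod.snd h2)
          obtain rfl : v' = v := congrArg Prod.fst h2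
          exact absurd (out_flag hS hF hN (hZ.1 hR) (hv0 0) hv' (g := g) hv.symm) (by decide))
  have := Transfer.pResidual_le (p := 2) (N := M) ⟨1, by rw [hi, pow_one]⟩
  rw [hS.residual] at this
  exact hu (this (mem_top _))

/-- Five involutions are killed by S3197. -/
theorem five_kill (hS : Setup S φ) (hF : Facts S φ) (hN : Normed φ) (hO : FiveOrbit φ)
    (P : Sylow 2 ↥(alternatingGroup (Fin 8)))
    (hP : Nonempty (↥(S : Subgroup G) ≃* ↥(P : Subgroup ↥(alternatingGroup (Fin 8))))) : False := by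
  haveI : Fact (Nat.Prime 2) := ⟨Nat.prime_two⟩
  have h := Cfsg.Agent.S3197.result S P hP (three_classes hS hF hN hO) (SA φ) hF.elem_A hF.card_A _ rfl
    (quot_five hS hF hO)
  rw [hS.core_bot, sup_bot_eq] at h
  haveI := h
  have h1 := CfsgLib.Base.le_pCore (G := G) (S.isPGroup'.to_le hF.le_S.1)
  rw [hS.pcore_bot, le_bot_iff] at h1
  have h2 := hF.card_A
  rw [h1, Subgroup.card_bot] at h2
  omega

/-- Piece D, given a Sylow subgroup of `A₈` of the right type. -/
theorem kill_of (hP : ∀ (G : Type u) [Group G] [Finite G] (S : Sylow 2 G) (φ : El → G), Setup S φ →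
      ∃ P : Sylow 2 ↥(alternatingGroup (Fin 8)),
        Nonempty (↥(S : Subgroup G) ≃* ↥(P : Subgroup ↥(alternatingGroup (Fin 8))))) :
    StmtKill.{u} := by
  intro G _ _ S φ hS hF hZ hO hN
  rcases hO with ⟨j, hj⟩ | ⟨k, hk⟩ | h5
  · exact notRot_kill hS hF hZ hN hj.not_rot
  · exact notRot_kill hS hF hZ hN hk.not_rot
  · obtain ⟨P, hP⟩ := hP G S φ hS
    exact five_kill hS hF hN h5 P hP

end CfsgLib.AEightSyl.Kill
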