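import Cfsg.Agent.Lib.AEightSyl.KillTools
import Cfsg.Agent.Lib.Transfer.NormalPComplement

/-!
# S2918, piece D: the case of five involutions: the classes of involutions and the quotient `A₅`
-/

set_option autoImplicit false
set_option linter.style.haveILetI false
set_option linter.unusedSectionVars false

namespace CfsgLib.AEightSyl.Kill

open Cfsg Subgroup CfsgLib.L34Sylow
open CfsgLib.AEightSyl (av zc SA SR Setup Facts FiveOrbit)

universe u

variable {G : Type u} [Group G] [Finite G] {S : Sylow 2 G} {φ : El → G}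

theorem isConj_A (hS : Setup S φ) {i : Fin 3} {v : Vec} (hv : v ∈ lineV i) :
    IsConj (φ (v, flag i)) (φ (v0, flag i)) := by
  obtain ⟨w, hw⟩ := conj_flag i v hv
  refine (isConj_iff.2 ⟨φ (w, t0), ?_⟩).symm
  rw [hS.mul, hw, ← hS.mul, mul_inv_cancel_right]

/-- Consecutive flags give conjugate involutions. -/
theorem isConj_succ (hS : Setup S φ) (hF : Facts S φ) (hR : Rot φ) (i : Fin 3) :
    IsConj (φ (v0, flag i)) (φ (v0, flag (i + 1))) := by
  haveI : Fact (Nat.Prime 2) := ⟨Nat.prime_two⟩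
  obtain ⟨n, -, hn⟩ := hR
  obtain ⟨a, ha, c, hc, he⟩ := hn i
  obtain ⟨w, hw⟩ : ∃ w, cj n (φ (v0, flag i)) = w := ⟨_, rfl⟩
  obtain ⟨b, rfl⟩ := (hF.mem_A a).1 ha
  rw [hw] at he
  set C := centralizer (SA φ : Set G)
  let T : Subgroup G :=
    { carrier := {g | ∃ s, Acts φ g s}
      one_mem' := ⟨t0, fun w => by simp [L34Sylow.cj, act_zero]⟩
      mul_mem' := fun {g k} ⟨s, hs⟩ ⟨t, ht⟩ => ⟨_, hs.mul ht⟩
      inv_mem' := fun {g} ⟨s, hs⟩ => ⟨s, hs.inv⟩ }
  obtain ⟨K, hK⟩ : ∃ K : Subgroup G, (S : Subgroup G) ⊔ C = K := ⟨_, rfl⟩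
  have hSK : (S : Subgroup G) ≤ K := hK ▸ le_sup_left
  have hKT : K ≤ T := hK ▸ sup_le
    (fun g hg => by obtain ⟨e, rfl⟩ := hS.surj g hg; exact ⟨e.2, acts_phi hS e⟩)
    (fun g hg => ⟨t0, acts_cent hS hF hg⟩)
  have hwK : w ∈ K := by
    rw [he, ← hK]
    exact mul_mem (mul_mem (le_sup_left (α := Subgroup G) (hS.mem _))
      (le_sup_left (α := Subgroup G) (hS.mem _))) (le_sup_right (α := Subgroup G) hc)
  have hw2 : w * w = 1 := by
    rw [← hw, show cj n (φ (v0, flag i)) * cj n (φ (v0, flag i)) =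
      n * (φ (v0, flag i) * φ (v0, flag i)) * n⁻¹ by simp [L34Sylow.cj, mul_assoc],
      out_sq hS (show v0 ∈ lineV i by fin_cases i <;> decide), mul_one, mul_inv_cancel]
  have hwA : Acts φ w (flag (i + 1)) := by
    rw [he]
    have := ((acts_phi hS (v0, flag (i + 1))).mul (acts_phi hS (b, t0))).mul (acts_cent hS hF hc)
    simpa [t0] using this
  obtain ⟨Q, hQ⟩ := (IsPGroup.of_card (p := 2) (n := 1) (G := zpowers (⟨w, hwK⟩ : K)) (by
    rw [Nat.card_zpowers, pow_one]
    refine orderOf_eq_prime (Subtype.ext (by simpa [sq] using hw2)) fun h => ?_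
    have h1 : w = 1 := congrArg Subtype.val h
    rw [h1] at hwA
    exact flag_ne _ (hwA.unique hS fun v => by simp [L34Sylow.cj, act_zero]))).exists_le_sylow
  obtain ⟨g, hg⟩ := MulAction.exists_smul_eq K Q (S.subtype hSK)
  have hgS : cj (g : G) w ∈ S := by
    have h1 : cj g (⟨w, hwK⟩ : K) ∈ ((S.subtype hSK : Sylow 2 K) : Subgroup K) := by
      rw [← hg, Sylow.coe_subgroup_smul]
      exact ⟨⟨w, hwK⟩, hQ (mem_zpowers _), rfl⟩
    exact h1
  obtain ⟨s, hs⟩ := hKT g.2
  have hga : Acts φ (cj (g : G) w) (flag (i + 1)) := hs.conj hwA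
  obtain ⟨v, hv, hve⟩ := invol_acts hS hF hgS (by
    rw [show cj (g : G) w * cj (g : G) w = (g : G) * (w * w) * (g : G)⁻¹ by simp [L34Sylow.cj, mul_assoc],
      hw2, mul_one, mul_inv_cancel]) hga
  exact ((isConj_iff.2 ⟨n, hw⟩).trans (isConj_iff.2 ⟨g, hve.symm⟩)).trans (isConj_A hS hv)

theorem isConj_out (hS : Setup S φ) (hF : Facts S φ) (hR : Rot φ) {i : Fin 3} {v : Vec}
    (hv : v ∈ lineV i) : IsConj (φ (v, flag i)) (φ (v0, flag 0)) := by
  refine (isConj_A hS hv).trans ?_
  fin_cases i
  · exact IsConj.refl _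
  · exact (isConj_succ hS hF hR 0).symm
  · exact ((isConj_succ hS hF hR 0).trans (isConj_succ hS hF hR 1)).symm

theorem line_zero : ∀ v ∈ lineV 0, v ≠ v0 → v ≠ vz →
    v = (true, false, false, false) ∨ v = act (flag 1) (true, false, false, false) := by
  decide +kernel

theorem nz_ne : ((true, false, false, false) : Vec) ≠ v0 ∧ ((true, false, false, false) : Vec) ≠ vz ∧
    offH ((true, false, false, false) : Vec) = false := by decide

/-- There are three classes of involutions. -/
theorem three_classes (hS : Setup S φ) (hF : Facts S φ) (hN : Normed φ) (hO : FiveOrbit φ) :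
    Nat.card {c : ConjClasses G // ∃ x ∈ c.carrier, orderOf x = 2} = 3 := by
  haveI : Fact (Nat.Prime 2) := ⟨Nat.prime_two⟩
  set w0 : Vec := (true, false, false, false)
  have hord : ∀ {e : El}, e ≠ (v0, t0) → φ e * φ e = 1 → orderOf (φ e) = 2 := fun {e} he h2 =>
    orderOf_eq_prime (by rw [sq]; exact h2) fun h1 => he (hS.inj (h1.trans (one hS).symm))
  have hsq : ∀ v : Vec, φ (v, t0) * φ (v, t0) = 1 := fun v => by
    have h : ∀ v : Vec, emul (v, t0) (v, t0) = (v0, t0) := by decide +kernel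
    rw [hS.mul, h, one hS]
  have hv00 : ∀ i : Fin 3, v0 ∈ lineV i := by decide
  have hwz : ¬ ZType φ (av φ w0) := by
    obtain ⟨b, hb⟩ := hO.ztype
    rw [hb w0 nz_ne.1]
    rintro (h | ⟨h, -⟩)
    · exact nz_ne.2.1 h
    · rw [nz_ne.2.2] at h; exact Bool.false_ne_true h
  have hset : {c : ConjClasses G | ∃ x ∈ c.carrier, orderOf x = 2} =
      {ConjClasses.mk (zc φ), ConjClasses.mk (av φ w0), ConjClasses.mk (φ (v0, flag 0))} := by
    ext c
    constructor
    · rintro ⟨x, hxc, hx⟩
      rw [ConjClasses.mem_carrier_iff_mk_eq] at hxc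
      obtain ⟨y, hyS, hyx⟩ := hF.exists_conj x hx
      have hy : orderOf y = 2 := by
        obtain ⟨g, hg⟩ := isConj_iff.1 hyx
        rw [← hx, ← hg]
        exact (orderOf_injective (MulAut.conj g).toMonoidHom (MulEquiv.injective _) y).symm
      have hc : c = ConjClasses.mk y := hxc.symm.trans (ConjClasses.mk_eq_mk_iff_isConj.2 hyx.symm)
      simp only [Set.mem_insert_iff, Set.mem_singleton_iff, hc, ConjClasses.mk_eq_mk_iff_isConj]
      rcases hF.invol y hyS (by rw [← sq, ← hy, pow_orderOf_eq_one]) with hA | ⟨i, v, hv, rfl⟩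
      · by_cases hz : ZType φ y
        · exact .inl hz.symm
        · right; left
          obtain ⟨n, -, v, hv, hv0, hvz, hnv⟩ := hO.trans 0 y hA (fun h1 => by
            rw [h1, orderOf_one] at hy; norm_num at hy) hz
          refine (isConj_iff.2 ⟨n, hnv⟩).symm.trans ?_
          rcases line_zero v hv hv0 hvz with rfl | rfl
          · exact IsConj.refl _
          · exact (isConj_iff.2 ⟨φ (v0, flag 1), acts_phi hS (v0, flag 1) w0⟩).symm
      · exact .inr (.inr (isConj_out hS hF hO.rot hv))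
    · rintro (rfl | rfl | rfl)
      · exact ⟨_, ConjClasses.mem_carrier_mk, hord (by decide) (hsq _)⟩
      · exact ⟨_, ConjClasses.mem_carrier_mk, hord (by decide) (hsq _)⟩
      · exact ⟨_, ConjClasses.mem_carrier_mk, hord (by decide) (out_sq hS (hv00 0))⟩
  show Nat.card {c : ConjClasses G | ∃ x ∈ c.carrier, orderOf x = 2} = 3
  rw [Nat.card_coe_set_eq, hset]
  refine Set.ncard_eq_three.2 ⟨_, _, _, ?_, ?_, ?_, rfl⟩ <;>
    rw [Ne, ConjClasses.mk_eq_mk_iff_isConj]
  · exact hwz
  · intro h
    obtain ⟨g, hg⟩ := isConj_iff.1 h.symm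
    exact out_not_A hS hF hN (hv00 0) (g := g) (show cj g (φ (v0, flag 0)) ∈ SA φ by
      show g * φ (v0, flag 0) * g⁻¹ ∈ SA φ
      rw [hg]; exact av_mem hS hF _)
  · intro h
    obtain ⟨g, hg⟩ := isConj_iff.1 h.symm
    exact out_not_A hS hF hN (hv00 0) (g := g) (show cj g (φ (v0, flag 0)) ∈ SA φ by
      show g * φ (v0, flag 0) * g⁻¹ ∈ SA φ
      rw [hg]; exact av_mem hS hF _)

/-- The five vectors and the zero. -/
def five (b : Bool) (p : Vec) : Prop := p = v0 ∨ p = vz ∨ (offH p = true ∧ singular p = b)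

instance (b : Bool) : DecidablePred (five b) := fun p =>
  inferInstanceAs (Decidable (p = v0 ∨ p = vz ∨ (offH p = true ∧ singular p = b)))

theorem five_span : ∀ (b : Bool) (w : Vec), ∃ p, five b p ∧ ∃ q, five b q ∧ ∃ r, five b r ∧
    w = vadd p (vadd q r) := by
  decide +kernel

theorem five_card : ∀ b : Bool,
    Fintype.card {w : Vec // w = vz ∨ (offH w = true ∧ singular w = b)} = 5 := by
  decide +kernel

/-- The quotient by `A` and the odd core is the alternating group of degree five. -/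
theorem quot_five (hS : Setup S φ) (hF : Facts S φ) (hO : FiveOrbit φ) :
    ∃ (_ : ((SA φ).subgroupOf (normalizer (SA φ : Set G)) ⊔
        Cfsg.oddCore ↥(normalizer (SA φ : Set G))).Normal),
      Nonempty (↥(normalizer (SA φ : Set G)) ⧸ ((SA φ).subgroupOf (normalizer (SA φ : Set G)) ⊔
        Cfsg.oddCore ↥(normalizer (SA φ : Set G))) ≃* ↥(alternatingGroup (Fin 5))) := by
  classical
  haveI : Fact (Nat.Prime 2) := ⟨Nat.prime_two⟩
  set N : Subgroup G := normalizer (SA φ : Set G)
  obtain ⟨b, hb⟩ := hO.ztype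
  have hI : ∀ w, (w = vz ∨ (offH w = true ∧ singular w = b)) ↔ (w ≠ v0 ∧ ZType φ (av φ w)) := by
    intro w
    constructor
    · intro h
      have hw : w ≠ v0 := by
        rintro rfl
        rcases h with h | ⟨h, -⟩
        · exact absurd h (by decide)
        · exact absurd h (by decide)
      exact ⟨hw, (hb w hw).2 h⟩
    · exact fun h => (hb w h.1).1 h.2
  have hex : ∀ (n : N) (w : Vec), ∃ w', av φ w' = cj (n : G) (av φ w) := fun n w =>
    (hF.mem_A _).1 ((mem_normalizer_iff.1 n.2 _).1 (av_mem hS hF w))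
  choose f hf using hex
  have hfinj : ∀ {w w' : Vec}, av φ w = av φ w' → w = w' := fun h => congrArg Prod.fst (hS.inj h)
  have hf1 : ∀ w, f 1 w = w := fun w => hfinj (by rw [hf]; simp [L34Sylow.cj])
  have hfm : ∀ (m n : N) (w : Vec), f (m * n) w = f m (f n w) := fun m n w => hfinj (by
    rw [hf, hf, hf]
    simp [L34Sylow.cj, mul_assoc])
  have hfI : ∀ (n : N) (w : Vec), (w = vz ∨ (offH w = true ∧ singular w = b)) →
      (f n w = vz ∨ (offH (f n w) = true ∧ singular (f n w) = b)) := by
    intro n w h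
    obtain ⟨hw, hz⟩ := (hI w).1 h
    refine (hI _).2 ⟨fun h0 => hw (hfinj ?_), ?_⟩
    · have h1 := hf n w
      rw [h0] at h1
      change φ (v0, t0) = cj (n : G) (av φ w) at h1
      rw [one hS, eq_comm, L34Sylow.cj, conj_eq_one_iff] at h1
      exact h1.trans (one hS).symm
    · show IsConj (zc φ) (av φ (f n w))
      exact IsConj.trans hz (isConj_iff.2 ⟨n, (hf n w).symm⟩)
  let I := {w : Vec // w = vz ∨ (offH w = true ∧ singular w = b)}
  let ρ : N →* Equiv.Perm I :=
    { toFun := fun n =>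
        { toFun := fun w => ⟨f n w.1, hfI n w.1 w.2⟩
          invFun := fun w => ⟨f n⁻¹ w.1, hfI n⁻¹ w.1 w.2⟩
          left_inv := fun w => Subtype.ext (by
            show f n⁻¹ (f n w.1) = w.1
            rw [← hfm, inv_mul_cancel, hf1])
          right_inv := fun w => Subtype.ext (by
            show f n (f n⁻¹ w.1) = w.1
            rw [← hfm, mul_inv_cancel, hf1]) }
      map_one' := Equiv.ext fun w => Subtype.ext (hf1 w.1)
      map_mul' := fun m n => Equiv.ext fun w => Subtype.ext (hfm m n w.1) }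
  have hCN : centralizer (SA φ : Set G) ≤ N := Subgroup.centralizer_le_normalizer _
  have hfix : ∀ n : N, (∀ w, f n w = w) → (n : G) ∈ centralizer (SA φ : Set G) := fun n h => by
    refine mem_centralizer_iff.2 fun a ha => ?_
    obtain ⟨w, rfl⟩ := (hF.mem_A a).1 ha
    have h1 := hf n w
    rw [h] at h1
    exact (mul_inv_eq_iff_eq_mul.1 h1.symm).symm
  have hker : ρ.ker = (centralizer (SA φ : Set G)).subgroupOf N := by
    ext n
    refine ⟨fun hn => hfix n ?_, fun hn => Equiv.ext fun w => Subtype.ext (hfinj ?_)⟩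
    · have h5 : ∀ p, five b p → f n p = p := by
        rintro p (rfl | h)
        · refine hfinj ?_
          rw [hf]
          show cj (n : G) (φ (v0, t0)) = φ (v0, t0)
          rw [one hS]; simp [L34Sylow.cj]
        · exact congrArg Subtype.val (Equiv.congr_fun (MonoidHom.mem_ker.1 hn) ⟨p, h⟩)
      have hadd : ∀ p q, f n p = p → f n q = q → f n (vadd p q) = vadd p q := fun p q hp hq => by
        refine hfinj ?_
        have e : ∀ p q : Vec, av φ (vadd p q) = av φ p * av φ q := fun p q => by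
          show φ (vadd p q, t0) = φ (p, t0) * φ (q, t0)
          rw [hS.mul]
          congr 1
        rw [hf, e, show cj (n : G) (av φ p * av φ q) = cj (n : G) (av φ p) * cj (n : G) (av φ q) by
          simp [L34Sylow.cj, mul_assoc], ← hf, ← hf, hp, hq]
      intro w
      obtain ⟨p, hp, q, hq, r, hr, rfl⟩ := five_span b w
      exact hadd _ _ (h5 p hp) (hadd _ _ (h5 q hq) (h5 r hr))
    · show av φ (f n w.1) = av φ w.1
      rw [hf]
      show (n : G) * av φ w.1 * (n : G)⁻¹ = av φ w.1
      have hn' : (n : G) ∈ centralizer (SA φ : Set G) := hn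
      rw [← mem_centralizer_iff.1 hn' _ (av_mem hS hF _), mul_inv_cancel_right]
  -- the kernel is the product of `A` and the odd core
  have hsup : (SA φ).subgroupOf N ⊔ Cfsg.oddCore ↥N = ρ.ker := by
    have hAK : (SA φ).subgroupOf N ≤ ρ.ker := fun a ha => by
      rw [hker]
      exact mem_centralizer_iff.2 fun x hx => A_comm hF hx ha
    haveI hAn : ((SA φ).subgroupOf N).Normal := Subgroup.normal_in_normalizer
    haveI : (Cfsg.oddCore ↥N).Normal := by rw [Cfsg.oddCore]; infer_instance
    refine le_antisymm (sup_le hAK fun d hd => ?_) fun x hx => ?_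
    · rw [hker]
      refine mem_centralizer_iff.2 fun a ha => ?_
      have haN : a ∈ N := Subgroup.le_normalizer ha
      set a' : N := ⟨a, haN⟩
      have h1 : a' * d * a'⁻¹ * d⁻¹ ∈ (SA φ).subgroupOf N := by
        rw [show a' * d * a'⁻¹ * d⁻¹ = a' * (d * a'⁻¹ * d⁻¹) by group]
        exact mul_mem ha (hAn.conj_mem _ (inv_mem ha) d)
      have h2 : a' * d * a'⁻¹ * d⁻¹ ∈ Cfsg.oddCore ↥N :=
        mul_mem ((inferInstance : (Cfsg.oddCore ↥N).Normal).conj_mem d hd a') (inv_mem hd)
      have ho : orderOf (a' * d * a'⁻¹ * d⁻¹) ∣ 16 := by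
        have := Subgroup.orderOf_dvd_natCard _ h1
        rwa [Nat.card_congr (Subgroup.subgroupOfEquivOfLe Subgroup.le_normalizer).toEquiv, hF.card_A] at this
      have hodd := Signalizer2.odd_orderOf (CfsgLib.Base.odd_card_oddCore ↥N) h2
      have h1' : orderOf (a' * d * a'⁻¹ * d⁻¹) = 1 := by
        obtain ⟨k, -, hk⟩ := (Nat.dvd_prime_pow Nat.prime_two).1 (show _ ∣ 2 ^ 4 from ho)
        rw [hk] at hodd ⊢
        rcases k with _ | k
        · rfl
        · exact absurd hodd (by simp [Nat.pow_succ, parity_simps])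
      rw [orderOf_eq_one_iff, mul_inv_eq_one, mul_inv_eq_iff_eq_mul] at h1'
      exact congrArg Subtype.val h1'
    · -- Burnside's complement of the central Sylow subgroup of the kernel
      set K := ρ.ker with hKdef
      have hSN : (S : Subgroup G) ≤ N := hF.norm_S.1
      have hPA : ((S.subtype hSN : Sylow 2 N) : Subgroup N).subgroupOf K = ((SA φ).subgroupOf N).subgroupOf K := by
        ext y
        refine ⟨fun hy => ?_, fun hy => hF.le_S.1 hy⟩
        have hyc : ((y : N) : G) ∈ centralizer (SA φ : Set G) := (SetLike.ext_iff.1 hker (y : N)).1 y.2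
        show ((y : N) : G) ∈ SA φ
        rw [← hF.cent_A]
        exact ⟨hy, hyc⟩
      have hp : IsPGroup 2 ↥(((SA φ).subgroupOf N).subgroupOf K) :=
        ((S.isPGroup'.to_le hF.le_S.1).comap_subtype (K := N)).comap_subtype
      let P : Sylow 2 K := hp.toSylow (by
        rw [← hPA]
        exact Transfer.not_dvd_index_subgroupOf_of_normal (S.subtype hSN) K)
      have hPc : ∀ (k : K), k ∈ centralizer ((P : Subgroup K) : Set K) := fun k =>
        mem_centralizer_iff.2 fun a ha => by
          refine Subtype.ext (Subtype.ext ?_)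
          have hkc : ((k : N) : G) ∈ centralizer (SA φ : Set G) := (SetLike.ext_iff.1 hker (k : N)).1 k.2
          exact mem_centralizer_iff.1 hkc _ ha
      have hP : normalizer ((P : Subgroup K) : Set K) ≤ centralizer ((P : Subgroup K) : Set K) :=
        fun k _ => hPc k
      let N1 := (MonoidHom.transferSylow P hP).ker
      have hN1 : N1.IsComplement' (P : Subgroup K) := MonoidHom.ker_transferSylow_isComplement' P hP
      have hN1odd : Odd (Nat.card N1) := by
        rw [← hN1.index_eq_card, ← Nat.not_even_iff_odd, even_iff_two_dvd]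
        exact P.not_dvd_index
      haveI hM1 : (N1.map K.subtype).Normal := by
        refine ⟨fun y hy m => ?_⟩
        obtain ⟨y, hy', rfl⟩ := hy
        obtain ⟨y', hy''⟩ : ∃ y' : K, (y' : N) = m * (y : N) * m⁻¹ :=
          ⟨⟨_, MonoidHom.normal_ker ρ |>.conj_mem _ y.2 m⟩, rfl⟩
        refine ⟨y', MonoidHom.mem_ker.2 (orderOf_eq_one_iff.1 ?_), hy''⟩
        have h1 : orderOf y' = orderOf y := by
          rw [← Subgroup.orderOf_coe, ← Subgroup.orderOf_coe y, hy'']
          exact orderOf_injective (MulAut.conj m).toMonoidHom (MulEquiv.injective _) (y : N)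
        have hd1 := orderOf_map_dvd (MonoidHom.transferSylow P hP) y'
        rw [h1] at hd1
        have hod := hN1odd.of_dvd_nat (hd1.trans (Subgroup.orderOf_dvd_natCard _ hy'))
        obtain ⟨k, hk⟩ := IsPGroup.iff_card.1 P.isPGroup'
        obtain ⟨j, -, hj⟩ := (Nat.dvd_prime_pow Nat.prime_two).1 (hk ▸
          orderOf_dvd_natCard (MonoidHom.transferSylow P hP y'))
        rw [hj] at hod ⊢
        rcases j with _ | j
        · rfl
        · exact absurd hod (by simp [Nat.pow_succ, parity_simps])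
      have hle : N1.map K.subtype ≤ Cfsg.oddCore ↥N := CfsgLib.Base.le_oddCore (by
        rw [Subgroup.card_map_of_injective K.subtype_injective]; exact hN1odd)
      obtain ⟨⟨⟨o, ho⟩, ⟨a, ha⟩⟩, he⟩ := hN1.2 ⟨x, hx⟩
      have he' : x = (o : N) * (a : N) := (congrArg Subtype.val he).symm
      rw [he']
      exact mul_mem (le_sup_right (α := Subgroup N) (hle ⟨o, ho, rfl⟩)) (le_sup_left (α := Subgroup N) ha)
  rw [hsup]
  refine ⟨MonoidHom.normal_ker ρ, ⟨?_⟩⟩
  have hI5 : Fintype.card I = 5 := five_card b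
  let e : I ≃ Fin 5 := Fintype.equivFinOfCardEq hI5
  let ψ : N →* Equiv.Perm (Fin 5) := e.permCongrHom.toMonoidHom.comp ρ
  have hψ : ψ.ker = ρ.ker := MonoidHom.ker_mulEquiv_comp ρ e.permCongrHom
  have h60 : Nat.card ψ.range = 60 := by
    rw [← Subgroup.index_ker, hψ, hker]
    have h := Subgroup.card_mul_index ((centralizer (SA φ : Set G)).subgroupOf N)
    rw [Nat.card_congr (Subgroup.subgroupOfEquivOfLe hCN).toEquiv, hO.quot, mul_comm 60] at h
    exact Nat.eq_of_mul_eq_mul_left Nat.card_pos h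
  have h2 : ψ.range.index = 2 := by
    have := Subgroup.card_mul_index ψ.range
    rw [h60, Nat.card_perm, Nat.card_fin, show Nat.factorial 5 = 60 * 2 from rfl] at this
    exact Nat.eq_of_mul_eq_mul_left (by norm_num) this
  refine (QuotientGroup.quotientMulEquivOfEq hψ.symm).trans ((QuotientGroup.quotientKerEquivRange ψ).trans
    (MulEquiv.subgroupCongr ?_))
  exact Equiv.Perm.eq_alternatingGroup_of_index_eq_two h2

end CfsgLib.AEightSyl.Kill
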