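import Cfsg.Agent.Lib.AEightSyl.Defs
import Cfsg.Agent.Lib.L34Sylow.CoresBasic

/-!
# S2918, piece D: coordinates, the action on `A`, and fusion of outside involutions
-/

set_option autoImplicit false
set_option linter.style.haveILetI false
set_option linter.unusedSectionVars false

namespace CfsgLib.AEightSyl.Kill

open Cfsg Subgroup CfsgLib.L34Sylow
open CfsgLib.AEightSyl (av zc SA SR Setup Facts)

universe u

theorem emul_assoc_vec : ∀ e f : El, emul (vadd (emul e f).1 (emul f e).1, t0) (emul f e) = emul e f := by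
  decide +kernel

theorem cent_offH : ∀ i : Fin 3, ∀ v ∈ lineV i, ∀ e : El,
    emul e (v, flag i) = emul (v, flag i) e → offH e.1 = false := by
  decide +kernel

theorem comm_offH : ∀ e f : El, offH e.1 = false → offH f.1 = false →
    emul e f = emul f e ∨ emul e f = emul (vz, t0) (emul f e) := by
  decide +kernel

theorem emul_act : ∀ (w : Vec) (e : El), emul e (w, t0) = emul (act e.2 w, t0) e := by
  decide +kernel

theorem act_act : ∀ (s t : Top) (w : Vec), act s (act t w) = act (xor s.1 t.1, xor s.2 t.2) w := by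
  decide +kernel

theorem act_inj : ∀ s t : Top, (∀ w, act s w = act t w) → s = t := by decide +kernel

theorem act_zero : ∀ w : Vec, act t0 w = w := by decide +kernel

theorem conj_flag : ∀ i : Fin 3, ∀ v ∈ lineV i, ∃ w : Vec,
    emul (w, t0) (v0, flag i) = emul (v, flag i) (w, t0) := by
  decide +kernel

theorem flag_ne : ∀ i : Fin 3, flag i ≠ t0 := by decide +kernel

theorem flag_inj : ∀ i j : Fin 3, flag i = flag j → i = j := by decide +kernel

theorem xor_self : ∀ s t : Top, ((xor (xor s.1 t.1) s.1, xor (xor s.2 t.2) s.2) : Top) = t := by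
  decide +kernel

variable {G : Type u} [Group G] [Finite G] {S : Sylow 2 G} {φ : El → G}

theorem one (hS : Setup S φ) : φ (v0, t0) = 1 := by
  have h := hS.mul (v0, t0) (v0, t0)
  rw [show emul (v0, t0) (v0, t0) = (v0, t0) by decide] at h
  exact mul_eq_left.1 h

theorem av_mem (hS : Setup S φ) (hF : Facts S φ) (w : Vec) : av φ w ∈ SA φ := (hF.mem_A _).2 ⟨w, rfl⟩

theorem zc_mem (hS : Setup S φ) (hF : Facts S φ) : zc φ ∈ SA φ := av_mem hS hF vz

theorem A_comm (hF : Facts S φ) {a b : G} (ha : a ∈ SA φ) (hb : b ∈ SA φ) : a * b = b * a := by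
  haveI := hF.elem_A.1
  exact setLike_mul_comm ha hb

theorem A_le_cz (hF : Facts S φ) {a : G} (ha : a ∈ SA φ) : SA φ ≤ cz a := fun _ hb =>
  mem_centralizer_singleton_iff.2 (A_comm hF hb ha)

theorem out_notMem (hS : Setup S φ) (hF : Facts S φ) (v : Vec) (i : Fin 3) :
    φ (v, flag i) ∉ SA φ := fun h => by
  obtain ⟨w, hw⟩ := (hF.mem_A _).1 h
  exact flag_ne i (congrArg Prod.snd (hS.inj hw)).symm

/-- Commutators of the Sylow subgroup lie in `A`. -/
theorem comm_mem (hS : Setup S φ) (hF : Facts S φ) {s t : G} (hs : s ∈ S) (ht : t ∈ S) :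
    s * t * s⁻¹ * t⁻¹ ∈ SA φ := by
  obtain ⟨e, rfl⟩ := hS.surj s hs
  obtain ⟨f, rfl⟩ := hS.surj t ht
  rw [hS.mul e f, ← emul_assoc_vec e f, ← hS.mul, ← hS.mul f e]
  simpa [mul_assoc] using av_mem hS hF _

/-- The commutators in the centraliser of an outside involution are trivial or `z`. -/
theorem comm_eq (hS : Setup S φ) {i : Fin 3} {v : Vec} (hv : v ∈ lineV i) {s t : G} (hs : s ∈ S)
    (hsu : s * φ (v, flag i) = φ (v, flag i) * s) (ht : t ∈ S)
    (htu : t * φ (v, flag i) = φ (v, flag i) * t) :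
    s * t * s⁻¹ * t⁻¹ = 1 ∨ s * t * s⁻¹ * t⁻¹ = zc φ := by
  obtain ⟨e, rfl⟩ := hS.surj s hs
  obtain ⟨f, rfl⟩ := hS.surj t ht
  rw [hS.mul, hS.mul] at hsu htu
  have he := cent_offH i v hv e (hS.inj hsu)
  have hf := cent_offH i v hv f (hS.inj htu)
  rcases comm_offH e f he hf with h | h
  · left
    rw [hS.mul e f, h, ← hS.mul f e]
    group
  · right
    rw [hS.mul e f, h, ← hS.mul, ← hS.mul f e]
    simp [mul_assoc]

/-- `g` acts on `A` as the pair of flags `s`. -/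
def Acts (φ : El → G) (g : G) (s : Top) : Prop := ∀ w, cj g (av φ w) = av φ (act s w)

theorem acts_phi (hS : Setup S φ) (e : El) : Acts φ (φ e) e.2 := fun w => by
  show φ e * φ (w, t0) * (φ e)⁻¹ = φ (act e.2 w, t0)
  rw [hS.mul, emul_act, ← hS.mul, mul_inv_cancel_right]

theorem acts_cent (hS : Setup S φ) (hF : Facts S φ) {c : G} (hc : c ∈ centralizer (SA φ : Set G)) :
    Acts φ c t0 := fun w => by
  rw [act_zero]
  show c * av φ w * c⁻¹ = av φ w
  rw [← mem_centralizer_iff.1 hc _ (av_mem hS hF w), mul_inv_cancel_right]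

theorem Acts.mul {g k : G} {s t : Top} (hg : Acts φ g s) (hk : Acts φ k t) :
    Acts φ (g * k) (xor s.1 t.1, xor s.2 t.2) := fun w => by
  rw [← act_act, ← hg, ← hk]
  show g * k * av φ w * (g * k)⁻¹ = g * (k * av φ w * k⁻¹) * g⁻¹
  group

theorem Acts.inv {g : G} {s : Top} (hg : Acts φ g s) : Acts φ g⁻¹ s := fun w => by
  have h := hg (act s w)
  rw [act_act, show ((xor s.1 s.1, xor s.2 s.2) : Top) = t0 by simp [t0], act_zero] at h
  show g⁻¹ * av φ w * g⁻¹⁻¹ = _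
  rw [← h]
  show g⁻¹ * (g * av φ (act s w) * g⁻¹) * g⁻¹⁻¹ = _
  group

theorem Acts.unique (hS : Setup S φ) {g : G} {s t : Top} (h1 : Acts φ g s) (h2 : Acts φ g t) : s = t :=
  act_inj s t fun w => congrArg Prod.fst (hS.inj ((h1 w).symm.trans (h2 w)))

/-- Conjugating by an element acting on `A` keeps the action. -/
theorem Acts.conj {g k : G} {s t : Top} (hg : Acts φ g s) (hk : Acts φ k t) : Acts φ (cj g k) t := by
  have := (hg.mul hk).mul hg.inv
  rwa [xor_self] at this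

/-- An involution of `S` acting as a flag is `φ (v, flag i)`. -/
theorem invol_acts (hS : Setup S φ) (hF : Facts S φ) {g : G} (hg : g ∈ S) (h2 : g * g = 1) {i : Fin 3}
    (ha : Acts φ g (flag i)) : ∃ v ∈ lineV i, φ (v, flag i) = g := by
  rcases hF.invol g hg h2 with h | ⟨j, v, hv, rfl⟩
  · obtain ⟨w, rfl⟩ := (hF.mem_A g).1 h
    exact absurd (ha.unique hS (acts_phi hS (w, t0))) (flag_ne i)
  · obtain rfl := flag_inj _ _ (ha.unique hS (acts_phi hS (v, flag j)))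
    exact ⟨v, hv, rfl⟩

theorem out_sq (hS : Setup S φ) {i : Fin 3} {v : Vec} (hv : v ∈ lineV i) :
    φ (v, flag i) * φ (v, flag i) = 1 := by
  have h : ∀ i : Fin 3, ∀ v ∈ lineV i, emul (v, flag i) (v, flag i) = (v0, t0) := by decide +kernel
  rw [hS.mul, h i v hv, one hS]

theorem core_inf (φ : El → G) {x : G} (h1 : x ∈ core (zc φ)) (h2 : x ∈ S) : x = 1 := by
  haveI : Fact (Nat.Prime 2) := ⟨Nat.prime_two⟩
  obtain ⟨k, hk⟩ := IsPGroup.iff_card.1 S.isPGroup'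
  have hd : orderOf x ∣ 2 ^ k := hk ▸ Subgroup.orderOf_dvd_natCard _ h2
  obtain ⟨m, -, hm⟩ := (Nat.dvd_prime_pow Nat.prime_two).1 hd
  have ho := L34Sylow.CoresAux.odd_order_mem h1
  rw [hm] at ho
  rcases m with _ | m
  · exact orderOf_eq_one_iff.1 (by rw [hm, pow_zero])
  · exact absurd ho (by simp [Nat.pow_succ, parity_simps])

/-- Adjusting a conjugation of a 2-group centralising `x` into `S`. -/
theorem adjust {x : G} {W U : Subgroup G} (hW : IsPGroup 2 W) (hWx : W ≤ cz x) (hU : IsPGroup 2 U)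
    (hUx : U ≤ cz x) :
    ∃ c ∈ cz x, ∃ h : G, (∀ y ∈ W, cj (h * c) y ∈ S) ∧ ∀ y ∈ U, cj h y ∈ S := by
  haveI : Fact (Nat.Prime 2) := ⟨Nat.prime_two⟩
  have hWp : IsPGroup 2 (W.subgroupOf (cz x)) := hW.comap_subtype
  have hUp : IsPGroup 2 (U.subgroupOf (cz x)) := hU.comap_subtype
  obtain ⟨Q, hQ⟩ := hWp.exists_le_sylow
  obtain ⟨Q0, hQ0⟩ := hUp.exists_le_sylow
  obtain ⟨c, hc⟩ := MulAction.exists_smul_eq (cz x) Q Q0
  obtain ⟨S1, hS1⟩ := (Q0.isPGroup'.map (cz x).subtype).exists_le_sylow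
  obtain ⟨h, hh⟩ := MulAction.exists_smul_eq G S1 S
  have key : ∀ y ∈ (Q0 : Subgroup (cz x)), cj h (y : G) ∈ S := fun y hy => by
    show cj h (y : G) ∈ (S : Subgroup G)
    rw [← hh, Sylow.coe_subgroup_smul]
    exact ⟨(y : G), hS1 ⟨y, hy, rfl⟩, rfl⟩
  refine ⟨c, c.2, h, fun y hy => ?_, fun y hy => key ⟨y, hUx hy⟩ (hQ0 hy)⟩
  have : cj c ⟨y, hWx hy⟩ ∈ (Q0 : Subgroup (cz x)) := by
    rw [← hc, Sylow.coe_subgroup_smul]
    exact ⟨⟨y, hWx hy⟩, hQ hy, rfl⟩
  have h1 := key _ this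
  have e : cj (h * (c : G)) y = cj h (((cj c ⟨y, hWx hy⟩ : cz x)) : G) := by
    show h * (c : G) * y * (h * (c : G))⁻¹ = h * ((c : G) * y * (c : G)⁻¹) * h⁻¹
    group
  rw [e]
  exact h1

theorem isPGroup_inf (x : G) : IsPGroup 2 ↥((S : Subgroup G) ⊓ cz x) := S.isPGroup'.to_le inf_le_left

theorem map_cj {g x : G} {U : Subgroup G} (hU : U ≤ cz x) :
    U.map (MulAut.conj g).toMonoidHom ≤ cz (cj g x) := by
  rintro _ ⟨y, hy, rfl⟩
  exact L34Sylow.CoresAux.conj_cz (hU hy)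

/-- An outside involution is not conjugate into `A`. -/
theorem out_not_A (hS : Setup S φ) (hF : Facts S φ) (hN : Normed φ) {i : Fin 3} {v : Vec}
    (hv : v ∈ lineV i) {g : G} (hg : cj g (φ (v, flag i)) ∈ SA φ) : False := by
  haveI : Fact (Nat.Prime 2) := ⟨Nat.prime_two⟩
  obtain ⟨u, hu⟩ : ∃ u, φ (v, flag i) = u := ⟨_, rfl⟩
  rw [hu] at hg
  have huS : u ∈ S := hu ▸ hS.mem _
  obtain ⟨c, hc, h, h1, h2⟩ := adjust (S := S) (x := cj g u)
    (W := ((S : Subgroup G) ⊓ cz u).map (MulAut.conj g).toMonoidHom) (U := SA φ)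
    ((isPGroup_inf u).map _) (map_cj inf_le_right) (S.isPGroup'.to_le hF.le_S.1) (A_le_cz hF hg)
  have hA : (SA φ).map (MulAut.conj h).toMonoidHom = SA φ := hF.weak_A h (by
    rintro _ ⟨y, hy, rfl⟩; exact h2 y hy)
  obtain ⟨k, hk⟩ : ∃ k, h * c * g = k := ⟨_, rfl⟩
  have hkS : ∀ y ∈ (S : Subgroup G) ⊓ cz u, cj k y ∈ S := fun y hy => by
    have := h1 _ ⟨y, hy, rfl⟩
    show k * y * k⁻¹ ∈ S
    rw [← hk, show h * c * g * y * (h * c * g)⁻¹ = h * c * (g * y * g⁻¹) * (h * c)⁻¹ by group]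
    exact this
  have hka : cj k u ∈ SA φ := by
    have hcu : c * cj g u * c⁻¹ = cj g u := by
      rw [mem_centralizer_singleton_iff.1 hc, mul_inv_cancel_right]
    rw [← hA]
    refine ⟨cj g u, hg, ?_⟩
    show h * cj g u * h⁻¹ = k * u * k⁻¹
    conv_lhs => rw [← hcu]
    rw [← hk]
    show h * (c * (g * u * g⁻¹) * c⁻¹) * h⁻¹ = _
    group
  obtain ⟨-, -, g0, h0, hg0, hh0, hz⟩ := hF.cent_out i v hv
  rw [hu] at hg0 hh0
  have hzA : cj k (zc φ) ∈ SA φ := by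
    rw [show cj k (zc φ) = cj k g0 * cj k h0 * (cj k g0)⁻¹ * (cj k h0)⁻¹ by
      rw [← hz]; simp [L34Sylow.cj, mul_assoc]]
    exact comm_mem hS hF (hkS _ hg0) (hkS _ hh0)
  obtain ⟨n, hn, hnz⟩ := hF.fus_A (zc φ) (zc_mem hS hF) k hzA
  have hm : n⁻¹ * k ∈ cz (zc φ) := by
    refine mem_centralizer_singleton_iff.2 (mul_inv_eq_iff_eq_mul.1 ?_)
    calc n⁻¹ * k * zc φ * (n⁻¹ * k)⁻¹ = n⁻¹ * (k * zc φ * k⁻¹) * n := by group
      _ = n⁻¹ * (n * zc φ * n⁻¹) * n := by rw [show n * zc φ * n⁻¹ = k * zc φ * k⁻¹ from hnz]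
      _ = zc φ := by group
  have ha1 : cj (n⁻¹ * k) u ∈ SA φ := by
    rw [show cj (n⁻¹ * k) u = n⁻¹ * cj k u * n⁻¹⁻¹ by simp [L34Sylow.cj, mul_assoc]]
    exact (mem_normalizer_iff.1 (inv_mem hn) _).1 hka
  obtain ⟨o, ho, m, hm', hom⟩ := hN _ hm
  rw [hom] at ha1
  obtain ⟨a, ha, hae⟩ : ∃ a ∈ SA φ, cj (o * m) u = a := ⟨_, ha1, rfl⟩
  obtain ⟨a', ha'⟩ : ∃ a', m⁻¹ * a * m = a' := ⟨_, rfl⟩
  have ha'A : a' ∈ SA φ := by
    rw [← ha']
    have := (mem_normalizer_iff.1 (inv_mem hm'.1) a).1 ha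
    simpa using this
  have hcore : u * a'⁻¹ ∈ core (zc φ) := by
    have hnorm := L34Sylow.CoresAux.norm_core (zc φ)
    have h3 : o⁻¹ * (a * o * a⁻¹) ∈ core (zc φ) :=
      mul_mem (inv_mem ho) ((mem_normalizer_iff.1 (hnorm (A_le_cz hF (zc_mem hS hF) ha)) o).1 ho)
    have h4 := (mem_normalizer_iff.1 (hnorm (inv_mem hm'.2)) _).1 h3
    convert h4 using 1
    rw [← ha', ← hae]
    group
  have := core_inf φ hcore (mul_mem huS (inv_mem (hF.le_S.1 ha'A)))
  rw [mul_inv_eq_one] at this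
  exact out_notMem hS hF v i (hu ▸ this ▸ ha'A)

/-- Conjugate outside involutions are conjugate in the centraliser of `z`. -/
theorem out_conj (hS : Setup S φ) (hF : Facts S φ) (hN : Normed φ) {i i' : Fin 3} {v v' : Vec}
    (hv : v ∈ lineV i) (hv' : v' ∈ lineV i') {g : G} (hg : cj g (φ (v, flag i)) = φ (v', flag i')) :
    ∃ m ∈ cz (zc φ), cj m (φ (v, flag i)) = φ (v', flag i') := by
  obtain ⟨u, hu⟩ : ∃ u, φ (v, flag i) = u := ⟨_, rfl⟩
  obtain ⟨u', hu'⟩ : ∃ u', φ (v', flag i') = u' := ⟨_, rfl⟩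
  rw [hu, hu'] at hg ⊢
  obtain ⟨c, hc, h, h1, h2⟩ := adjust (S := S) (x := u')
    (W := ((S : Subgroup G) ⊓ cz u).map (MulAut.conj g).toMonoidHom) (U := (S : Subgroup G) ⊓ cz u')
    ((isPGroup_inf u).map _) (hg ▸ map_cj inf_le_right) (isPGroup_inf u') inf_le_right
  have hu'S : u' ∈ (S : Subgroup G) ⊓ cz u' :=
    ⟨hu' ▸ hS.mem _, mem_centralizer_singleton_iff.2 rfl⟩
  have hwS : cj h u' ∈ S := h2 _ hu'S
  have hw2 : cj h u' * cj h u' = 1 := by
    rw [show cj h u' * cj h u' = h * (u' * u') * h⁻¹ by simp [L34Sylow.cj, mul_assoc], ← hu', out_sq hS hv', mul_one,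
      mul_inv_cancel]
  rcases hF.invol _ hwS hw2 with hA | ⟨j, v'', hv'', hw⟩
  · exact (out_not_A hS hF hN hv' (g := h) (hu' ▸ hA)).elim
  -- conjugations into the centraliser of the outside involution fix `z`
  have fixz : ∀ (k x : G) (j' : Fin 3) (w : Vec), w ∈ lineV j' → φ (w, flag j') = x →
      cj k x = φ (v'', flag j) → (∀ y ∈ (S : Subgroup G) ⊓ cz x, cj k y ∈ S) → k ∈ cz (zc φ) := by
    intro k x j' w hwl hx hkx hkS
    obtain ⟨-, -, g0, h0, hg0, hh0, hz⟩ := hF.cent_out j' w hwl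
    rw [hx] at hg0 hh0
    have hcomm : ∀ y, y ∈ cz x → cj k y * φ (v'', flag j) = φ (v'', flag j) * cj k y := fun y hy => by
      rw [← hkx]
      exact mem_centralizer_singleton_iff.1 (L34Sylow.CoresAux.conj_cz hy)
    have hne : cj k (zc φ) ≠ 1 := fun he => by
      have hz1 : zc φ = 1 := conj_eq_one_iff.1 he
      rw [← one hS] at hz1
      exact absurd (congrArg Prod.fst (hS.inj hz1)) (by decide)
    have e : cj k (zc φ) = cj k g0 * cj k h0 * (cj k g0)⁻¹ * (cj k h0)⁻¹ := by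
      rw [← hz]; simp [L34Sylow.cj, mul_assoc]
    rcases comm_eq hS hv'' (hkS _ hg0) (hcomm _ hg0.2) (hkS _ hh0) (hcomm _ hh0.2) with h' | h'
    · exact absurd (e.trans h') hne
    · exact mem_centralizer_singleton_iff.2 (mul_inv_eq_iff_eq_mul.1 (e.trans h'))
  have hh : h ∈ cz (zc φ) := fixz h u' i' v' hv' hu' hw.symm h2
  have hcg : cj (c * g) u = u' := by
    rw [show cj (c * g) u = c * cj g u * c⁻¹ by simp [L34Sylow.cj, mul_assoc], hg,
      mem_centralizer_singleton_iff.1 hc, mul_inv_cancel_right]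
  have hk : h * c * g ∈ cz (zc φ) := by
    refine fixz (h * c * g) u i v hv hu ?_ fun y hy => ?_
    · rw [show cj (h * c * g) u = cj h (cj (c * g) u) by simp [L34Sylow.cj, mul_assoc], hcg]
      exact hw.symm
    · rw [show cj (h * c * g) y = cj (h * c) (cj g y) by simp [L34Sylow.cj, mul_assoc]]
      exact h1 _ ⟨y, hy, rfl⟩
  exact ⟨c * g, by simpa [mul_assoc] using mul_mem (inv_mem hh) hk, hcg⟩

/-- Conjugate outside involutions act alike on `A` when the automiser is small. -/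
theorem out_flag (hS : Setup S φ) (hF : Facts S φ) (hN : Normed φ)
    (hsmall : ∀ n ∈ normalizer (SA φ : Set G) ⊓ cz (zc φ),
      ∃ s ∈ S, s⁻¹ * n ∈ centralizer (SA φ : Set G))
    {i i' : Fin 3} {v v' : Vec} (hv : v ∈ lineV i) (hv' : v' ∈ lineV i') {g : G}
    (hg : cj g (φ (v, flag i)) = φ (v', flag i')) : i = i' := by
  obtain ⟨m, hm, hmu⟩ := out_conj hS hF hN hv hv' hg
  obtain ⟨o, ho, k, hk, rfl⟩ := hN m hm
  obtain ⟨u2, hu2⟩ : ∃ u2, cj k (φ (v, flag i)) = u2 := ⟨_, rfl⟩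
  obtain ⟨u', hu'⟩ : ∃ u', φ (v', flag i') = u' := ⟨_, rfl⟩
  rw [hu', show cj (o * k) (φ (v, flag i)) = cj o (cj k (φ (v, flag i))) by simp [L34Sylow.cj, mul_assoc], hu2] at hmu
  obtain ⟨s, hs, hsk⟩ := hsmall k hk
  obtain ⟨e, rfl⟩ := hS.surj s hs
  have ha2 : Acts φ u2 (flag i) := by
    have h1 := (acts_phi hS e).mul (acts_cent hS hF hsk)
    rw [mul_inv_cancel_left] at h1
    exact hu2 ▸ h1.conj (acts_phi hS (v, flag i))
  have hnorm := L34Sylow.CoresAux.norm_core (zc φ)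
  have hz : ∀ e : El, φ e ∈ cz (zc φ) := fun e => mem_centralizer_singleton_iff.2 (by
    have hc : ∀ e : El, emul e (vz, t0) = emul (vz, t0) e := by decide +kernel
    show φ e * φ (vz, t0) = φ (vz, t0) * φ e
    rw [hS.mul, hS.mul, hc])
  have hu2z : u2 ∈ cz (zc φ) := hu2 ▸ mul_mem (mul_mem hk.2 (hz _)) (inv_mem hk.2)
  obtain ⟨d, hd⟩ : ∃ d, u' * u2⁻¹ = d := ⟨_, rfl⟩
  have hdc : d ∈ core (zc φ) := by
    rw [← hd, ← hmu, show cj o u2 * u2⁻¹ = o * (u2 * o⁻¹ * u2⁻¹) by simp [L34Sylow.cj, mul_assoc]]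
    exact mul_mem ho ((mem_normalizer_iff.1 (hnorm hu2z) _).1 (inv_mem ho))
  have hdN : d ∈ normalizer (SA φ : Set G) := by
    rw [← hd, ← hu', ← hu2]
    refine mul_mem (hF.norm_S.1 (hS.mem _)) (inv_mem ?_)
    exact mul_mem (mul_mem hk.1 (hF.norm_S.1 (hS.mem _))) (inv_mem hk.1)
  have hdA : d ∈ centralizer (SA φ : Set G) := by
    refine mem_centralizer_iff.2 fun a ha => ?_
    have h1 : a * d * a⁻¹ * d⁻¹ ∈ SA φ := by
      rw [show a * d * a⁻¹ * d⁻¹ = a * (d * a⁻¹ * d⁻¹) by group]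
      exact mul_mem ha ((mem_normalizer_iff.1 hdN _).1 (inv_mem ha))
    have h2 : a * d * a⁻¹ * d⁻¹ ∈ core (zc φ) :=
      mul_mem ((mem_normalizer_iff.1 (hnorm (A_le_cz hF (zc_mem hS hF) ha)) d).1 hdc) (inv_mem hdc)
    have := core_inf φ h2 (hF.le_S.1 h1)
    rwa [mul_inv_eq_one, mul_inv_eq_iff_eq_mul] at this
  have ha' := (acts_cent hS hF hdA).mul ha2
  rw [← hd, inv_mul_cancel_right, show ((xor t0.1 (flag i).1, xor t0.2 (flag i).2) : Top) = flag i by
    simp [t0], ← hu'] at ha'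
  exact (flag_inj _ _ ((acts_phi hS (v', flag i')).unique hS ha')).symm

end CfsgLib.AEightSyl.Kill
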