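import Cfsg.Agent.Lib.AEightSyl.Defs

/-!
# S2918, piece H1: the two quaternion factors in coordinates
-/

set_option autoImplicit false
set_option maxRecDepth 100000
set_option synthInstance.maxSize 4000
set_option linter.style.haveILetI false

namespace CfsgLib.AEightSyl.Model

/-- The central involution. -/
def zE : El := (vz, t0)

/-- The involution exchanging the factors. -/
def wE : El := ((false, false, true, false), t0)

/-- Two generators of the first factor and their product. -/
def qa : Fin 3 → El :=
  ![((false, false, false, true), (true, false)), ((true, false, false, true), (false, true)),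
    emul ((false, false, false, true), (true, false)) ((true, false, false, true), (false, true))]

/-- The six classes of elements of order four of `Q`. -/
def qel (y : Bool × Fin 3) : El :=
  if y.1 then emul (emul wE (qa y.2)) wE else qa y.2

theorem qel_cover : ∀ e : El, offH e.1 = false → emul e e = zE →
    ∃ y, e = qel y ∨ e = emul (qel y) zE := by
  decide +kernel

theorem qel_facts :
    (∀ y, offH (qel y).1 = false ∧ emul (qel y) (qel y) = zE) ∧
    (∀ x y, emul (qel x) (qel y) = emul (qel y) (qel x) ↔ (x.1 ≠ y.1 ∨ x.2 = y.2)) ∧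
    (∀ x y, (qel x = qel y ∨ qel x = emul (qel y) zE) → x = y) ∧
    emul (qel (false, 0)) (qel (false, 1)) = qel (false, 2) := by
  refine ⟨?_, ?_, ?_, ?_⟩ <;> decide +kernel

theorem el_facts :
    (∀ e : El, emul e zE = emul zE e ∧ emul zE zE = (v0, t0) ∧ emul wE wE = (v0, t0)) ∧
    (∀ e : El, offH e.1 = false → emul (emul e e) (emul e e) = (v0, t0)) ∧
    emul (v0, t0) (v0, t0) = ((v0, t0) : El) ∧ zE ≠ (v0, t0) ∧ wE.2 = t0 := by
  refine ⟨?_, ?_, ?_, ?_, ?_⟩ <;> decide +kernel

theorem el_central : ∀ e : El, (∀ y, emul e (qel y) = emul (qel y) e) →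
    e = (v0, t0) ∨ e = zE := by
  decide +kernel

theorem line_product : ∃ x y, ((true, false, false, false), t0) = emul (qel x) (qel y) ∨
    ((true, false, false, false), t0) = emul (emul (qel x) (qel y)) zE := by
  decide +kernel

theorem iterate_facts :
    (∀ p : Fin 3 → Fin 3, (∀ x, p^[9] x = x) → ∀ m, p m = m → ∀ n, p n = n) ∧
    (∀ p : Fin 3 → Fin 3, (∀ x, p^[9] x = x) →
      (p 0 = 1 → ∀ m, p m = m + 1) ∧ ∀ m, p (p (p m)) = m) := by
  decide +kernel

end CfsgLib.AEightSyl.Model
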