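import Cfsg.Agent.Lib.PSpAmalgam.CenBuild

/-!
# S2918, piece H1: a homomorphism from `SL₂(3)` given a quaternion generator and an element of
order three permuting `i, j, k`
-/

set_option autoImplicit false
set_option maxRecDepth 100000
set_option linter.style.haveILetI false

namespace CfsgLib.AEightSyl.Model

open CfsgLib.U42 CfsgLib.PSpAmalgam

universe u

/-- The normal forms `i ^ p * j ^ q * c ^ r` of the elements of `SL₂(3)`. -/
def nfT : List (ℕ × ℕ × ℕ) :=
  [(0, 0, 0), (1, 0, 0), (0, 1, 0), (1, 1, 0), (0, 0, 1), (0, 0, 2), (3, 0, 2), (3, 0, 1),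
   (0, 1, 2), (3, 1, 1), (3, 1, 2), (0, 1, 1), (2, 0, 0), (3, 0, 0), (2, 1, 0), (3, 1, 0),
   (2, 0, 1), (2, 0, 2), (1, 0, 2), (1, 0, 1), (2, 1, 2), (1, 1, 1), (1, 1, 2), (2, 1, 1)]

/-- The normal form of an element. -/
def nf (a : ℕ) : ℕ × ℕ × ℕ := nfT.getD a (0, 0, 0)

/-- The product of a normal form and `i`. -/
def stepI : ℕ × ℕ × ℕ → ℕ × ℕ × ℕ
  | (p, q, 0) => if q = 0 then ((p + 1) % 4, 0, 0) else ((p + 3) % 4, 1, 0)
  | (p, q, 1) => if q = 0 then (p, 1, 1) else ((p + 2) % 4, 0, 1)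
  | (p, q, _) => if q = 0 then ((p + 1) % 4, 1, 2) else ((p + 1) % 4, 0, 2)

/-- The product of a normal form and `c`. -/
def stepC : ℕ × ℕ × ℕ → ℕ × ℕ × ℕ
  | (p, q, r) => (p, q, (r + 1) % 3)

/-- The word of an element in the generators `1` and `4`. -/
def word (a : ℕ) : List ℕ :=
  List.replicate (nf a).1 1 ++ (if (nf a).2.1 = 0 then [] else [4, 1, 4, 4]) ++
    List.replicate (nf a).2.2 4

theorem table : (∀ a ∈ List.range 24, (nf a).2.1 < 2 ∧ (nf a).2.2 < 3 ∧
      nf (slMul a 1) = stepI (nf a) ∧ nf (slMul a 4) = stepC (nf a)) ∧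
    (∀ b ∈ List.range 24, ∀ x ∈ word b, x = 1 ∨ x = 4) ∧
    (∀ a ∈ List.range 24, ∀ b ∈ List.range 24, (word b).foldl slMul a = slMul a b) ∧
    (∀ b ∈ List.range 24, slMul 0 b = b) := by
  decide +kernel

theorem nf_central : ∀ a ∈ List.range 24, (nf a).2.1 = 0 → (nf a).2.2 = 0 →
    ((nf a).1 = 0 ∨ (nf a).1 = 2) → a = 0 ∨ a = 12 := by
  decide +kernel

/-- The value of a normal form. -/
def wval {G : Type u} [Group G] (i c : G) (n : ℕ × ℕ × ℕ) : G :=
  i ^ n.1 * (c * i * c⁻¹) ^ n.2.1 * c ^ n.2.2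

theorem exists_sl {G : Type u} [Group G] {z i c : G} (hz : z * z = 1) (hi : i * i = z)
    (hzc : Commute z c) (hc : c ^ 3 = 1)
    (hk : i * (c * i * c⁻¹) = c * (c * i * c⁻¹) * c⁻¹) :
    ∃ sl : Matrix.SpecialLinearGroup (Fin 2) (ZMod 3) →* G, sl (-1) = z ∧
      ∀ a < 24, sl (slZ a) = wval i c (nf a) := by
  classical
  set j := c * i * c⁻¹ with hj
  set k := c * j * c⁻¹ with hkdef
  have hc' : c⁻¹ = c * c := inv_eq_of_mul_eq_one_right (by rw [← hc, pow_succ', pow_two])
  have hki : c * k * c⁻¹ = i := by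
    rw [hkdef, hj, show c * (c * (c * i * c⁻¹) * c⁻¹) * c⁻¹ = c ^ 3 * i * (c ^ 3)⁻¹ by
      simp [pow_succ, mul_assoc], hc, one_mul, inv_one, mul_one]
  have hjk : j * k = i := by
    calc j * k = c * (i * j) * c⁻¹ := conj_mul
      _ = i := by rw [hk, hki]
  have hki' : k * i = j := by
    calc k * i = (c * j * c⁻¹) * (c * k * c⁻¹) := by rw [hki]
      _ = c * (j * k) * c⁻¹ := conj_mul
      _ = j := by rw [hjk]
  have hzi : Commute z i := by rw [← hi]; exact (Commute.refl i).mul_left (Commute.refl i)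
  have hzj : Commute z j := by
    have := (Commute.refl c).mul_right (Commute.refl c)
    rw [hj]
    exact (hzc.mul_right hzi).mul_right hzc.inv_right
  have hzk : Commute z k := by rw [← hk]; exact hzi.mul_right hzj
  have hjj : j * j = z := by
    rw [show j * j = c * (i * i) * c⁻¹ from conj_mul, hi, ← hzc.eq, mul_inv_cancel_right]
  have hji : j * i = k * z := by rw [← hki', mul_assoc, hi]
  have h4 : i ^ 4 = 1 := by
    rw [show 4 = 2 + 2 from rfl, pow_add, pow_two, hi, hz]
  have hmod : ∀ p, i ^ (p % 4) = i ^ p := fun p => by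
    conv_rhs => rw [← Nat.div_add_mod p 4, pow_add, pow_mul, h4, one_pow, one_mul]
  have hz2 : z = i ^ 2 := by rw [pow_two, hi]
  have hci : c * i = j * c := (inv_mul_cancel_right _ _).symm
  have hcj : c * j = k * c := (inv_mul_cancel_right _ _).symm
  have hcci : c * c * i = k * (c * c) := by
    rw [mul_assoc, hci, ← mul_assoc, hcj, mul_assoc]
  have stI : ∀ n : ℕ × ℕ × ℕ, n.2.1 < 2 → n.2.2 < 3 → wval i c (stepI n) = wval i c n * i := by
    rintro ⟨p, q, r⟩ hq hr
    simp only at hq hr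
    interval_cases q <;> interval_cases r <;>
      simp only [stepI, if_true, if_false, one_ne_zero, wval, ← hj, hmod, pow_zero, pow_one,
        mul_one]
    · rw [pow_succ]
    · symm
      rw [mul_assoc, hci, ← mul_assoc]
    · symm
      rw [pow_two, mul_assoc (i ^ p), hcci, ← hk, pow_succ]
      simp only [mul_assoc]
    · symm
      rw [show p + 3 = p + 1 + 2 from rfl, pow_add, ← hz2, mul_assoc (i ^ p), hji, ← hk, pow_succ]
      simp only [mul_assoc]
      rw [hzj.eq]
    · symm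
      rw [mul_assoc _ c, hci, pow_add, ← hz2]
      simp only [mul_assoc]
      rw [← mul_assoc j j, hjj]
    · symm
      rw [pow_two, mul_assoc _ (c * c), hcci, pow_succ]
      simp only [mul_assoc]
      rw [← mul_assoc j k, hjk]
  have stC : ∀ n : ℕ × ℕ × ℕ, wval i c (stepC n) = wval i c n * c := by
    rintro ⟨p, q, r⟩
    simp only [stepC, wval]
    rw [mul_assoc _ (c ^ r), ← pow_succ]
    congr 1
    conv_rhs => rw [← Nat.div_add_mod (r + 1) 3, pow_add, pow_mul, hc, one_pow, one_mul]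
  let f : ℕ → G := fun a => wval i c (nf a)
  let gen : ℕ → G := fun x => if x = 1 then i else c
  have hfold : ∀ l : List ℕ, (∀ x ∈ l, x = 1 ∨ x = 4) → ∀ a < 24,
      l.foldl slMul a < 24 ∧ f (l.foldl slMul a) = f a * (l.map gen).prod := by
    intro l
    induction l with
    | nil => intro _ a ha; exact ⟨ha, by simp⟩
    | cons x l ih =>
      intro hl a ha
      obtain ⟨hq, hr, h1, h4'⟩ := table.1 a (List.mem_range.2 ha)
      have hx : x < 24 ∧ f (slMul a x) = f a * gen x := by
        rcases hl x (List.mem_cons_self ..) with rfl | rfl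
        · refine ⟨by norm_num, ?_⟩
          show wval i c (nf (slMul a 1)) = _
          rw [h1, stI _ hq hr]; rfl
        · refine ⟨by norm_num, ?_⟩
          show wval i c (nf (slMul a 4)) = _
          rw [h4', stC]; rfl
      obtain ⟨h5, h6⟩ := ih (fun y hy => hl y (List.mem_cons_of_mem _ hy)) _ (slMul_lt ha hx.1)
      refine ⟨h5, ?_⟩
      rw [List.foldl_cons, h6, hx.2, List.map_cons, List.prod_cons, mul_assoc]
  have hf0 : f 0 = 1 := by simp [f, nf, nfT, wval]
  have fmul : ∀ a < 24, ∀ b < 24, f (slMul a b) = f a * f b := by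
    intro a ha b hb
    have hw := table.2.1 b (List.mem_range.2 hb)
    have h1 := (hfold _ hw a ha).2
    have h2 := (hfold _ hw 0 (by norm_num)).2
    rw [table.2.2.1 a (List.mem_range.2 ha) b (List.mem_range.2 hb)] at h1
    rw [table.2.2.1 0 (List.mem_range.2 (by norm_num)) b (List.mem_range.2 hb),
      table.2.2.2 b (List.mem_range.2 hb), hf0, one_mul] at h2
    rw [h1, h2]
  choose idx hidx using slZ_surj
  have hinj : ∀ a < 24, idx (slZ a) = a := fun a ha => by
    obtain ⟨h1, h2⟩ := hidx (slZ a)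
    refine matZ_inj _ (List.mem_range.2 h1) a (List.mem_range.2 ha) ?_
    rw [← slZ_coe h1, h2, slZ_coe ha]
  let sl : Matrix.SpecialLinearGroup (Fin 2) (ZMod 3) →* G :=
    MonoidHom.mk' (fun x => f (idx x)) fun x y => by
      obtain ⟨hx, ex⟩ := hidx x
      obtain ⟨hy, ey⟩ := hidx y
      have e : idx (x * y) = slMul (idx x) (idx y) := by
        conv_lhs => rw [← ex, ← ey, ← slZ_mul hx hy]
        exact hinj _ (slMul_lt hx hy)
      show f (idx (x * y)) = f (idx x) * f (idx y)
      rw [e, fmul _ hx _ hy]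
  refine ⟨sl, ?_, fun a ha => ?_⟩
  · show f (idx (-1)) = z
    rw [← slZ_twelve, hinj 12 (by norm_num)]
    simp [f, nf, nfT, wval, pow_two, hi]
  · show f (idx (slZ a)) = _
    rw [hinj a ha]

end CfsgLib.AEightSyl.Model
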