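import Cfsg.Agent.Lib.AEightSyl.Pieces
import Cfsg.Agent.Lib.AEightSyl.ModelFacts
import Cfsg.Agent.Lib.AEightSyl.ModelWord

/-!
# S2918, piece H1: the centraliser of `z` is the model of `PSp₄(3)`
-/

set_option autoImplicit false
set_option maxRecDepth 100000
set_option linter.style.haveILetI false
set_option linter.unusedSectionVars false

namespace CfsgLib.AEightSyl.Model

open Cfsg Subgroup CfsgLib.L34Sylow CfsgLib.U42

universe u

variable {G : Type u} [Group G] {S : Sylow 2 G} {φ : El → G}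

section Frame

variable (hφ : Setup S φ) (hF : Facts S φ) (hB : BigCent φ) (h0 : CoreTrivial φ)
include hφ hF hB h0

theorem phi_one : φ (v0, t0) = 1 := by
  have h := hφ.mul (v0, t0) (v0, t0)
  rw [el_facts.2.2.1] at h
  exact mul_eq_left.1 h

theorem z_sq : zc φ * zc φ = 1 := by
  show φ zE * φ zE = 1
  rw [hφ.mul, (el_facts.1 zE).2.1, phi_one hφ hF hB h0]

theorem z_ne : zc φ ≠ 1 := fun h => el_facts.2.2.2.1
  (hφ.inj (h.trans (phi_one hφ hF hB h0).symm))

theorem phi_comm_z (e : El) : Commute (φ e) (zc φ) := by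
  show φ e * φ zE = φ zE * φ e
  rw [hφ.mul, hφ.mul, (el_facts.1 e).1]

theorem phi_mem_C (e : El) : φ e ∈ cz (zc φ) :=
  mem_centralizer_singleton_iff.2 (phi_comm_z hφ hF hB h0 e).eq

omit hφ hF hB h0 in
/-- The representatives of the six classes. -/
def q (φ : El → G) (y : Bool × Fin 3) : G := φ (qel y)

omit hφ hF hB h0 in
/-- In the class `y` modulo `z`. -/
def Cls (φ : El → G) (x : G) (y : Bool × Fin 3) : Prop := x = q φ y ∨ x = q φ y * zc φ

theorem q_sq (y : Bool × Fin 3) : q φ y * q φ y = zc φ := by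
  show φ (qel y) * φ (qel y) = φ zE
  rw [hφ.mul, (qel_facts.1 y).2]

theorem cls_unique {x : G} {y y' : Bool × Fin 3} (h : Cls φ x y) (h' : Cls φ x y') : y = y' := by
  have key : ∀ a b : Bool × Fin 3, q φ a = q φ b * zc φ → a = b := fun a b e =>
    qel_facts.2.2.1 a b (Or.inr (hφ.inj (e.trans (hφ.mul _ _))))
  rcases h with rfl | rfl <;> rcases h' with e | e
  · exact qel_facts.2.2.1 y y' (Or.inl (hφ.inj e))
  · exact key _ _ e
  · exact (key _ _ e.symm).symm
  · exact qel_facts.2.2.1 y y' (Or.inl (hφ.inj (mul_right_cancel e)))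

theorem cls_mul_z {x : G} {y : Bool × Fin 3} (h : Cls φ x y) : Cls φ (x * zc φ) y := by
  rcases h with rfl | rfl
  · exact Or.inr rfl
  · exact Or.inl (by rw [mul_assoc, z_sq hφ hF hB h0, mul_one])

theorem cls_sq {x : G} {y : Bool × Fin 3} (h : Cls φ x y) : x * x = zc φ := by
  rcases h with rfl | rfl
  · exact q_sq hφ hF hB h0 y
  · rw [(show Commute (zc φ) (q φ y) from (phi_comm_z hφ hF hB h0 (qel y)).symm).mul_mul_mul_comm,
      q_sq hφ hF hB h0 y,
      z_sq hφ hF hB h0, mul_one]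

theorem cls_commute {x x' : G} {y y' : Bool × Fin 3} (h : Cls φ x y) (h' : Cls φ x' y') :
    Commute x x' ↔ (y.1 ≠ y'.1 ∨ y.2 = y'.2) := by
  have hz : ∀ y, Commute (q φ y) (zc φ) := fun y => phi_comm_z hφ hF hB h0 _
  have hzz := z_sq hφ hF hB h0
  have key : ∀ a b : G, Commute a (zc φ) → Commute b (zc φ) →
      (Commute (a * zc φ) b ↔ Commute a b) := fun a b ha hb => by
    refine ⟨fun h => ?_, fun h => h.mul_left hb.symm⟩
    have := h.mul_left hb.symm
    rwa [mul_assoc, hzz, mul_one] at this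
  have h1 : Commute x x' ↔ Commute (q φ y) (q φ y') := by
    rcases h with rfl | rfl <;> rcases h' with rfl | rfl
    · rfl
    · rw [Commute.symm_iff, key _ _ (hz _) (hz _), Commute.symm_iff]
    · rw [key _ _ (hz _) (hz _)]
    · rw [key _ _ (hz _) ((hz _).mul_left (Commute.refl _)), Commute.symm_iff,
        key _ _ (hz _) (hz _), Commute.symm_iff]
  rw [h1, ← qel_facts.2.1]
  show φ (qel y) * φ (qel y') = φ (qel y') * φ (qel y) ↔ _
  rw [hφ.mul, hφ.mul, hφ.inj.eq_iff]

theorem conj_z {g : G} (hg : g ∈ cz (zc φ)) : g * zc φ * g⁻¹ = zc φ := by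
  rw [mem_centralizer_singleton_iff.1 hg, mul_inv_cancel_right]

theorem exists_cls (g : ↥(cz (zc φ))) (y : Bool × Fin 3) :
    ∃ y', Cls φ ((g : G) * q φ y * (g : G)⁻¹) y' := by
  obtain ⟨o, ho, n, hn, hgn⟩ := hB.frattini g g.2
  have ho1 : o = 1 := by rwa [show core (zc φ) = ⊥ from h0, mem_bot] at ho
  rw [ho1, one_mul] at hgn
  have hN : (g : G) ∈ normalizer (SQ φ : Set G) := hgn ▸ hn.1
  obtain ⟨v, s, hv, hvs⟩ := (hF.mem_Q _).1 ((mem_normalizer_iff.1 hN _).1
    ((hF.mem_Q (q φ y)).2 ⟨_, _, (qel_facts.1 y).1, rfl⟩))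
  have h2 : φ (v, s) * φ (v, s) = φ zE := by
    rw [hvs, conj_mul, q_sq hφ hF hB h0, conj_z hφ hF hB h0 g.2]
    rfl
  rw [hφ.mul] at h2
  obtain ⟨y', hy⟩ := qel_cover (v, s) hv (hφ.inj h2)
  refine ⟨y', ?_⟩
  rw [← hvs]
  rcases hy with e | e <;> rw [e]
  · exact Or.inl rfl
  · exact Or.inr (hφ.mul _ _).symm

/-- The action on the six classes. -/
noncomputable def act' (g : ↥(cz (zc φ))) (y : Bool × Fin 3) : Bool × Fin 3 :=
  (exists_cls hφ hF hB h0 g y).choose

local notation "π" => act' hφ hF hB h0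

theorem act_spec {x : G} {y : Bool × Fin 3} (g : ↥(cz (zc φ))) (h : Cls φ x y) :
    Cls φ ((g : G) * x * (g : G)⁻¹) (π g y) := by
  have hc := (exists_cls hφ hF hB h0 g y).choose_spec
  rcases h with rfl | rfl
  · exact hc
  · rw [← conj_mul, conj_z hφ hF hB h0 g.2]
    exact cls_mul_z hφ hF hB h0 hc

theorem act_eq {x : G} {y y' : Bool × Fin 3} (g : ↥(cz (zc φ))) (h : Cls φ x y)
    (h' : Cls φ ((g : G) * x * (g : G)⁻¹) y') : π g y = y' :=
  cls_unique hφ hF hB h0 (act_spec hφ hF hB h0 g h) h'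

theorem act_mul (g g' : ↥(cz (zc φ))) (y : Bool × Fin 3) : π (g * g') y = π g (π g' y) := by
  refine act_eq hφ hF hB h0 (x := q φ y) _ (Or.inl rfl) ?_
  have h := act_spec hφ hF hB h0 g (act_spec hφ hF hB h0 g' (y := y) (Or.inl rfl))
  simpa [mul_assoc] using h

theorem act_one (y : Bool × Fin 3) : π 1 y = y :=
  act_eq hφ hF hB h0 (x := q φ y) _ (Or.inl rfl) (by
    rw [OneMemClass.coe_one, one_mul, inv_one, mul_one]
    exact Or.inl rfl)

theorem act_pow (g : ↥(cz (zc φ))) (n : ℕ) (y : Bool × Fin 3) : π (g ^ n) y = (π g)^[n] y := by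
  induction n generalizing y with
  | zero => rw [pow_zero, act_one]; rfl
  | succ n ih => rw [pow_succ, act_mul, ih]; rfl

theorem act_inj (g : ↥(cz (zc φ))) : Function.Injective (π g) := fun y y' e => by
  rw [← act_one hφ hF hB h0 y, ← act_one hφ hF hB h0 y', ← inv_mul_cancel g, act_mul, act_mul, e]

/-- Whether the factors are exchanged. -/
noncomputable def flip (g : ↥(cz (zc φ))) : Bool := (π g (false, 0)).1

theorem act_fst (g : ↥(cz (zc φ))) (y : Bool × Fin 3) :
    (π g y).1 = xor y.1 (flip hφ hF hB h0 g) := by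
  have rel : ∀ x y : Bool × Fin 3,
      ((π g x).1 ≠ (π g y).1 ∨ (π g x).2 = (π g y).2) ↔ (x.1 ≠ y.1 ∨ x.2 = y.2) := by
    intro x y
    have hx : Cls φ (q φ x) x := Or.inl rfl
    have hy : Cls φ (q φ y) y := Or.inl rfl
    rw [← cls_commute hφ hF hB h0 (act_spec hφ hF hB h0 g hx) (act_spec hφ hF hB h0 g hy),
      ← cls_commute hφ hF hB h0 hx hy]
    exact Commute.conj_iff _
  have diff : ∀ x y : Bool × Fin 3, x.1 ≠ y.1 → (π g x).1 ≠ (π g y).1 := fun x y h e => by
    rcases (rel x y).2 (Or.inl h) with h' | h'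
    · exact h' e
    · exact h (congrArg Prod.fst (act_inj hφ hF hB h0 g (Prod.ext e h')))
  obtain ⟨f, m⟩ := y
  have h1 := diff (true, m) (false, 0) (by simp)
  cases f
  · have h2 := diff (true, m) (false, m) (by simp)
    revert h1 h2
    unfold flip
    cases (π g (true, m)).1 <;> cases (π g (false, m)).1 <;> cases (π g (false, 0)).1 <;> simp
  · revert h1
    unfold flip
    cases (π g (true, m)).1 <;> cases (π g (false, 0)).1 <;> simp

theorem flip_mul (g g' : ↥(cz (zc φ))) :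
    flip hφ hF hB h0 (g * g') = xor (flip hφ hF hB h0 g) (flip hφ hF hB h0 g') := by
  rw [flip, act_mul, act_fst, Bool.xor_comm]
  rfl

theorem flip_pow (g : ↥(cz (zc φ))) (n : ℕ) : flip hφ hF hB h0 (g ^ n) =
    (flip hφ hF hB h0 g && decide (n % 2 = 1)) := by
  induction n with
  | zero => rw [pow_zero, flip, act_one]; simp
  | succ n ih =>
    rw [pow_succ, flip_mul, ih]
    rcases Nat.mod_two_eq_zero_or_one n with h | h <;>
      cases flip hφ hF hB h0 g <;> simp [Nat.add_mod, h]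

theorem flip_nine {t : ↥(cz (zc φ))} (ht : t ^ 9 = 1) : flip hφ hF hB h0 t = false := by
  have h := flip_pow hφ hF hB h0 t 9
  rw [ht, flip, act_one] at h
  simpa using h.symm

/-- The permutation of the classes of one factor. -/
noncomputable def perm3 (t : ↥(cz (zc φ))) (f : Bool) (m : Fin 3) : Fin 3 := (π t (f, m)).2

theorem act_of_nine {t : ↥(cz (zc φ))} (ht : t ^ 9 = 1) (f : Bool) (m : Fin 3) :
    π t (f, m) = (f, perm3 hφ hF hB h0 t f m) := by
  refine Prod.ext ?_ rfl
  rw [act_fst, flip_nine hφ hF hB h0 ht]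
  simp

theorem perm3_nine {t : ↥(cz (zc φ))} (ht : t ^ 9 = 1) (f : Bool) (m : Fin 3) :
    (perm3 hφ hF hB h0 t f)^[9] m = m := by
  have h : ∀ n, (π t)^[n] (f, m) = (f, (perm3 hφ hF hB h0 t f)^[n] m) := fun n => by
    induction n with
    | zero => rfl
    | succ n ih =>
      rw [Function.iterate_succ_apply', ih, act_of_nine hφ hF hB h0 ht,
        Function.iterate_succ_apply']
  have h9 := h 9
  rw [← act_pow, ht, act_one] at h9
  exact (congrArg Prod.snd h9).symm

theorem eq_one_or_z {g : G} (hg : g ∈ cz (zc φ)) (hc : ∀ y, Commute g (q φ y)) :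
    g = 1 ∨ g = zc φ := by
  have hgz : Commute g (zc φ) := mem_centralizer_singleton_iff.1 hg
  have hl : Commute g (av φ (true, false, false, false)) := by
    obtain ⟨x, y, e | e⟩ := line_product <;> show Commute g (φ _) <;> rw [e]
    · rw [← hφ.mul]
      exact (hc x).mul_right (hc y)
    · rw [← hφ.mul, ← hφ.mul]
      exact ((hc x).mul_right (hc y)).mul_right hgz
  obtain ⟨o, ho, r, hr, e⟩ := hB.cent 0 (true, false, false, false) (by decide) (by decide)
    (by decide) g ⟨hg, mem_centralizer_singleton_iff.2 hl.eq⟩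
  have ho1 : o = 1 := by rwa [show core (zc φ) = ⊥ from h0, mem_bot] at ho
  rw [ho1, one_mul] at e
  obtain ⟨a, rfl⟩ := hφ.surj g (hF.le_S.2.2 0 (e ▸ hr))
  rcases el_central a (fun y => hφ.inj (by rw [← hφ.mul, ← hφ.mul]; exact (hc y).eq)) with h | h
  · left; rw [h, phi_one hφ hF hB h0]
  · right; rw [h]; rfl

theorem pow_odd_cls {s : ↥(cz (zc φ))} {n : ℕ} (hn : n % 2 = 1) (hs : s ^ n = 1)
    {y : Bool × Fin 3} (h : π s y = y) : Commute (s : G) (q φ y) := by
  have hq : ∀ k : ℕ, (s : G) * q φ y * (s : G)⁻¹ = q φ y * zc φ →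
      ((s : G) ^ k) * q φ y * ((s : G) ^ k)⁻¹ = q φ y * zc φ ^ k := by
    intro k hz
    induction k with
    | zero => simp
    | succ k ih =>
      rw [pow_succ' (s : G), show (s : G) * (s : G) ^ k * q φ y * ((s : G) * (s : G) ^ k)⁻¹ =
        (s : G) * ((s : G) ^ k * q φ y * ((s : G) ^ k)⁻¹) * (s : G)⁻¹ by group, ih, ← conj_mul, hz,
        ← conj_pow, conj_z hφ hF hB h0 s.2, pow_succ', mul_assoc]
  have hc := act_spec hφ hF hB h0 s (x := q φ y) (y := y) (Or.inl rfl)
  rw [h] at hc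
  rcases hc with e | e
  · exact mul_inv_eq_iff_eq_mul.1 e
  · have := hq n e
    rw [show (s : G) ^ n = 1 by rw [← SubmonoidClass.coe_pow, hs]; rfl, one_mul, inv_one, mul_one,
      ← Nat.div_add_mod n 2, hn, pow_succ, pow_mul, pow_two, z_sq hφ hF hB h0, one_pow,
      one_mul] at this
    exact absurd (left_eq_mul.1 this) (z_ne hφ hF hB h0)

theorem eq_one_of_fixed {s : ↥(cz (zc φ))} (hs : s ^ 9 = 1) (h : ∀ y, π s y = y) : s = 1 := by
  rcases eq_one_or_z hφ hF hB h0 s.2 (fun y => pow_odd_cls hφ hF hB h0 (n := 9) rfl hs (h y)) with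
    e | e
  · exact Subtype.ext e
  · have h9 : (s : G) ^ 9 = 1 := by rw [← SubmonoidClass.coe_pow, hs]; rfl
    rw [e, show 9 = 2 * 4 + 1 from rfl, pow_succ, pow_mul, pow_two, z_sq hφ hF hB h0, one_pow,
      one_mul] at h9
    exact absurd h9 (z_ne hφ hF hB h0)

theorem fixed_of_zero {s : ↥(cz (zc φ))} (hs : s ^ 9 = 1) {f : Bool}
    (h : π s (f, 0) = (f, 0)) (m : Fin 3) : π s (f, m) = (f, m) := by
  rw [act_of_nine hφ hF hB h0 hs, iterate_facts.1 _ (perm3_nine hφ hF hB h0 hs f) 0 (by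
    rw [perm3, h])]

theorem exists_three [Finite G] (hcard : Nat.card (cz (zc φ)) = 576) :
    ∃ c : ↥(cz (zc φ)), (c : G) ^ 3 = 1 ∧ (c : G) ≠ 1 ∧ (∀ m, π c (false, m) = (false, m + 1)) ∧
      ∀ m, Commute (c : G) (q φ (true, m)) := by
  haveI : Fact (Nat.Prime 3) := ⟨Nat.prime_three⟩
  obtain ⟨T, hT⟩ := Sylow.exists_subgroup_card_pow_prime 3 (G := ↥(cz (zc φ))) (n := 2)
    (by rw [hcard]; norm_num)
  have h9 : ∀ t : T, (t : ↥(cz (zc φ))) ^ 9 = 1 := fun t => by
    have := orderOf_dvd_natCard t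
    rw [hT] at this
    rw [← SubmonoidClass.coe_pow, show t ^ 9 = 1 from orderOf_dvd_iff_pow_eq_one.1 this]
    rfl
  let F : T → Fin 3 × Fin 3 := fun t =>
    (perm3 hφ hF hB h0 t false 0, perm3 hφ hF hB h0 t true 0)
  have hF' : Function.Bijective F := by
    refine (Nat.bijective_iff_injective_and_card F).2 ⟨fun t t' e => ?_, ?_⟩
    · have h1 : ∀ f, π (t'⁻¹ * t : T) (f, 0) = (f, 0) := fun f => by
        have e' : π (t : ↥(cz (zc φ))) (f, 0) = π (t' : ↥(cz (zc φ))) (f, 0) := by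
          rw [act_of_nine hφ hF hB h0 (h9 t), act_of_nine hφ hF hB h0 (h9 t')]
          have e1 : perm3 hφ hF hB h0 t false 0 = perm3 hφ hF hB h0 t' false 0 :=
            congrArg (fun p : Fin 3 × Fin 3 => p.1) e
          have e2 : perm3 hφ hF hB h0 t true 0 = perm3 hφ hF hB h0 t' true 0 :=
            congrArg (fun p : Fin 3 × Fin 3 => p.2) e
          cases f
          · rw [e1]
          · rw [e2]
        rw [Subgroup.coe_mul, act_mul, e', ← act_mul, InvMemClass.coe_inv, inv_mul_cancel, act_one]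
      have := eq_one_of_fixed hφ hF hB h0 (h9 (t'⁻¹ * t)) fun ⟨f, m⟩ =>
        fixed_of_zero hφ hF hB h0 (h9 _) (h1 f) m
      exact (inv_mul_eq_one.1 (Subtype.ext this)).symm
    · rw [hT, Nat.card_eq_fintype_card]; rfl
  obtain ⟨t, ht⟩ := hF'.2 (1, 0)
  have h1 : perm3 hφ hF hB h0 t false 0 = 1 := congrArg Prod.fst ht
  have h2 : perm3 hφ hF hB h0 t true 0 = 0 := congrArg Prod.snd ht
  have hb : ∀ m, π (t : ↥(cz (zc φ))) (true, m) = (true, m) := fixed_of_zero hφ hF hB h0 (h9 t)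
    (by rw [act_of_nine hφ hF hB h0 (h9 t), h2])
  have h3 : (t : ↥(cz (zc φ))) ^ 3 = 1 := by
    refine eq_one_of_fixed hφ hF hB h0 (by rw [← pow_mul, mul_comm, pow_mul, h9 t, one_pow]) ?_
    rintro ⟨f, m⟩
    rw [act_pow]
    show π _ (π _ (π _ (f, m))) = _
    rw [act_of_nine hφ hF hB h0 (h9 t), act_of_nine hφ hF hB h0 (h9 t),
      act_of_nine hφ hF hB h0 (h9 t),
      (iterate_facts.2 _ (perm3_nine hφ hF hB h0 (h9 t) f)).2 m]
  refine ⟨t, ?_, fun e => ?_, fun m => ?_, fun m => ?_⟩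
  · rw [← SubmonoidClass.coe_pow, h3]; rfl
  · rw [show (t : ↥(cz (zc φ))) = 1 from Subtype.ext e, perm3, act_one] at h1
    exact absurd h1 (by decide)
  · rw [act_of_nine hφ hF hB h0 (h9 t),
      (iterate_facts.2 _ (perm3_nine hφ hF hB h0 (h9 t) false)).1 h1 m]
  · exact pow_odd_cls hφ hF hB h0 (n := 3) rfl h3 (hb m)

/-- The exchanging involution. -/
noncomputable def ww : ↥(cz (zc φ)) := ⟨φ wE, phi_mem_C hφ hF hB h0 wE⟩

theorem w_sq : φ wE * φ wE = 1 := by
  rw [hφ.mul, (el_facts.1 wE).2.2, phi_one hφ hF hB h0]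

theorem w_inv : (φ wE)⁻¹ = φ wE := inv_eq_of_mul_eq_one_right (w_sq hφ hF hB h0)

theorem w_act (m : Fin 3) : π (ww hφ hF hB h0) (false, m) = (true, m) := by
  refine act_eq hφ hF hB h0 (x := q φ (false, m)) _ (Or.inl rfl) (Or.inl ?_)
  show φ wE * φ (qel (false, m)) * (φ wE)⁻¹ = φ (qel (true, m))
  rw [w_inv hφ hF hB h0, hφ.mul, hφ.mul]
  rfl

theorem w_flip : flip hφ hF hB h0 (ww hφ hF hB h0) = true := by
  rw [flip, w_act]

end Frame

/-- **Piece H1 of S2918.** -/
theorem model : StmtModel.{u} := by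
  intro G _ _ S φ hφ hF _ hRot hB h0
  classical
  have hcard : Nat.card (cz (zc φ)) = 576 := by
    rw [← hB.card.2 hRot, show core (zc φ) = ⊥ from h0, relIndex_bot_left]
  set z := zc φ with hzdef
  have hzz : z * z = 1 := z_sq hφ hF hB h0
  have hz1 : z ≠ 1 := z_ne hφ hF hB h0
  set w := φ wE with hwdef
  have hww : w * w = 1 := w_sq hφ hF hB h0
  have hwz : Commute w z := phi_comm_z hφ hF hB h0 wE
  obtain ⟨c, hc3, hc1, hca, hcb⟩ := exists_three hφ hF hB h0 hcard
  have hzc : Commute z (c : G) := Commute.symm (mem_centralizer_singleton_iff.1 c.2)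
  -- the normalised generator
  have hstep : ∀ {x : G} {m : Fin 3}, Cls φ x (false, m) →
      Cls φ ((c : G) * x * (c : G)⁻¹) (false, m + 1) := fun {x m} h => by
    have := act_spec hφ hF hB h0 c h
    rwa [hca m] at this
  obtain ⟨i, hi, hk⟩ : ∃ i, Cls φ i (false, 0) ∧
      i * ((c : G) * i * (c : G)⁻¹) = (c : G) * ((c : G) * i * (c : G)⁻¹) * (c : G)⁻¹ := by
    set i0 := q φ (false, 0) with hi0
    have h1 : Cls φ ((c : G) * i0 * (c : G)⁻¹) (false, 1) := hstep (Or.inl hi0)
    have h2 : Cls φ ((c : G) * ((c : G) * i0 * (c : G)⁻¹) * (c : G)⁻¹) (false, 2) := hstep h1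
    have hij : q φ (false, 0) * q φ (false, 1) = q φ (false, 2) := by
      show φ _ * φ _ = φ _
      rw [hφ.mul, qel_facts.2.2.2]
    have h3 : Cls φ (i0 * ((c : G) * i0 * (c : G)⁻¹)) (false, 2) := by
      rcases h1 with e | e <;> rw [e]
      · exact Or.inl hij
      · exact Or.inr (by rw [← mul_assoc, hij])
    have hi0z : Commute i0 z := phi_comm_z hφ hF hB h0 _
    have hcz : (c : G) * z * (c : G)⁻¹ = z := conj_z hφ hF hB h0 c.2
    by_cases hh : i0 * ((c : G) * i0 * (c : G)⁻¹) = (c : G) * ((c : G) * i0 * (c : G)⁻¹) * (c : G)⁻¹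
    · exact ⟨i0, Or.inl hi0, hh⟩
    refine ⟨i0 * z, Or.inr (by rw [hi0]), ?_⟩
    have e1 : (c : G) * (i0 * z) * (c : G)⁻¹ = (c : G) * i0 * (c : G)⁻¹ * z := by
      rw [← conj_mul, hcz]
    rw [e1, show (c : G) * ((c : G) * i0 * (c : G)⁻¹ * z) * (c : G)⁻¹
      = (c : G) * ((c : G) * i0 * (c : G)⁻¹) * (c : G)⁻¹ * z by rw [← conj_mul, hcz]]
    have hcz' : Commute ((c : G) * i0 * (c : G)⁻¹) z := (hzc.symm.mul_left hi0z).mul_left
      hzc.symm.inv_left
    rw [hcz'.symm.mul_mul_mul_comm, hzz, mul_one]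
    rcases h3 with a | a <;> rcases h2 with b | b <;> rw [a, b] at hh ⊢
    · exact absurd rfl hh
    · rw [mul_assoc, hzz, mul_one]
    · exact absurd rfl hh
  have hii : i * i = z := cls_sq hφ hF hB h0 hi
  obtain ⟨sl, hsl1, hsl⟩ := exists_sl hzz hii hzc hc3 hk
  set j := (c : G) * i * (c : G)⁻¹ with hj
  have hjcls : Cls φ j (false, 1) := hstep hi
  have hzi : Commute i z := by
    rw [← hii]; exact (Commute.refl i).mul_right (Commute.refl i)
  -- commutation with the other factor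
  have hiB : ∀ {x : G} {m : Fin 3}, Cls φ x (true, m) → Commute i x ∧ Commute (c : G) x :=
    fun {x m} h => ⟨(cls_commute hφ hF hB h0 hi h).2 (Or.inl (by simp)), by
      rcases h with rfl | rfl
      · exact hcb m
      · exact (hcb m).mul_right hzc.symm⟩
  have hAB : ∀ {x : G} {m : Fin 3}, Cls φ x (false, m) →
      ∃ m', Cls φ (w * x * w⁻¹) (true, m') := fun {x m} h => ⟨m, by
    have := act_spec hφ hF hB h0 (ww hφ hF hB h0) h
    rwa [w_act] at this⟩
  obtain ⟨mi, hwi⟩ := hAB hi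
  have hwinv : w⁻¹ = w := inv_eq_of_mul_eq_one_right hww
  set i' := w * i * w⁻¹ with hi'
  set c' := w * (c : G) * w⁻¹ with hc'
  have hc'C : c' ∈ cz z := mem_centralizer_singleton_iff.2
    ((hwz.mul_left hzc.symm).mul_left hwz.inv_left).eq
  have hback : ∀ {x y : G}, Commute x (w * y * w⁻¹) → Commute (w * x * w⁻¹) y := fun {x y} h => by
    have h' := (Commute.conj_iff w).2 h
    rwa [show w * (w * y * w⁻¹) * w⁻¹ = (w * w) * y * (w * w)⁻¹ by group, hww, one_mul, inv_one,
      mul_one] at h'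
  have hc'A : ∀ m, Commute c' (q φ (false, m)) := fun m => by
    obtain ⟨m', h⟩ := hAB (x := q φ (false, m)) (Or.inl rfl)
    exact hback (hiB h).2
  have hci' : Commute (c : G) i' := (hiB hwi).2
  have hic' : Commute i c' := (hback hci').symm
  have hcc' : Commute (c : G) c' := by
    have hc'3 : c' ^ 3 = 1 := by rw [hc', conj_pow, hc3, mul_one, mul_inv_cancel]
    have hq : ∀ y, Commute ((c : G) * c' * (c : G)⁻¹ * c'⁻¹) (q φ y) := by
      rintro ⟨f, m⟩
      cases f
      · have h1 : Commute ((c : G) * c' * (c : G)⁻¹) (q φ (false, m)) := by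
          have hx := hstep (x := q φ (false, m - 1)) (m := m - 1) (Or.inl rfl)
          rw [sub_add_cancel] at hx
          have h := (Commute.conj_iff (c : G)).2 (hc'A (m - 1))
          rcases hx with e | e <;> rw [e] at h
          · exact h
          · have := h.mul_right (((hzc.symm.mul_left
              (mem_centralizer_singleton_iff.1 hc'C : Commute c' z)).mul_left hzc.symm.inv_left))
            rwa [mul_assoc (q φ (false, m)), show zc φ * z = 1 from hzz, mul_one] at this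
        exact h1.mul_left (hc'A m).inv_left
      · have hc'B : Commute (c' * (c : G)⁻¹ * c'⁻¹) (q φ (true, m)) := by
          have hflip : flip hφ hF hB h0 ⟨c', hc'C⟩ = false := by
            refine flip_nine hφ hF hB h0 (Subtype.ext ?_)
            show c' ^ 9 = 1
            rw [show 9 = 3 * 3 from rfl, pow_mul, hc'3, one_pow]
          have hx := act_spec hφ hF hB h0 ⟨c', hc'C⟩⁻¹ (x := q φ (true, m)) (y := (true, m))
            (Or.inl rfl)
          have hf : (act' hφ hF hB h0 (⟨c', hc'C⟩ : ↥(cz z))⁻¹ (true, m)).1 = true := by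
            have h1 := flip_mul hφ hF hB h0 (⟨c', hc'C⟩ : ↥(cz z))⁻¹ ⟨c', hc'C⟩
            rw [inv_mul_cancel, hflip, flip, act_one] at h1
            rw [act_fst, show flip hφ hF hB h0 (⟨c', hc'C⟩ : ↥(cz z))⁻¹ = false by simpa using h1.symm]
            rfl
          rw [show (act' hφ hF hB h0 (⟨c', hc'C⟩ : ↥(cz z))⁻¹ (true, m)) =
            (true, (act' hφ hF hB h0 (⟨c', hc'C⟩ : ↥(cz z))⁻¹ (true, m)).2) from Prod.ext hf rfl] at hx
          replace hx : Cls φ (c'⁻¹ * q φ (true, m) * c'⁻¹⁻¹) _ := hx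
          have h := (Commute.conj_iff c').2 (hiB hx).2.inv_left
          rwa [show c' * (c'⁻¹ * q φ (true, m) * c'⁻¹⁻¹) * c'⁻¹ = q φ (true, m) by group] at h
        rw [show (c : G) * c' * (c : G)⁻¹ * c'⁻¹ = (c : G) * (c' * (c : G)⁻¹ * c'⁻¹) by group]
        exact (hcb m).mul_left hc'B
    rcases eq_one_or_z hφ hF hB h0
      (mul_mem (mul_mem (mul_mem c.2 hc'C) (inv_mem c.2)) (inv_mem hc'C)) hq with e | e
    · exact mul_inv_eq_iff_eq_mul.1 (mul_inv_eq_one.1 e)
    · exfalso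
      have h' : (c : G) * c' * (c : G)⁻¹ = z * c' := mul_inv_eq_iff_eq_mul.1 e
      have h3 := congrArg (· ^ 3) h'
      rw [conj_pow, hc'3, mul_one, mul_inv_cancel,
        (show Commute z c' from (mem_centralizer_singleton_iff.1 hc'C).symm).mul_pow, hc'3, mul_one,
        pow_succ, pow_two, hzz, one_mul] at h3
      exact hz1 h3.symm
  have hwval : ∀ n n' : ℕ × ℕ × ℕ,
      Commute (wval i (c : G) n) (w * wval i (c : G) n' * w⁻¹) := by
    intro n n'
    have hgen : ∀ {x : G}, Commute x i' → Commute x c' →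
        Commute x (w * wval i (c : G) n' * w⁻¹) := fun {x} hxi hxc => by
      rw [wval, ← conj_mul, ← conj_mul, ← conj_pow, ← conj_pow, ← conj_pow, ← conj_mul, ← conj_mul,
        show w * (c : G)⁻¹ * w⁻¹ = c'⁻¹ by rw [hc', conj_inv]]
      exact (((hxi.pow_right _).mul_right (((hxc.mul_right hxi).mul_right hxc.inv_right).pow_right _)
        ).mul_right (hxc.pow_right _))
    have hI := hgen (hiB hwi).1 hic'
    have hC := hgen hci' hcc'
    exact ((hI.pow_left _).mul_left (((hC.mul_left hI).mul_left hC.inv_left).pow_left _)).mul_left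
      (hC.pow_left _)
  have hslval : ∀ x, ∃ a < 24, U42.slZ a = x ∧ sl x = wval i (c : G) (nf a) := fun x => by
    obtain ⟨a, ha, rfl⟩ := PSpAmalgam.slZ_surj x
    exact ⟨a, ha, rfl, hsl a ha⟩
  have hiC : i ∈ cz z := mem_centralizer_singleton_iff.2 hzi.eq
  have hwvC : ∀ n, wval i (c : G) n ∈ cz z := fun n =>
    mul_mem (mul_mem (pow_mem hiC _) (pow_mem (mul_mem (mul_mem c.2 hiC) (inv_mem c.2)) _))
      (pow_mem c.2 _)
  have hslC : ∀ x, sl x ∈ cz z := fun x => by
    obtain ⟨a, -, -, e⟩ := hslval x; rw [e]; exact hwvC _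
  have hconC : ∀ x, w * sl x * w⁻¹ ∈ cz z := fun x =>
    mul_mem (mul_mem (phi_mem_C hφ hF hB h0 wE) (hslC x)) (inv_mem (phi_mem_C hφ hF hB h0 wE))
  -- `sl` is injective
  have hker : ∀ a < 24, wval i (c : G) (nf a) = 1 ∨ wval i (c : G) (nf a) = z → a = 0 ∨ a = 12 := by
    intro a ha h
    obtain ⟨hq, hr, -, -⟩ := table.1 a (List.mem_range.2 ha)
    set p := (nf a).1
    set qq := (nf a).2.1
    set r := (nf a).2.2
    have hW : wval i (c : G) (nf a) = i ^ p * j ^ qq * (c : G) ^ r := rfl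
    rw [hW] at h
    have hQ : ∀ {x : G} {y}, Cls φ x y → x ∈ SQ φ := fun {x y} hx => by
      have hq' : q φ y ∈ SQ φ := (hF.mem_Q _).2 ⟨_, _, (qel_facts.1 y).1, rfl⟩
      rcases hx with rfl | rfl
      · exact hq'
      · exact mul_mem hq' ((hF.mem_Q _).2 ⟨vz, t0, rfl, rfl⟩)
    obtain ⟨v, s, hv, hvs⟩ := (hF.mem_Q _).1 (mul_mem (pow_mem (hQ hi) p) (pow_mem (hQ hjcls) qq))
    have hx4 : (i ^ p * j ^ qq) ^ 4 = 1 := by
      rw [← hvs, show 4 = 2 + 2 from rfl, pow_add, pow_two, hφ.mul, hφ.mul,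
        el_facts.2.1 _ hv, phi_one hφ hF hB h0]
    set x := i ^ p * j ^ qq with hx
    have hxz : Commute x z := mem_centralizer_singleton_iff.1 (mul_mem (pow_mem hiC p)
      (pow_mem (mul_mem (mul_mem c.2 hiC) (inv_mem c.2)) qq))
    have hcr : (c : G) ^ (4 * r) = 1 := by
      rw [mul_comm, pow_mul]
      rcases h with e | e
      · rw [(inv_eq_of_mul_eq_one_right e).symm, inv_pow, hx4, inv_one]
      · rw [show (c : G) ^ r = x⁻¹ * z from eq_inv_mul_iff_mul_eq.2 e, hxz.inv_left.mul_pow, inv_pow,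
          hx4, inv_one, one_mul, show z ^ 4 = z * z * (z * z) by simp [pow_succ, mul_assoc], hzz,
          one_mul]
    have hr0 : r = 0 := by
      by_contra hne
      have : orderOf (c : G) = 3 := orderOf_eq_prime hc3 hc1
      have hdvd := orderOf_dvd_of_pow_eq_one hcr
      rw [this] at hdvd
      omega
    rw [hr0, pow_zero, mul_one] at h
    have hnc : ¬ Commute i j := fun e => by
      rcases (cls_commute hφ hF hB h0 hi hjcls).1 e with h' | h' <;> simp at h'
    have hq0 : qq = 0 := by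
      by_contra hne
      have hq1 : qq = 1 := by omega
      refine hnc ?_
      have : Commute i x := by
        rcases h with e | e <;> rw [e]
        · exact Commute.one_right _
        · exact hzi
      rw [hx, hq1, pow_one] at this
      have := ((Commute.pow_self i p).symm.inv_right).mul_right this
      rwa [inv_mul_cancel_left] at this
    rw [hx, hq0, pow_zero, mul_one] at h
    refine nf_central a (List.mem_range.2 ha) hq0 hr0 ?_
    have h4 : p < 4 := (by decide +kernel : ∀ a ∈ List.range 24, (nf a).1 < 4) a (List.mem_range.2 ha)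
    by_contra hne
    push Not at hne
    have hp : p = 1 ∨ p = 3 := by omega
    refine hnc ?_
    have hi1 : i = 1 ∨ i = z := by
      rcases hp with e | e
      · rwa [e, pow_one] at h
      · rw [e, show 3 = 2 + 1 from rfl, pow_succ, pow_two, hii] at h
        rcases h with e' | e'
        · exact Or.inr ((eq_inv_of_mul_eq_one_right e').trans (inv_eq_of_mul_eq_one_right hzz))
        · exact Or.inl (mul_eq_left.1 e')
    rcases hi1 with e | e <;> rw [e]
    · exact Commute.one_left _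
    · exact (mem_centralizer_singleton_iff.1 (mul_mem (mul_mem c.2 hiC) (inv_mem c.2))).symm
  have hsl_inj : Function.Injective sl := (injective_iff_map_eq_one sl).2 fun x hx => by
    obtain ⟨a, ha, rfl, e⟩ := hslval x
    rcases hker a ha (Or.inl (e.symm.trans hx)) with rfl | rfl
    · exact PSpAmalgam.slZ_zero
    · rw [PSpAmalgam.slZ_twelve, hsl1] at hx
      exact absurd hx hz1
  -- parity
  have hflip_i : flip hφ hF hB h0 ⟨i, hiC⟩ = false := by
    rw [flip, act_eq hφ hF hB h0 (x := i) (y' := (false, 0)) _ hi (by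
      show Cls φ (i * i * i⁻¹) _
      rwa [mul_inv_cancel_right])]
  have hflip_c : flip hφ hF hB h0 c = false := by rw [flip, hca]
  have hflip_sl : ∀ x, flip hφ hF hB h0 ⟨sl x, hslC x⟩ = false := fun x => by
    obtain ⟨a, -, -, e⟩ := hslval x
    have hsub : (⟨sl x, hslC x⟩ : ↥(cz z)) = (⟨i, hiC⟩ : ↥(cz z)) ^ (nf a).1 *
        (c * ⟨i, hiC⟩ * c⁻¹) ^ (nf a).2.1 * c ^ (nf a).2.2 := Subtype.ext e
    have hci : flip hφ hF hB h0 c⁻¹ = false := by
      have h1 := flip_mul hφ hF hB h0 c⁻¹ c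
      rw [inv_mul_cancel, hflip_c, flip, act_one] at h1
      simpa using h1.symm
    rw [hsub, flip_mul, flip_mul, flip_pow, flip_pow, flip_pow, flip_mul, flip_mul, hflip_i,
      hflip_c, hci]
    simp
  let W := ww hφ hF hB h0
  have hflip_con : ∀ x, flip hφ hF hB h0 ⟨w * sl x * w⁻¹, hconC x⟩ = false := fun x => by
    have hW : W⁻¹ = W := Subtype.ext hwinv
    rw [show (⟨w * sl x * w⁻¹, hconC x⟩ : ↥(cz z)) = W * ⟨sl x, hslC x⟩ * W⁻¹ from rfl, hW,
      flip_mul, flip_mul, hflip_sl, w_flip hφ hF hB h0]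
    rfl
  -- the element with both descriptions is central
  have hmid : ∀ x y, sl x = w * sl y * w⁻¹ → sl x = 1 ∨ sl x = z := by
    intro x y e
    refine eq_one_or_z hφ hF hB h0 (hslC x) fun ⟨f, m⟩ => ?_
    cases f
    · obtain ⟨a, -, -, ea⟩ := hslval y
      obtain ⟨m', hm'⟩ := hAB (x := q φ (false, m)) (Or.inl rfl)
      obtain ⟨h1, h2⟩ := hiB hm'
      rw [e, ea]
      exact hback (((h1.pow_left _).mul_left (((h2.mul_left h1).mul_left h2.inv_left).pow_left _)).mul_left
        (h2.pow_left _))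
    · obtain ⟨a, -, -, ea⟩ := hslval x
      obtain ⟨h1, h2⟩ := hiB (x := q φ (true, m)) (Or.inl rfl)
      rw [ea]
      exact ((h1.pow_left _).mul_left (((h2.mul_left h1).mul_left h2.inv_left).pow_left _)).mul_left
        (h2.pow_left _)
  refine PSpAmalgam.cen_of_factor (a := w) sl hsl1 (orderOf_eq_prime (by rw [pow_two, hzz]) hz1)
    hww hwz.eq (fun x y => ?_) hcard fun g hg => ?_
  · obtain ⟨a, -, -, e⟩ := hslval x
    obtain ⟨b, -, -, e'⟩ := hslval y
    rw [e, e']
    exact hwval _ _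
  let Φ : Fin 24 × Fin 12 × Fin 2 → ↥(cz z) := fun p =>
    (⟨sl (slZ p.1), hslC _⟩ : ↥(cz z)) * ⟨w * sl (slZ p.2.1) * w⁻¹, hconC _⟩ * W ^ (p.2.2 : ℕ)
  have hΦ : Function.Bijective Φ := by
    refine (Nat.bijective_iff_injective_and_card Φ).2 ⟨?_, by
      rw [hcard, Nat.card_eq_fintype_card]; rfl⟩
    rintro ⟨a, b, e⟩ ⟨a', b', e'⟩ h
    have he : e = e' := by
      have hf := congrArg (flip hφ hF hB h0) h
      simp only [Φ, flip_mul, flip_pow, hflip_sl, hflip_con, W, w_flip hφ hF hB h0] at hf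
      revert hf
      fin_cases e <;> fin_cases e' <;> simp
    subst he
    have h' : sl (slZ a) * (w * sl (slZ b) * w⁻¹) = sl (slZ a') * (w * sl (slZ b') * w⁻¹) :=
      congrArg Subtype.val (mul_right_cancel (show _ * W ^ (e : ℕ) = _ * W ^ (e : ℕ) from h))
    have hg : sl ((slZ a')⁻¹ * slZ a) = w * sl (slZ b' * (slZ b)⁻¹) * w⁻¹ := by
      rw [map_mul, map_inv, map_mul, map_inv, ← conj_mul, ← conj_inv]
      rw [inv_mul_eq_iff_eq_mul, ← mul_assoc, eq_mul_inv_iff_mul_eq]
      exact h'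
    have hb : (b : ℕ) = b' := by
      have hcase := hmid _ _ hg
      have hy : sl (slZ b' * (slZ b)⁻¹) = 1 ∨ sl (slZ b' * (slZ b)⁻¹) = z := by
        rw [hg] at hcase
        rcases hcase with k | k
        · exact Or.inl (conj_eq_one_iff.1 k)
        · refine Or.inr ?_
          have k' : w * sl (slZ b' * (slZ b)⁻¹) * w⁻¹ = w * z * w⁻¹ := by
            rw [k, hwz.eq, mul_inv_cancel_right]
          exact mul_left_cancel (mul_right_cancel k')
      have hb24 : (b : ℕ) < 24 := by omega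
      have hb24' : (b' : ℕ) < 24 := by omega
      rcases hy with k | k
      · exact (matZ_inj _ (List.mem_range.2 hb24') _ (List.mem_range.2 hb24) (by
          rw [← slZ_coe hb24', ← slZ_coe hb24, mul_inv_eq_one.1 (hsl_inj (k.trans sl.map_one.symm))])).symm
      · exfalso
        rw [← hsl1] at k
        have hneg : slZ b' = slZ (slNeg b) := by
          rw [mul_inv_eq_iff_eq_mul.1 (hsl_inj k), PSpAmalgam.slZ_neg hb24, neg_mul, one_mul]
        obtain ⟨-, hlt⟩ := matZ_neg (b : ℕ) (List.mem_range.2 hb24)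
        have := matZ_inj _ (List.mem_range.2 hb24') _ (List.mem_range.2 hlt) (by
          rw [← slZ_coe hb24', ← slZ_coe hlt, hneg])
        rw [slNeg, if_pos b.2] at this
        omega
    have hb' : b = b' := Fin.ext hb
    subst hb'
    rw [mul_inv_cancel, map_one, mul_one, mul_inv_cancel, ← map_one sl] at hg
    have ha := inv_mul_eq_one.1 (hsl_inj hg)
    have ha' : a = a' := Fin.ext (matZ_inj _ (List.mem_range.2 a.2) _ (List.mem_range.2 a'.2) (by
      rw [← slZ_coe a.2, ← slZ_coe a'.2, ha]))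
    rw [ha']
  obtain ⟨⟨a, b, e⟩, hp⟩ := hΦ.2 ⟨g, mem_centralizer_singleton_iff.2 hg⟩
  exact ⟨slZ a, slZ b, e, (congrArg Subtype.val hp).symm⟩

end CfsgLib.AEightSyl.Model
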