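import Cfsg.Agent.Lib.AEightSyl.StabZ
import Cfsg.Agent.Lib.AEightSyl.AutoTwo
import Cfsg.Agent.Lib.AEightSyl.AutoFive
import Cfsg.Agent.Lib.Involutions.ZStar.Main
import Cfsg.Agent.Lib.Base.Cores

/-!
# S2918, piece B2: the orbits on `A`
-/

set_option autoImplicit false
set_option linter.style.haveILetI false
set_option linter.unusedSimpArgs false
set_option linter.unusedSectionVars false
set_option synthInstance.maxSize 4000

namespace CfsgLib.AEightSyl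

open Cfsg Subgroup
open CfsgLib.L34Sylow (cj cz)

universe u

variable {G : Type u} [Group G] [Finite G] {S : Sylow 2 G} {φ : El → G}

/-- A two-group in an overgroup of `S` is conjugate into `S` there. -/
theorem conj_into_S {H Q : Subgroup G} (hH : (S : Subgroup G) ≤ H) (hQH : Q ≤ H) (hQ : IsPGroup 2 Q) :
    ∃ c ∈ H, ∀ q ∈ Q, cj c q ∈ S := by
  haveI : Fact (Nat.Prime 2) := ⟨Nat.prime_two⟩
  obtain ⟨R, hR⟩ := (hQ.comap_of_injective H.subtype H.subtype_injective :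
    IsPGroup 2 (Q.subgroupOf H)).exists_le_sylow
  obtain ⟨c, hc⟩ := MulAction.exists_smul_eq H R (S.subtype hH)
  refine ⟨c, c.2, fun q hq => ?_⟩
  have h1 : c * ⟨q, hQH hq⟩ * c⁻¹ ∈ (S.subtype hH : Subgroup H) := by
    have h2 : (⟨q, hQH hq⟩ : H) ∈ (R : Subgroup H) := hR hq
    rw [← hc, Sylow.coe_subgroup_smul, Subgroup.mem_pointwise_smul_iff_inv_smul_mem, ← map_inv, MulAut.smul_def,
      MulAut.conj_apply]
    simpa [mul_assoc] using h2
  exact h1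

theorem S_le_cz (hS : Setup S φ) (hF : Facts S φ) : (S : Subgroup G) ≤ cz (zc φ) := fun _ hs =>
  mem_centralizer_singleton_iff.2 (((hF.center _ (hS.mem _)).2 (Or.inr rfl) _ hs).symm)

theorem zc_order (hS : Setup S φ) : orderOf (zc φ) = 2 := by
  refine orderOf_eq_prime (hp := ⟨Nat.prime_two⟩) ?_ fun e => vz_ne ((av_eq_one hS).1 e)
  rw [pow_two]
  show av φ vz * av φ vz = 1
  rw [av_mul hS, vadd_self]
  exact Kill.one hS

/-- The central involution is not alone in its orbit. -/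
theorem orbit_moves (hS : Setup S φ) (hF : Facts S φ) : ∃ v, v ≠ vz ∧ Orb (autX hS hF) v := by
  haveI : Fact (Nat.Prime 2) := ⟨Nat.prime_two⟩
  by_contra hcon
  push Not at hcon
  have hzA : ∀ x ∈ SA φ, ZType φ x → x = zc φ := by
    intro x hx hz
    obtain ⟨v, rfl⟩ := (hF.mem_A x).1 hx
    by_contra hne
    exact hcon v (fun e => hne (by rw [e])) ((ztype_iff hS hF v).1 hz)
  have hzS : ∀ x ∈ S, ZType φ x → x = zc φ := by
    intro x hx hz
    obtain ⟨g, hg⟩ := isConj_iff.1 hz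
    have hx2 : x * x = 1 := by
      rw [← hg, show g * zc φ * g⁻¹ * (g * zc φ * g⁻¹) = g * (zc φ) ^ 2 * g⁻¹ by rw [pow_two]; group,
        show (zc φ) ^ 2 = 1 from zc_order hS ▸ pow_orderOf_eq_one _, mul_one, mul_inv_cancel]
    rcases hF.invol x hx hx2 with h | ⟨i, v, hv, e⟩
    · exact hzA x h hz
    exfalso
    obtain ⟨-, -, g₀, h₀, hg₀, hh₀, hcomm⟩ := hF.cent_out i v hv
    rw [e] at hg₀ hh₀
    obtain ⟨g', hg'⟩ := isConj_iff.1 hz.symm
    obtain ⟨Q, hQ⟩ : ∃ Q, Q = ((S : Subgroup G) ⊓ cz x).map (MulAut.conj g').toMonoidHom := ⟨_, rfl⟩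
    have hQp : IsPGroup 2 Q := hQ ▸ (Kill.isPGroup_inf x).map _
    have hQz : Q ≤ cz (zc φ) := by
      rw [hQ, ← hg']; exact Kill.map_cj inf_le_right
    obtain ⟨c, hc, hcS⟩ := conj_into_S (S_le_cz hS hF) hQz hQp
    obtain ⟨k, hk⟩ : ∃ k, k = c * g' := ⟨_, rfl⟩
    have hkS : ∀ y ∈ (S : Subgroup G) ⊓ cz x, cj k y ∈ S := by
      intro y hy
      have h1 := hcS (cj g' y) (hQ ▸ ⟨y, hy, rfl⟩)
      have e1 : cj k y = cj c (cj g' y) := by rw [hk]; show _ * _ * _ = c * (g' * y * g'⁻¹) * c⁻¹; group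
      rw [e1]; exact h1
    have hkx : cj k x = zc φ := by
      have e1 : cj k x = c * zc φ * c⁻¹ := by rw [hk, ← hg']; show _ * _ * _ = _; group
      rw [e1, mem_centralizer_singleton_iff.1 hc, mul_inv_cancel_right]
    have hkz : cj k (zc φ) ∈ SA φ := by
      have h1 := Kill.comm_mem hS hF (hkS _ hg₀) (hkS _ hh₀)
      rw [← hcomm]
      have e1 : cj k (g₀ * h₀ * g₀⁻¹ * h₀⁻¹) = cj k g₀ * cj k h₀ * (cj k g₀)⁻¹ * (cj k h₀)⁻¹ := by
        show k * _ * k⁻¹ = k * g₀ * k⁻¹ * (k * h₀ * k⁻¹) * (k * g₀ * k⁻¹)⁻¹ * (k * h₀ * k⁻¹)⁻¹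
        group
      rw [e1]; exact h1
    have hkz' : cj k (zc φ) = zc φ := hzA _ hkz (isConj_iff.2 ⟨k, rfl⟩)
    have hxz : x = zc φ := mul_left_cancel (mul_right_cancel (hkx.trans hkz'.symm))
    refine Kill.out_notMem hS hF v i ?_
    rw [e, hxz]
    exact (hF.mem_A _).2 ⟨vz, rfl⟩
  have hiso : IsIsolatedInvolution (zc φ) := by
    refine ⟨zc_order hS, fun g hg => ?_⟩
    have hmem : g * zc φ * g⁻¹ ∈ cz (zc φ) := mem_centralizer_singleton_iff.2 hg.symm.eq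
    have hp : IsPGroup 2 (zpowers (g * zc φ * g⁻¹)) := by
      refine IsPGroup.of_card (n := 1) ?_
      rw [Nat.card_zpowers, show g * zc φ * g⁻¹ = MulAut.conj g (zc φ) from rfl, MulEquiv.orderOf_eq, zc_order hS]
      rfl
    obtain ⟨c, hc, hcS⟩ := conj_into_S (S_le_cz hS hF) (zpowers_le.2 hmem) hp
    have h1 := hzS _ (hcS _ (mem_zpowers _)) (isConj_iff.2 ⟨c * g, by
      show c * g * zc φ * (c * g)⁻¹ = c * (g * zc φ * g⁻¹) * c⁻¹
      group⟩)
    calc g * zc φ * g⁻¹ = c⁻¹ * (c * (g * zc φ * g⁻¹) * c⁻¹) * c := by group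
      _ = c⁻¹ * (c * zc φ * c⁻¹) * c := by
          rw [show c * (g * zc φ * g⁻¹) * c⁻¹ = zc φ from h1, mem_centralizer_singleton_iff.1 hc,
            mul_inv_cancel_right]
      _ = zc φ := by group
  have hcen := Involutions.ZStar.mem_center_of_oddCore_eq_bot hiso hS.core_bot
  haveI : (zpowers (zc φ)).Normal := ⟨fun x hx g => by
    have hle : zpowers (zc φ) ≤ Subgroup.center G := zpowers_le.2 hcen
    rwa [mem_center_iff.1 (hle hx) g, mul_inv_cancel_right]⟩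
  have h2 := CfsgLib.Base.le_pCore (p := 2) (G := G) (N := zpowers (zc φ))
    (IsPGroup.of_card (n := 1) (by rw [Nat.card_zpowers, zc_order hS]; rfl))
  rw [hS.pcore_bot, le_bot_iff, zpowers_eq_bot] at h2
  exact vz_ne ((av_eq_one hS).1 h2)

theorem line_mem_pl {k : Fin 3} {v : Vec} (hv : v ∈ lineV k) (h0 : v ≠ v0) (hz : v ≠ vz) :
    v = pl k ∨ v = vadd (pl k) vz :=
  ((line_cases k v ((mem_line_iff k v).1 hv)).resolve_left h0).resolve_left hz

theorem elt_coord (hS : Setup S φ) (hF : Facts S φ) {t : G} (ht : t ∈ SA φ) (h1 : t ≠ 1) (hz : ¬ ZType φ t) :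
    ∃ w, av φ w = t ∧ w ≠ v0 ∧ ¬ Orb (autX hS hF) w := by
  obtain ⟨w, rfl⟩ := (hF.mem_A t).1 ht
  exact ⟨w, rfl, fun e => h1 ((av_eq_one hS).2 e), fun e => hz ((ztype_iff hS hF w).2 e)⟩

theorem stab_of (hS : Setup S φ) (hF : Facts S φ) {k : Fin 3} {v : Vec} (hv : v ≠ v0) {σ : PV}
    (h : StabX (autX hS hF) k v σ) :
    ∃ d, Stab φ k (av φ v) d ∧ ∀ f, σ f = f → av φ f ∈ cz d := by
  obtain ⟨d, hdN, hd⟩ := (mem_autX hS hF).1 h.mem
  have hdf : ∀ f, σ f = f → av φ f ∈ cz d := fun f e => mem_centralizer_singleton_iff.2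
    (mem_centralizer_singleton_iff.1 ((moves_fix hS hd f).1 e)).symm
  refine ⟨d, ⟨⟨hdN, (moves_fix hS hd v).1 h.fix⟩, ?_, fun e => h.ne (hd.unique hS ((moves_one_iff hS hF).2 e)),
    ?_, ?_, ?_⟩, hdf⟩
  · exact (moves_one_iff hS hF).1 (h.cube ▸ hd.pow hS hF 3)
  · refine (moves_one_iff hS hF).1 ?_
    have h1 := (((moves_flag hS v0 k).mul hd).mul (moves_flag hS v0 k).inv).mul hd
    rw [pf_inv, h.inv] at h1
    exact h1
  · rintro n ⟨hn, hnt⟩
    obtain ⟨τ, hτ⟩ := exists_moves hS hF hn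
    obtain ⟨i, e, he, rfl⟩ := h.all τ ((mem_autX hS hF).2 ⟨n, hn, hτ⟩) ((moves_fix hS hτ v).2 hnt)
    rcases he with rfl | rfl
    · refine ⟨i, 1, Or.inl rfl, (moves_one_iff hS hF).1 ?_⟩
      have h1 := ((hd.pow hS hF i).mul ((moves_one_iff hS hF).2 (one_mem _))).inv.mul hτ
      rwa [inv_mul_cancel] at h1
    · refine ⟨i, φ (v0, flag k), Or.inr rfl, (moves_one_iff hS hF).1 ?_⟩
      have h1 := ((hd.pow hS hF i).mul (moves_flag hS v0 k)).inv.mul hτ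
      rwa [inv_mul_cancel] at h1
  · let f : {w // σ w = w} → ↥(SA φ ⊓ cz d) := fun w =>
      ⟨av φ w.1, (hF.mem_A _).2 ⟨w.1, rfl⟩, hdf w.1 w.2⟩
    have hf : Function.Bijective f := by
      constructor
      · intro a b e; exact Subtype.ext (av_inj hS (congrArg Subtype.val e))
      · rintro ⟨x, hx, hxd⟩
        obtain ⟨w, rfl⟩ := (hF.mem_A x).1 hx
        exact ⟨⟨w, (moves_fix hS hd w).2
          (mem_centralizer_singleton_iff.2 (mem_centralizer_singleton_iff.1 hxd).symm)⟩, rfl⟩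
    obtain ⟨h3, h1, h16⟩ := (auto_autX hS hF).fix_count h.mem h.cube h.ne hv h.fix
    rw [Nat.card_eq_of_bijective f hf] at h3 h1 h16
    have hdvd : Nat.card ↥(SA φ ⊓ cz d) ∣ 2 ^ 4 :=
      (Subgroup.card_dvd_of_le (inf_le_left : SA φ ⊓ cz d ≤ SA φ)).trans (by rw [hF.card_A]; norm_num)
    obtain ⟨a, ha, e⟩ := (Nat.dvd_prime_pow Nat.prime_two).1 hdvd
    rw [e] at h3 h1 h16 ⊢
    interval_cases a <;> simp_all

/-- Piece B2. -/
theorem orbits : StmtOrbits.{u} := by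
  intro G _ _ S φ hS hF _
  have hX := auto_autX hS hF
  have hmove := orbit_moves hS hF
  by_cases hR : Rot φ
  · obtain ⟨b, hb, hst, htr, h60⟩ := hX.five ((rot_iff hS hF).1 hR) hmove
    refine Or.inr (Or.inr ⟨hR, ⟨b, fun v hv => (ztype_iff hS hF v).trans (hb v hv)⟩, ?_, ?_, ?_⟩)
    · intro k t ht h1 hz
      obtain ⟨w, rfl, hw0, hwO⟩ := elt_coord hS hF ht h1 hz
      obtain ⟨g, hg, e⟩ := htr k w hw0 hwO
      obtain ⟨n, hn, hm⟩ := (mem_autX hS hF).1 hg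
      exact ⟨n, hn, pl k, (mem_line_pl k).1, (pl_spec k).2.1, (pl_spec k).2.2.1, (hm _).trans (by rw [e])⟩
    · intro k v hv h0 hz
      obtain ⟨σ, hσ, f, hfO, hfix⟩ := hst k v (line_mem_pl hv h0 hz)
      obtain ⟨d, hd, hdf⟩ := stab_of hS hF h0 hσ
      exact ⟨d, hd, av φ f, (hF.mem_A _).2 ⟨f, rfl⟩, hdf f hfix, (ztype_iff hS hF f).2 hfO⟩
    · rw [card_norm hS hF, h60]
  rcases hX.noRot_cases (fun e => hR ((rot_iff hS hF).2 e)) hmove with ⟨i, hz, hst, htr⟩ | ⟨k, b, hz, hst, htr⟩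
  · refine Or.inl ⟨i, hR, fun v hv => (ztype_iff hS hF v).trans (hz v hv), ?_, ?_⟩
    · intro t ht h1 hzt n hn
      obtain ⟨w, rfl, hw0, hwO⟩ := elt_coord hS hF ht h1 hzt
      obtain ⟨σ, hσ⟩ := exists_moves hS hF hn.1
      refine (moves_one_iff hS hF).1 ?_
      have := hst w hw0 hwO σ ((mem_autX hS hF).2 ⟨n, hn.1, hσ⟩) ((moves_fix hS hσ w).2 hn.2)
      exact this ▸ hσ.mul hσ
    · intro t ht h1 hzt
      obtain ⟨w, rfl, hw0, hwO⟩ := elt_coord hS hF ht h1 hzt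
      obtain ⟨m, hm, g, hg, e⟩ := htr w hw0 hwO
      obtain ⟨n, hn, hmv⟩ := (mem_autX hS hF).1 hg
      exact ⟨m, hm, n, hn, pl m, (mem_line_pl m).1, (pl_spec m).2.1, (pl_spec m).2.2.1, (hmv _).trans (by rw [e])⟩
  · refine Or.inr (Or.inl ⟨k, hR, ⟨b, fun v hv => ?_⟩, ?_, ?_⟩)
    · simp only [mem_line_iff]
      exact (ztype_iff hS hF v).trans (hz v hv)
    · intro t ht h1 hzt
      obtain ⟨w, rfl, hw0, hwO⟩ := elt_coord hS hF ht h1 hzt
      obtain ⟨g, hg, e⟩ := htr w hw0 hwO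
      obtain ⟨n, hn, hmv⟩ := (mem_autX hS hF).1 hg
      exact ⟨n, hn, pl k, (mem_line_pl k).1, (pl_spec k).2.1, (pl_spec k).2.2.1, (hmv _).trans (by rw [e])⟩
    · intro v hv h0 hvz
      obtain ⟨σ, hσ⟩ := hst v (line_mem_pl hv h0 hvz)
      obtain ⟨d, hd, -⟩ := stab_of hS hF h0 hσ
      exact ⟨d, hd⟩

end CfsgLib.AEightSyl
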