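import Cfsg.Agent.Lib.AEightSyl.ShapeLift

/-!
# Piece C: the shape of the centralizer of `z`
-/

set_option autoImplicit false
set_option linter.style.haveILetI false
set_option linter.unusedSectionVars false
set_option synthInstance.maxSize 4096

namespace CfsgLib.AEightSyl

open Cfsg Subgroup CfsgLib.L34Sylow CfsgLib.StrongTwoClasses

universe u

namespace ShapeAux

theorem flag_ne : ∀ i : Fin 3, flag i ≠ t0 := by decide +kernel

theorem pt_top : ∀ (i j : Fin 3), j ≠ 0 → (pt (i, j)).2 = flag i ∧ (ptz (i, j)).2 = flag i := by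
  decide +kernel

theorem pt_first_row : ∀ j : Fin 3, (pt (0, j)).2 ≠ flag 1 ∧ (ptz (0, j)).2 ≠ flag 1 := by
  decide +kernel

theorem split_flag : ∀ (e : El) (k : Fin 3), e.2 = flag k →
    ∃ a : Vec, e = emul (v0, flag k) (a, t0) := by
  decide +kernel

theorem top_mul : ∀ (e : El) (a b : Vec),
    (emul (emul e (a, t0)) (b, t0)).2 = e.2 := by
  decide +kernel

variable {G : Type u} [Group G] [Finite G] {S : Sylow 2 G} {φ : El → G}

theorem bigCent (hS : Setup S φ) (hF : Facts S φ) (h : QuoQ (psi hS)) : BigCent φ := by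
  have hA : ∀ v, φ (v, t0) ∈ SA φ := fun v => (hF.mem_A _).2 ⟨v, rfl⟩
  have hrot1 : Rot φ → ∃ g, ¬ RowFix (psi hS) g := by
    rintro ⟨n, hn, hrot⟩
    obtain ⟨a, ha, c, hc, e⟩ := hrot 0
    obtain ⟨v, rfl⟩ := (hF.mem_A a).1 ha
    have hcC : c ∈ cz (zc φ) :=
      mem_centralizer_singleton_iff.2 (mem_centralizer_iff.1 hc _ (hA vz)).symm
    have hcomm : ∀ i, (QuotientGroup.mk ⟨c, hcC⟩ : Hq φ) * psi hS (pt (i, 0)) =
        psi hS (pt (i, 0)) * QuotientGroup.mk ⟨c, hcC⟩ := by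
      intro i
      obtain ⟨w, -, -, -, hw⟩ := pt_line_mem i _ (Or.inl rfl)
      rw [hw]
      show (QuotientGroup.mk _ : Hq φ) * QuotientGroup.mk _ =
        QuotientGroup.mk _ * QuotientGroup.mk _
      rw [← QuotientGroup.mk_mul, ← QuotientGroup.mk_mul]
      exact congrArg QuotientGroup.mk (Subtype.ext (mem_centralizer_iff.1 hc _ (hA w)).symm)
    obtain ⟨d, hd⟩ := mem_of_commute h (hcomm 0)
    have hd2 : d.2 = t0 := cent_col0 d fun i => (psi_comm h.toQuo).1 (hd ▸ hcomm i)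
    refine ⟨QuotientGroup.mk ⟨n, hn.2⟩, fun hfix => ?_⟩
    have e1 : (QuotientGroup.mk ⟨n, hn.2⟩ : Hq φ) * psi hS (pt (0, 1)) *
        (QuotientGroup.mk ⟨n, hn.2⟩)⁻¹ = psi hS (emul (emul (v0, flag 1) (v, t0)) (d.1, t0)) := by
      rw [← h.mul, ← h.mul, show ((d.1, t0) : El) = d from Prod.ext rfl hd2.symm, ← hd]
      show (QuotientGroup.mk _ : Hq φ) * QuotientGroup.mk _ * _ =
        QuotientGroup.mk _ * QuotientGroup.mk _ * QuotientGroup.mk _
      rw [← QuotientGroup.mk_inv, ← QuotientGroup.mk_mul, ← QuotientGroup.mk_mul,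
        ← QuotientGroup.mk_mul, ← QuotientGroup.mk_mul]
      exact congrArg QuotientGroup.mk (Subtype.ext e)
    have e2 := img_spec h (QuotientGroup.mk ⟨n, hn.2⟩ : Hq φ) (0, 1)
    obtain ⟨j, hj⟩ : ∃ j, fimg (psi hS) (QuotientGroup.mk ⟨n, hn.2⟩ : Hq φ) (0, 1) = (0, j) :=
      ⟨(fimg (psi hS) (QuotientGroup.mk ⟨n, hn.2⟩ : Hq φ) (0, 1)).2, Prod.ext (hfix (0, 1)) rfl⟩
    rw [hj, e1] at e2
    rcases e2 with e2 | e2
    · exact (pt_first_row j).1 ((congrArg Prod.snd (h.inj e2)).symm.trans (top_mul _ v d.1))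
    · exact (pt_first_row j).2 ((congrArg Prod.snd (h.inj e2)).symm.trans (top_mul _ v d.1))
  have hrot2 : (∃ g, ¬ RowFix (psi hS) g) → Rot φ := by
    rintro ⟨g, hg⟩
    obtain ⟨g', hg'⟩ := exists_cycle h hg
    obtain ⟨x, rfl⟩ := QuotientGroup.mk_surjective g'
    have hcol : ∀ i, (fimg (psi hS) (x : Hq φ) (i, 0)).2 = 0 := fun i => by rw [hg']
    obtain ⟨o, ho, n, hn, hx⟩ := frattini hS (X := SA φ) hF.le_S.1 x fun e he => by
      obtain ⟨v, hv⟩ := (hF.mem_A _).1 he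
      obtain rfl := hS.inj hv
      obtain ⟨w, hw⟩ := A_of_col h hcol v
      exact ⟨(w, t0), hA w, hw⟩
    refine ⟨n, hn, fun i => ?_⟩
    have hnx : (QuotientGroup.mk ⟨n, hn.2⟩ : Hq φ) = x := by
      have h0 : x = ⟨o, centralizerPPrimeCore_le _ ho⟩ * ⟨n, hn.2⟩ := Subtype.ext hx
      have h1 : (QuotientGroup.mk (⟨o, centralizerPPrimeCore_le _ ho⟩ : ↥(cz (zc φ))) : Hq φ) = 1 := by
        rw [QuotientGroup.eq_one_iff]
        obtain ⟨o', ho', e⟩ := ho
        have : (⟨o, centralizerPPrimeCore_le _ ⟨o', ho', e⟩⟩ : ↥(cz (zc φ))) = o' :=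
          Subtype.ext e.symm
        rw [this]; exact ho'
      rw [h0, QuotientGroup.mk_mul, h1, one_mul]
    obtain ⟨e', he', he''⟩ : ∃ e' : El, e'.2 = flag (i + 1) ∧
        (x : Hq φ) * psi hS (pt (i, 1)) * (x : Hq φ)⁻¹ = psi hS e' := by
      obtain ⟨⟨r, j⟩, hq⟩ : ∃ q, fimg (psi hS) (x : Hq φ) (i, 1) = q := ⟨_, rfl⟩
      have hr : r = i + 1 := by
        have := (split h (x : Hq φ) (i, 1)).1
        rw [hq, hg'] at this
        exact this
      subst hr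
      have hj : j ≠ 0 := fun e => by
        subst e
        exact one_ne_zero (congrArg Prod.snd (img_inj h _ (hq.trans (hg' i).symm)) :)
      rcases img_spec h (x : Hq φ) (i, 1) with e | e <;> rw [hq] at e
      · exact ⟨_, (pt_top _ j hj).1, e⟩
      · exact ⟨_, (pt_top _ j hj).2, e⟩
    obtain ⟨a, rfl⟩ := split_flag e' (i + 1) he'
    rw [← hnx] at he''
    have h1 := lift_eq hS
      (g := ⟨n, hn.2⟩ * ⟨φ (v0, flag i), mem_cz hS _⟩ * (⟨n, hn.2⟩ : ↥(cz (zc φ)))⁻¹)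
      (e := emul (v0, flag (i + 1)) (a, t0)) (by
        rw [QuotientGroup.mk_mul, QuotientGroup.mk_mul, QuotientGroup.mk_inv]; exact he'')
    rw [← hS.mul] at h1
    refine ⟨φ (a, t0), hA a, (φ (v0, flag (i + 1)) * φ (a, t0))⁻¹ * cj n (φ (v0, flag i)), ?_,
      (mul_inv_cancel_left _ _).symm⟩
    set p := φ (v0, flag (i + 1)) * φ (a, t0)
    have hp : p ∈ (S : Subgroup G) := mul_mem (hS.mem _) (hS.mem _)
    refine core_centralize hS hF.le_S.1 ?_ (mul_mem (inv_mem (hF.norm_S.1 hp))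
      (mul_mem (mul_mem hn.1 (hF.norm_S.1 (hS.mem _))) (inv_mem hn.1)))
    have := (mem_normalizer_iff.1 (centralizer_le_normalizer_core _ (inv_mem (S_le hS hp))) _).1 h1
    rw [inv_inv] at this
    convert this using 1
    show p⁻¹ * (n * φ (v0, flag i) * n⁻¹) = p⁻¹ * (n * φ (v0, flag i) * n⁻¹ * p⁻¹) * p
    group
  refine
    { frattini := fun g hg => ?_
      fuse := fun i v hv => ?_
      cent := fun i v hv hv0 hvz g hg => ?_
      planes := fun hr i g hg => ?_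
      card := ?_ }
  · refine frattini hS (X := SQ φ) hF.le_S.2.1 ⟨g, hg⟩ fun e he => ?_
    obtain ⟨v, s, hv, he2⟩ := (hF.mem_Q _).1 he
    obtain rfl := hS.inj he2
    obtain ⟨e', he'⟩ := h.core_mem _
      (core_normal h.toQuo (g := (QuotientGroup.mk ⟨g, hg⟩ : Hq φ)) ((h.core_iff (v, s)).2 hv))
    exact ⟨e', (hF.mem_Q _).2 ⟨e'.1, e'.2, (h.core_iff e').1
      (he' ▸ core_normal h.toQuo ((h.core_iff (v, s)).2 hv)), rfl⟩, he'.symm⟩
  · have hrow := (pt_row i (v, flag i)).1 ⟨v, hv, Or.inr rfl⟩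
    obtain ⟨j, hj⟩ : ∃ j, ((v, flag i) : El) = pt (i, j) ∨ ((v, flag i) : El) = ptz (i, j) := by
      rcases hrow with e | e | e
      · exact absurd (congrArg Prod.snd e) (flag_ne i)
      · exact absurd (congrArg Prod.snd e) (flag_ne i)
      · exact e
    obtain ⟨l, hl⟩ := to_first h (i, j)
    obtain ⟨c, rfl⟩ := QuotientGroup.mk_surjective l
    obtain ⟨w, hw, hw0, hwz, hwe⟩ : ∃ w ∈ lineV i, w ≠ v0 ∧ w ≠ vz ∧
        (c : Hq φ) * psi hS (v, flag i) * (c : Hq φ)⁻¹ = psi hS (w, t0) := by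
      have hor : (c : Hq φ) * psi hS (v, flag i) * (c : Hq φ)⁻¹ = psi hS (pt (i, 0)) ∨
          (c : Hq φ) * psi hS (v, flag i) * (c : Hq φ)⁻¹ = psi hS (ptz (i, 0)) := by
        rcases hj with e | e <;> rw [e]
        · have := img_spec h (c : Hq φ) (i, j)
          rwa [hl] at this
        · have := img_ptz h (c : Hq φ) (i, j)
          rwa [hl] at this
      rcases hor with e | e
      · obtain ⟨w, hw, hw0, hwz, hwe⟩ := pt_line_mem i _ (Or.inl rfl)
        exact ⟨w, hw, hw0, hwz, hwe ▸ e⟩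
      · obtain ⟨w, hw, hw0, hwz, hwe⟩ := pt_line_mem i _ (Or.inr rfl)
        exact ⟨w, hw, hw0, hwz, hwe ▸ e⟩
    have hsq : ∀ e : El, emul e e = e1 → φ e * φ e = 1 := fun e he => by
      rw [hS.mul, he, phi_one hS]
    have hsq1 : emul ((v, flag i) : El) (v, flag i) = e1 := by
      rcases hj with e | e <;> rw [e]
      · exact (pt_spec _).1.2.1
      · exact (pt_spec _).2.2.1
    have hsq2 : ∀ w : Vec, emul ((w, t0) : El) (w, t0) = e1 := by decide +kernel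
    obtain ⟨k, hk⟩ := conj_of_eq hS (x := c * ⟨φ (v, flag i), mem_cz hS _⟩ * c⁻¹)
      (y := ⟨φ (w, t0), mem_cz hS _⟩) (Subtype.ext (by
        show (c : G) * φ (v, flag i) * (c : G)⁻¹ * ((c : G) * φ (v, flag i) * (c : G)⁻¹) = 1
        rw [show (c : G) * φ (v, flag i) * (c : G)⁻¹ * ((c : G) * φ (v, flag i) * (c : G)⁻¹) =
          (c : G) * (φ (v, flag i) * φ (v, flag i)) * (c : G)⁻¹ by group, hsq _ hsq1]
        group))
      (Subtype.ext (hsq _ (hsq2 w)))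
      (by rw [QuotientGroup.mk_mul, QuotientGroup.mk_mul, QuotientGroup.mk_inv]; exact hwe)
    refine ⟨(k : G) * c, mul_mem k.2 c.2, w, hw, hw0, hwz, ?_⟩
    calc (k : G) * c * φ (v, flag i) * ((k : G) * c)⁻¹
        = (k : G) * ((c : G) * φ (v, flag i) * (c : G)⁻¹) * (k : G)⁻¹ := by group
      _ = φ (w, t0) := congrArg Subtype.val hk
  · have hc : (QuotientGroup.mk ⟨g, hg.1⟩ : Hq φ) * psi hS (v, t0) =
        psi hS (v, t0) * QuotientGroup.mk ⟨g, hg.1⟩ := by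
      show (QuotientGroup.mk _ : Hq φ) * QuotientGroup.mk _ =
        QuotientGroup.mk _ * QuotientGroup.mk _
      rw [← QuotientGroup.mk_mul, ← QuotientGroup.mk_mul]
      exact congrArg QuotientGroup.mk (Subtype.ext (mem_centralizer_singleton_iff.1 hg.2))
    obtain ⟨e, he⟩ := mem_of_commute h (i := i) (g := (QuotientGroup.mk ⟨g, hg.1⟩ : Hq φ)) (by
      rcases pt_line i v hv hv0 hvz with e | e <;> rw [e] at hc
      · exact hc
      · rw [psi_ptz h, ← mul_assoc] at hc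
        refine mul_right_cancel (b := psi hS ez) (hc.trans ?_)
        rw [mul_assoc, ← h.central, ← mul_assoc])
    refine ⟨g * (φ e)⁻¹, lift_eq hS he, φ e, ?_, by group⟩
    rw [← hF.cent_line i v hv hv0 hvz]
    refine ⟨hS.mem e, mem_centralizer_singleton_iff.2 ?_⟩
    rw [he] at hc
    rw [av, hS.mul, hS.mul, (psi_comm h.toQuo).1 hc]
  · have hall : ∀ x, RowFix (psi hS) x := fun x => by_contra fun hx => hr (hrot2 ⟨x, hx⟩)
    refine frattini hS (X := SE φ i) (fun y hy => hF.le_S.2.1 (hF.sub_Q i hy)) ⟨g, hg⟩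
      fun e he => ?_
    obtain ⟨v, hv, he2⟩ := (hF.mem_E i _).1 he
    have hrow := (pt_row i e).1 ⟨v, hv, he2.imp (fun x => hS.inj x) fun x => hS.inj x⟩
    have hback : ∀ e', (e' = e1 ∨ e' = ez ∨ ∃ j, e' = pt (i, j) ∨ e' = ptz (i, j)) →
        φ e' ∈ SE φ i := fun e' he' => by
      obtain ⟨w, hw, hw2⟩ := (pt_row i e').2 he'
      exact (hF.mem_E i _).2 ⟨w, hw, hw2.imp (congrArg φ) (congrArg φ)⟩
    rcases hrow with rfl | rfl | ⟨j, hj⟩
    · exact ⟨e1, he, by rw [psi_one h.toQuo]; group⟩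
    · exact ⟨ez, he, conj_ez h _⟩
    · obtain ⟨j', hj'⟩ : ∃ j', fimg (psi hS) (QuotientGroup.mk ⟨g, hg⟩ : Hq φ) (i, j) = (i, j') :=
        ⟨(fimg (psi hS) (QuotientGroup.mk ⟨g, hg⟩ : Hq φ) (i, j)).2, Prod.ext (hall _ (i, j)) rfl⟩
      have hor : (QuotientGroup.mk ⟨g, hg⟩ : Hq φ) * psi hS e * (QuotientGroup.mk ⟨g, hg⟩)⁻¹ =
          psi hS (pt (i, j')) ∨ (QuotientGroup.mk ⟨g, hg⟩ : Hq φ) * psi hS e *
          (QuotientGroup.mk ⟨g, hg⟩)⁻¹ = psi hS (ptz (i, j')) := by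
        rcases hj with e | e <;> rw [e]
        · have := img_spec h (QuotientGroup.mk ⟨g, hg⟩ : Hq φ) (i, j)
          rwa [hj'] at this
        · have := img_ptz h (QuotientGroup.mk ⟨g, hg⟩ : Hq φ) (i, j)
          rwa [hj'] at this
      rcases hor with e | e
      · exact ⟨_, hback _ (Or.inr (Or.inr ⟨j', Or.inl rfl⟩)), e⟩
      · exact ⟨_, hback _ (Or.inr (Or.inr ⟨j', Or.inr rfl⟩)), e⟩
  · rw [relIndex_eq hS]
    exact ⟨fun hr => (card_eq h).1 fun x => by_contra fun hx => hr (hrot2 ⟨x, hx⟩),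
      fun hr => (card_eq h).2 (hrot1 hr)⟩

end ShapeAux

/-- Piece C: the shape of the centralizer of `z`. -/
theorem shape : StmtShape.{u} := by
  intro G _ _ S φ hS hF _
  have hq := ShapeAux.quo hS
  rcases ShapeAux.core_cases hq with hA | hQ
  · refine Or.inl fun g hg => ?_
    refine ShapeAux.frattini hS (X := SA φ) hF.le_S.1 ⟨g, hg⟩ fun e he => ?_
    obtain ⟨v, hv⟩ := (hF.mem_A _).1 he
    obtain rfl := hS.inj hv
    obtain ⟨w, hw⟩ := ShapeAux.A_normal hq hA (QuotientGroup.mk ⟨g, hg⟩) v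
    exact ⟨(w, t0), (hF.mem_A _).2 ⟨w, rfl⟩, hw⟩
  · exact Or.inr (ShapeAux.bigCent hS hF ⟨hq, hQ⟩)

end CfsgLib.AEightSyl
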