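import Cfsg.Agent.Lib.AEightSyl.Defs

/-!
# Piece C: finite checks on the coordinates

For the six normal subgroups containing the hyperplane and a vector off it, but not `A`: every
automorphism of odd order fixing `z` is trivial, by an iteration on the classes of an invariant
key.  For the extraspecial subgroup: its nine pairs of non-central involutions form a grid.
-/

set_option autoImplicit false
set_option maxRecDepth 100000
set_option synthInstance.maxSize 4096
set_option synthInstance.maxHeartbeats 200000

namespace CfsgLib.AEightSyl

namespace ShapeAux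

/-- The identity. -/
abbrev e1 : El := (v0, t0)

/-- The central involution. -/
abbrev ez : El := (vz, t0)

/-- The inverse. -/
def einv (e : El) : El := (act e.2 e.1, e.2)

/-- The conjugate `f e f⁻¹`. -/
def econj (f e : El) : El := emul (emul f e) (einv f)

/-- Both values. -/
def bools : List Bool := [false, true]

/-- All elements. -/
def els : List El :=
  bools.flatMap fun a => bools.flatMap fun b => bools.flatMap fun c => bools.flatMap fun d =>
    bools.flatMap fun s => bools.map fun t => ((a, b, c, d), (s, t))

/-- The image modulo the hyperplane. -/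
def tri (e : El) : Bool × Bool × Bool := (offH e.1, e.2.1, e.2.2)

/-- A set of images modulo the hyperplane. -/
structure Bits where
  b0 : Bool
  b1 : Bool
  b2 : Bool
  b3 : Bool
  b4 : Bool
  b5 : Bool
  b6 : Bool
  b7 : Bool

/-- Membership. -/
def Bits.has (b : Bits) : Bool × Bool × Bool → Bool
  | (false, false, false) => b.b0
  | (false, false, true) => b.b1
  | (false, true, false) => b.b2
  | (false, true, true) => b.b3
  | (true, false, false) => b.b4
  | (true, false, true) => b.b5
  | (true, true, false) => b.b6
  | (true, true, true) => b.b7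

/-- All images. -/
def tris : List (Bool × Bool × Bool) :=
  bools.flatMap fun a => bools.flatMap fun s => bools.map fun t => (a, s, t)

/-- The subgroup of a set of images. -/
def pre (b : Bits) : List El := els.filter fun e => b.has (tri e)

/-- The invariant key of an element. -/
def key (P : List El) (x : El) : Bool × Bool × ℕ × ℕ :=
  (emul x x == e1, emul x x == ez, P.countP (fun r => emul r r == x),
    P.countP (fun r => emul r x == emul x r))

/-- Whether `x` is fixed once `F` is. -/
def grows (P F : List El) (x : El) : Bool :=
  let C := P.filter fun y => key P y == key P x && !F.contains y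
  decide (C.length ≤ 2) || C.all fun y => F.any fun f => emul f x == y

/-- One round. -/
def step (P F : List El) : List El := P.filter fun x => F.contains x || grows P F x

/-- The rounds prove that everything is fixed. -/
def rigid (P : List El) : Bool :=
  let F := step P (step P (step P [e1, ez]))
  P.all fun x => F.contains x

/-- The sets of images of the subgroups in question. -/
def candidate (b : Bits) : Bool :=
  b.has (false, false, false) && !b.has (true, false, false) &&
    (b.b4 || b.b5 || b.b6 || b.b7) &&
    tris.all fun t => tris.all fun u =>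
      !(b.has t && b.has u) || b.has (xor t.1 u.1, xor t.2.1 u.2.1, xor t.2.2 u.2.2)

theorem rigid_check : ∀ a b c d e f g h : Bool, candidate ⟨a, b, c, d, e, f, g, h⟩ = true →
    rigid (pre ⟨a, b, c, d, e, f, g, h⟩) = true := by
  decide +kernel

theorem rigid_of_candidate {b : Bits} (h : candidate b = true) : rigid (pre b) = true := by
  cases b
  exact rigid_check _ _ _ _ _ _ _ _ h

theorem els_mem : ∀ e : El, e ∈ els := by decide +kernel

theorem els_nodup : els.Nodup := by decide +kernel

theorem tris_mem : ∀ t : Bool × Bool × Bool, t ∈ tris := by decide +kernel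

theorem emul_einv : ∀ e : El, emul e (einv e) = e1 ∧ emul (einv e) e = e1 := by decide +kernel

theorem e1_mul : ∀ e : El, emul e1 e = e ∧ emul e e1 = e ∧ emul ez e = emul e ez := by
  decide +kernel

/-- The three commutators giving the hyperplane. -/
def gens (u : El) : El × El × El :=
  let c := fun (s : Top) (w : El) => emul (econj (v0, s) w) (einv w)
  (c (flag 0) u, c (flag 1) u, c (flag 1) (c (flag 0) u))

/-- One of two. -/
def pick (i : Bool) (e : El) : El := if i then e else e1

theorem gens_span : ∀ u : El, offH u.1 = true → ∀ h : El, tri h = (false, false, false) →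
    ∃ i j k : Bool, h = emul (emul (pick i (gens u).1) (pick j (gens u).2.1)) (pick k (gens u).2.2) := by
  decide +kernel

theorem same_tri : ∀ e f : El, tri e = tri f → tri (emul f (einv e)) = (false, false, false) := by
  decide +kernel

theorem tri_mul : ∀ e f : El, tri (emul e f) =
    (xor (tri e).1 (tri f).1, xor (tri e).2.1 (tri f).2.1, xor (tri e).2.2 (tri f).2.2) := by
  decide +kernel

theorem Q_comm : ∀ p q : El, offH p.1 = false → offH q.1 = false →
    emul p q = emul q p ∨ emul p q = emul (emul q p) ez := by
  decide +kernel

/-- A point of the grid. -/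
abbrev Pt : Type := Fin 3 × Fin 3

/-- The vector of a line that is neither zero nor central. -/
def lw : Fin 3 → Vec :=
  ![(true, false, false, false), (false, false, false, true), (true, false, false, true)]

/-- The representative of a point: rows are the three elementary subgroups of order eight. -/
def pt (p : Pt) : El :=
  if p.2 = 0 then (lw p.1, t0) else if p.2 = 1 then (v0, flag p.1) else (lw p.1, flag p.1)

/-- The other representative. -/
def ptz (p : Pt) : El := emul (pt p) ez

/-- A non-central involution of the extraspecial subgroup. -/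
abbrev IsPt (e : El) : Prop :=
  offH e.1 = false ∧ emul e e = e1 ∧ e ≠ e1 ∧ e ≠ ez

/-- Same row or same column. -/
abbrev Rel (p q : Pt) : Prop := p.1 = q.1 ∨ p.2 = q.2

/-- Exchange of the last two columns. -/
def sw : Fin 3 → Fin 3 := ![0, 2, 1]

theorem pt_spec : ∀ p, IsPt (pt p) ∧ IsPt (ptz p) := by decide +kernel

theorem pt_surj : ∀ e, IsPt e → ∃ p, e = pt p ∨ e = ptz p := by decide +kernel

theorem pt_uniq : ∀ p q, (pt p = pt q ∨ pt p = ptz q) → p = q := by decide +kernel

theorem pt_comm : ∀ p q, emul (pt p) (pt q) = emul (pt q) (pt p) ↔ Rel p q := by decide +kernel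

theorem pt_gen : ∀ e : El, offH e.1 = false →
    e = e1 ∨ e = ez ∨ (∃ p, e = pt p ∨ e = ptz p) ∨ ∃ p q, e = emul (pt p) (pt q) := by
  decide +kernel

theorem pt_row : ∀ (i : Fin 3) (e : El),
    (∃ v ∈ lineV i, (v, t0) = e ∨ (v, flag i) = e) ↔
      (e = e1 ∨ e = ez ∨ ∃ j, e = pt (i, j) ∨ e = ptz (i, j)) := by
  decide +kernel

theorem pt_col0 : ∀ e : El, tri e = (false, false, false) ↔
    (e = e1 ∨ e = ez ∨ ∃ i, e = pt (i, 0) ∨ e = ptz (i, 0)) := by
  decide +kernel

theorem pt_conj : ∀ (e : El) (p : Pt),
    econj e (pt p) = pt (p.1, if offH e.1 then sw p.2 else p.2) ∨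
      econj e (pt p) = ptz (p.1, if offH e.1 then sw p.2 else p.2) := by
  decide +kernel

theorem cent_col0 : ∀ e : El, (∀ i, emul e (pt (i, 0)) = emul (pt (i, 0)) e) → e.2 = t0 := by
  decide +kernel

theorem pt_flag : ∀ (i : Fin 3) (e : El), IsPt e → e.2 = flag i →
    ∃ j, j ≠ 0 ∧ (e = pt (i, j) ∨ e = ptz (i, j)) := by
  decide +kernel

theorem pt_line : ∀ (i : Fin 3) (v : Vec), v ∈ lineV i → v ≠ v0 → v ≠ vz →
    (v, t0) = pt (i, 0) ∨ (v, t0) = ptz (i, 0) := by
  decide +kernel

theorem pt_line_mem : ∀ (i : Fin 3) (e : El), (e = pt (i, 0) ∨ e = ptz (i, 0)) →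
    ∃ v ∈ lineV i, v ≠ v0 ∧ v ≠ vz ∧ e = (v, t0) := by
  decide +kernel

end ShapeAux

end CfsgLib.AEightSyl
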