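import Cfsg.Agent.Lib.AEightSyl.ShapeQuot

/-!
# Piece C: the two-core is extraspecial of order thirty-two

The group permutes the nine pairs of non-central involutions of the extraspecial subgroup as a
subgroup of `S₃ × S₃`, rows and columns apart; it is transitive on a row or on all nine.
-/

set_option autoImplicit false
set_option linter.style.haveILetI false
set_option linter.unusedSectionVars false
set_option synthInstance.maxSize 4096

namespace CfsgLib.AEightSyl

open Cfsg Subgroup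

universe u

namespace ShapeAux

theorem fix_twice : ∀ π : Fin 3 → Fin 3, Function.Injective π → ∀ i, π i = i → ∀ j, π (π j) = j := by
  decide +kernel

theorem fix_zero : ∀ ρ : Fin 3 → Fin 3, Function.Injective ρ → ρ 0 = 0 →
    (∀ j, ρ j = j) ∨ ∀ j, ρ j = sw j := by
  decide +kernel

theorem moves_all : ∀ π : Fin 3 → Fin 3, Function.Injective π → (∀ i, π i ≠ i) →
    (∀ i, π i = i + 1) ∨ ∀ i, π (π i) = i + 1 := by
  decide +kernel

theorem sw_two : ∀ j k : Fin 3, j ≠ 0 → k ≠ 0 → k = j ∨ k = sw j := by decide +kernel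

theorem sw_sw : ∀ j : Fin 3, sw (sw j) = j := by decide +kernel

theorem triangle : ∀ a b c : Pt, a ≠ b → a ≠ c → b ≠ c → Rel a b → Rel a c → Rel b c →
    (a.1 = b.1 ∧ a.1 = c.1) ∨ (a.2 = b.2 ∧ a.2 = c.2) := by
  decide +kernel

/-- A line of three points mapped onto a line. -/
theorem line_onto {F : Pt → Pt} (hF : Function.Injective F) (i : Fin 3) {b : Fin 3}
    (hb : ∀ j, (F (i, j)).2 = b) (a : Fin 3) : ∃ j, F (i, j) = (a, b) := by
  obtain ⟨j, hj⟩ := Finite.injective_iff_surjective.1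
    (show Function.Injective (fun j => (F (i, j)).1) from fun x y e => by
      have := hF (Prod.ext e ((hb x).trans (hb y).symm) : F (i, x) = F (i, y))
      exact congrArg Prod.snd this) a
  exact ⟨j, Prod.ext hj (hb j)⟩

variable {H : Type u} [Group H]

/-- The quotient with extraspecial two-core. -/
structure QuoQ (ψ : El → H) : Prop extends Quo ψ where
  core_iff : ∀ e, ψ e ∈ pCore 2 H ↔ offH e.1 = false

variable {ψ : El → H}

/-- The image of a point. -/
noncomputable def fimg (ψ : El → H) (g : H) (p : Pt) : Pt :=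
  @Classical.epsilon Pt ⟨(0, 0)⟩
    fun q => g * ψ (pt p) * g⁻¹ = ψ (pt q) ∨ g * ψ (pt p) * g⁻¹ = ψ (ptz q)

variable (h : QuoQ ψ)
include h

theorem psi_ptz (p : Pt) : ψ (ptz p) = ψ (pt p) * ψ ez := (h.mul _ _).symm

theorem psi_ez_sq : ψ ez * ψ ez = 1 := by
  rw [h.mul, show emul ez ez = e1 by decide +kernel, psi_one h.toQuo]

theorem conj_ez (g : H) : g * ψ ez * g⁻¹ = ψ ez := mul_inv_eq_iff_eq_mul.2 (h.central g)

theorem conj_mul_ez (g x : H) : g * (x * ψ ez) * g⁻¹ = g * x * g⁻¹ * ψ ez := by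
  rw [mul_assoc (g * x) g⁻¹, h.central g⁻¹]
  simp only [mul_assoc]

theorem img_spec (g : H) (p : Pt) : g * ψ (pt p) * g⁻¹ = ψ (pt (fimg ψ g p)) ∨
    g * ψ (pt p) * g⁻¹ = ψ (ptz (fimg ψ g p)) := by
  refine Classical.epsilon_spec
    (p := fun q => g * ψ (pt p) * g⁻¹ = ψ (pt q) ∨ g * ψ (pt p) * g⁻¹ = ψ (ptz q)) ?_
  obtain ⟨⟨hoff, hsq, hne1, hnez⟩, -⟩ := pt_spec p
  have hq := core_normal h.toQuo (g := g) ((h.core_iff _).2 hoff)
  obtain ⟨e, he⟩ := h.core_mem _ hq
  have hpt : IsPt e := by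
    refine ⟨(h.core_iff e).1 (he ▸ hq), h.inj ?_, fun e' => hne1 (h.inj ?_),
      fun e' => hnez (h.inj ?_)⟩
    · rw [← h.mul, he, psi_one h.toQuo,
        show g * ψ (pt p) * g⁻¹ * (g * ψ (pt p) * g⁻¹) = g * (ψ (pt p) * ψ (pt p)) * g⁻¹ by group,
        h.mul, hsq, psi_one h.toQuo]
      group
    · rw [e', psi_one h.toQuo, eq_comm, mul_inv_eq_one, mul_eq_left] at he
      rw [he, psi_one h.toQuo]
    · rw [e'] at he
      exact mul_left_cancel (mul_right_cancel (he.symm.trans (conj_ez h g).symm))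
  obtain ⟨q, rfl | rfl⟩ := pt_surj e hpt
  · exact ⟨q, Or.inl he.symm⟩
  · exact ⟨q, Or.inr he.symm⟩

theorem pt_eq_of {p q : Pt} {x : H} (hp : x = ψ (pt p) ∨ x = ψ (ptz p))
    (hq : x = ψ (pt q) ∨ x = ψ (ptz q)) : p = q := by
  rcases hp with rfl | rfl
  · rcases hq with e | e
    · exact pt_uniq p q (Or.inl (h.inj e))
    · exact pt_uniq p q (Or.inr (h.inj e))
  · rcases hq with e | e
    · exact (pt_uniq q p (Or.inr (h.inj e).symm)).symm
    · rw [psi_ptz h, psi_ptz h] at e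
      exact pt_uniq p q (Or.inl (h.inj (mul_right_cancel e)))

theorem img_uniq {g : H} {p q : Pt}
    (hq : g * ψ (pt p) * g⁻¹ = ψ (pt q) ∨ g * ψ (pt p) * g⁻¹ = ψ (ptz q)) : fimg ψ g p = q :=
  pt_eq_of h (img_spec h g p) hq

theorem img_ptz (g : H) (p : Pt) : g * ψ (ptz p) * g⁻¹ = ψ (pt (fimg ψ g p)) ∨
    g * ψ (ptz p) * g⁻¹ = ψ (ptz (fimg ψ g p)) := by
  have e : g * ψ (ptz p) * g⁻¹ = g * ψ (pt p) * g⁻¹ * ψ ez := by
    rw [psi_ptz h, conj_mul_ez h]
  rcases img_spec h g p with h1 | h1 <;> rw [e, h1]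
  · exact Or.inr (psi_ptz h _).symm
  · rw [psi_ptz h, mul_assoc, psi_ez_sq h, mul_one]; exact Or.inl rfl

theorem img_mul (g g' : H) (p : Pt) : fimg ψ (g * g') p = fimg ψ g (fimg ψ g' p) := by
  refine img_uniq h ?_
  have e : g * g' * ψ (pt p) * (g * g')⁻¹ = g * (g' * ψ (pt p) * g'⁻¹) * g⁻¹ := by group
  rcases img_spec h g' p with h1 | h1 <;> rw [e, h1]
  · exact img_spec h g _
  · exact img_ptz h g _

theorem img_one (p : Pt) : fimg ψ 1 p = p := img_uniq h (Or.inl (by group))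

theorem img_inv_left (g : H) (p : Pt) : fimg ψ g⁻¹ (fimg ψ g p) = p := by
  rw [← img_mul h, inv_mul_cancel, img_one h]

theorem img_inv_right (g : H) (p : Pt) : fimg ψ g (fimg ψ g⁻¹ p) = p := by
  rw [← img_mul h, mul_inv_cancel, img_one h]

theorem img_inj (g : H) : Function.Injective (fimg ψ g) :=
  Function.LeftInverse.injective (img_inv_left h g)

theorem img_psi (e : El) (p : Pt) :
    fimg ψ (ψ e) p = (p.1, if offH e.1 then sw p.2 else p.2) := by
  refine img_uniq h ?_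
  rw [psi_conj h.toQuo]
  exact (pt_conj e p).imp (congrArg ψ) (congrArg ψ)

theorem comm_pt (p q : Pt) : ψ (pt p) * ψ (pt q) = ψ (pt q) * ψ (pt p) ↔ Rel p q :=
  (psi_comm h.toQuo).trans (pt_comm p q)

theorem rel_img (g : H) {p q : Pt} (hpq : Rel p q) : Rel (fimg ψ g p) (fimg ψ g q) := by
  have hc : Commute (ψ (pt p)) (ψ (pt q)) := (comm_pt h p q).2 hpq
  have hc2 : Commute (g * ψ (pt p) * g⁻¹) (g * ψ (pt q) * g⁻¹) := Commute.map hc (MulAut.conj g).toMonoidHom
  have hz : ∀ x : H, Commute x (ψ ez) := fun x => h.central x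
  have hred : ∀ x a : H, (x = a ∨ x = a * ψ ez) → x * ψ ez = a ∨ x = a := fun x a e =>
    e.elim Or.inr fun e => Or.inl (by rw [e, mul_assoc, psi_ez_sq h, mul_one])
  refine (comm_pt h _ _).1 ?_
  have h1 := hred _ _ ((img_spec h g p).imp id fun e => e.trans (psi_ptz h _))
  have h2 := hred _ _ ((img_spec h g q).imp id fun e => e.trans (psi_ptz h _))
  rcases h1 with h1 | h1 <;> rcases h2 with h2 | h2 <;> rw [← h1, ← h2]
  · exact ((hc2.mul_right (hz _)).mul_left ((hz _).symm.mul_right (hz _))).eq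
  · exact (hc2.mul_left (hz _).symm).eq
  · exact (hc2.mul_right (hz _)).eq
  · exact hc2.eq

theorem line_type (g : H) (i : Fin 3) :
    (∀ j, (fimg ψ g (i, j)).1 = (fimg ψ g (i, 0)).1) ∨
      ∀ j, (fimg ψ g (i, j)).2 = (fimg ψ g (i, 0)).2 := by
  have ne : ∀ {j j' : Fin 3}, j ≠ j' → fimg ψ g (i, j) ≠ fimg ψ g (i, j') := fun hj e =>
    hj (congrArg Prod.snd (img_inj h g e))
  rcases triangle _ _ _ (ne (j := 0) (j' := 1) (by decide)) (ne (j := 0) (j' := 2) (by decide))
    (ne (j := 1) (j' := 2) (by decide)) (rel_img h g (Or.inl rfl)) (rel_img h g (Or.inl rfl))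
    (rel_img h g (Or.inl rfl)) with ⟨a, b⟩ | ⟨a, b⟩
  · refine Or.inl fun j => ?_
    fin_cases j
    exacts [rfl, a.symm, b.symm]
  · refine Or.inr fun j => ?_
    fin_cases j
    exacts [rfl, a.symm, b.symm]

omit h in
/-- Rows go to rows. -/
def RowPres (ψ : El → H) (g : H) : Prop :=
  ∀ p q : Pt, p.1 = q.1 → (fimg ψ g p).1 = (fimg ψ g q).1

theorem row_flip {g : H} (hg : ¬ RowPres ψ g) (i j : Fin 3) :
    (fimg ψ g (i, j)).2 = (fimg ψ g (i, 0)).2 := by
  rcases line_type h g i with hi | hi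
  swap
  · exact hi j
  exfalso
  refine hg ?_
  rintro ⟨p1, p2⟩ ⟨q1, q2⟩ rfl
  rcases line_type h g p1 with hk | hk
  · exact (hk p2).trans (hk q2).symm
  exfalso
  obtain ⟨a, ha⟩ := line_onto (img_inj h g) p1 hk (fimg ψ g (i, 0)).1
  obtain ⟨b, hb⟩ := Finite.injective_iff_surjective.1
    (show Function.Injective (fun j => (fimg ψ g (i, j)).2) from fun x y e =>
      congrArg Prod.snd (img_inj h g (Prod.ext ((hi x).trans (hi y).symm) e)))
    (fimg ψ g (p1, 0)).2
  have e1 : fimg ψ g (i, b) = ((fimg ψ g (i, 0)).1, (fimg ψ g (p1, 0)).2) := Prod.ext (hi b) hb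
  have e := img_inj h g (e1.trans ha.symm)
  have h2 : i = p1 := congrArg Prod.fst e
  subst h2
  exact one_ne_zero (congrArg Prod.snd (img_inj h g (Prod.ext (hi 1) (hk 1)) :))

theorem rowpres_sq (g : H) : RowPres ψ (g * g) := by
  by_cases hg : RowPres ψ g
  · intro p q hpq
    rw [img_mul h, img_mul h]
    exact hg _ _ (hg p q hpq)
  have hf := row_flip h hg
  have hrow : ∀ a b : Pt, a.1 = b.1 → (fimg ψ g a).2 = (fimg ψ g b).2 := by
    rintro ⟨a1, a2⟩ ⟨b1, b2⟩ rfl
    exact (hf a1 a2).trans (hf a1 b2).symm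
  have hcol : ∀ a b : Pt, a.2 = b.2 → (fimg ψ g a).1 = (fimg ψ g b).1 := by
    intro a b hab
    rcases rel_img h g (Or.inr hab) with e | e
    · exact e
    obtain ⟨j, hj⟩ := line_onto (img_inj h g) a.1 (fun j => hrow (a.1, j) a rfl) (fimg ψ g b).1
    have e2 : (a.1, j) = b := img_inj h g (hj.trans (Prod.ext rfl e))
    have e3 : a = b := Prod.ext (congrArg Prod.fst e2 :) hab
    rw [e3]
  intro p q hpq
  rw [img_mul h, img_mul h]
  exact hcol _ _ (hrow p q hpq)

variable [Finite H]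

theorem rowpres_all (g : H) : RowPres ψ g := by
  let R : Subgroup H := finSub (RowPres ψ) (fun p q e => by rwa [img_one h, img_one h])
    (fun a b ha hb p q e => by rw [img_mul h, img_mul h]; exact ha _ _ (hb p q e))
  have hsq : ∀ x : H, x * x ∈ R := rowpres_sq h
  haveI : R.Normal := ⟨fun x hx c => by
    have e : c * x * c⁻¹ = (c * x) * (c * x) * x⁻¹ * (c⁻¹ * c⁻¹) := by group
    rw [e]
    exact mul_mem (mul_mem (hsq _) (inv_mem hx)) (hsq _)⟩
  have hS : ∀ e, ψ e ∈ R := fun e p q hpq => by rw [img_psi h, img_psi h]; exact hpq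
  obtain ⟨k, hk⟩ := h.odd_index R hS
  have h1 := R.pow_index_mem g
  rw [hk, pow_succ, pow_mul, sq] at h1
  exact (mul_mem_cancel_left (pow_mem (hsq g) k)).1 h1

/-- The permutation of rows and the permutation of columns. -/
theorem split (g : H) (p : Pt) :
    (fimg ψ g p).1 = (fimg ψ g (p.1, 0)).1 ∧ (fimg ψ g p).2 = (fimg ψ g (0, p.2)).2 := by
  refine ⟨rowpres_all h g p (p.1, 0) rfl, ?_⟩
  rcases rel_img h g (Or.inr rfl : Rel p (0, p.2)) with e | e
  swap
  · exact e
  have e2 : p.1 = (0, p.2).1 := by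
    have := rowpres_all h g⁻¹ _ _ e
    rwa [img_inv_left h, img_inv_left h] at this
  exact congrArg (fun x => (fimg ψ g x).2) (Prod.ext e2 rfl : p = (0, p.2))

omit h in
/-- Every row is fixed. -/
def RowFix (ψ : El → H) (g : H) : Prop := ∀ p : Pt, (fimg ψ g p).1 = p.1

theorem rowfix_mul {a b : H} (ha : RowFix ψ a) (hb : RowFix ψ b) : RowFix ψ (a * b) :=
  fun p => by rw [img_mul h, ha, hb]

theorem rowfix_psi (e : El) : RowFix ψ (ψ e) := fun p => by rw [img_psi h]

/-- The subgroup fixing every row. -/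
def rowSub : Subgroup H :=
  finSub (RowFix ψ) (fun p => by rw [img_one h]) fun _ _ => rowfix_mul h

theorem rowSub_normal : (rowSub h).Normal := by
  refine ⟨fun x hx c p => ?_⟩
  rw [img_mul h, img_mul h]
  conv_rhs => rw [← img_inv_right h c p]
  exact rowpres_all h c _ _ (hx _)

theorem rowfix_of_point {g : H} {i : Fin 3} (hi : (fimg ψ g (i, 0)).1 = i) : RowFix ψ g := by
  haveI := rowSub_normal h
  obtain ⟨k, hk⟩ := h.odd_index (rowSub h) (rowfix_psi h)
  have hπ : Function.Injective fun a => (fimg ψ g (a, (0 : Fin 3))).1 := fun a b e => by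
    have := rowpres_all h g⁻¹ _ _ e
    rwa [img_inv_left h, img_inv_left h] at this
  have h2 : g * g ∈ rowSub h := fun p => by
    rw [img_mul h, (split h g _).1, (split h g p).1]
    exact fix_twice _ hπ i hi p.1
  have h1 := (rowSub h).pow_index_mem g
  rw [hk, pow_succ, pow_mul, sq] at h1
  exact (mul_mem_cancel_left (pow_mem h2 k)).1 h1

/-- An element fixing a point of the first column lies in the Sylow subgroup. -/
theorem mem_of_fix {g : H} {i : Fin 3} (hi : fimg ψ g (i, 0) = (i, 0)) : ∃ e, g = ψ e := by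
  have hrow : RowFix ψ g := rowfix_of_point h (i := i) (by rw [hi])
  have hcinj : Function.Injective fun j => (fimg ψ g (0, j)).2 := fun a b e => by
    have := img_inj h g (Prod.ext ((hrow (0, a)).trans (hrow (0, b)).symm) e :
      fimg ψ g (0, a) = fimg ψ g (0, b))
    exact congrArg Prod.snd this
  have hc0 : (fimg ψ g (0, (0 : Fin 3))).2 = 0 := by
    rw [← (split h g (i, 0)).2, hi]
  have key : ∀ g' : H, (∀ p, fimg ψ g' p = p) → ∃ e, g' = ψ e := by
    intro g' hg'
    obtain ⟨e, he⟩ := h.core_mem g' (mem_core_of_chain h.toQuo fun q hq => by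
      obtain ⟨e, rfl⟩ := h.core_mem q hq
      have hp : ∀ p, g' * ψ (pt p) * g'⁻¹ = ψ (pt p) ∨
          g' * ψ (pt p) * g'⁻¹ = ψ ez * ψ (pt p) := fun p => by
        have h1 := img_spec h g' p
        rw [hg' p] at h1
        refine h1.imp id fun e => e.trans ?_
        rw [psi_ptz h, h.central]
      rcases pt_gen e ((h.core_iff e).1 hq) with rfl | rfl | ⟨p, rfl | rfl⟩ | ⟨p, p', rfl⟩
      · exact Or.inl (by rw [psi_one h.toQuo]; group)
      · exact Or.inl (conj_ez h g')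
      · exact hp p
      · have e : g' * ψ (ptz p) * g'⁻¹ = g' * ψ (pt p) * g'⁻¹ * ψ ez := by
          rw [psi_ptz h, conj_mul_ez h]
        rw [e, psi_ptz h]
        rcases hp p with h1 | h1 <;> rw [h1]
        · exact Or.inl rfl
        · exact Or.inr (mul_assoc _ _ _)
      · rw [← h.mul]
        have e : g' * (ψ (pt p) * ψ (pt p')) * g'⁻¹ =
            g' * ψ (pt p) * g'⁻¹ * (g' * ψ (pt p') * g'⁻¹) := by group
        rw [e]
        rcases hp p with h1 | h1 <;> rcases hp p' with h2 | h2 <;> rw [h1, h2]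
        · exact Or.inl rfl
        · exact Or.inr (by rw [← mul_assoc, h.central, mul_assoc])
        · exact Or.inr (mul_assoc _ _ _)
        · refine Or.inl ?_
          rw [mul_assoc (ψ ez), ← mul_assoc (ψ (pt p)), h.central (ψ (pt p)), mul_assoc (ψ ez),
            ← mul_assoc (ψ ez), psi_ez_sq h, one_mul])
    exact ⟨e, he.symm⟩
  rcases fix_zero _ hcinj hc0 with hc | hc
  · exact key g fun p => Prod.ext (hrow p) ((split h g p).2.trans (hc _))
  · set u : El := ((false, false, true, false), t0) with hu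
    obtain ⟨e, he⟩ := key (ψ u * g) fun p => by
      rw [img_mul h, img_psi h]
      refine Prod.ext (hrow p) ?_
      show (if offH u.1 then sw (fimg ψ g p).2 else (fimg ψ g p).2) = p.2
      rw [if_pos (by decide +kernel), (split h g p).2, hc, sw_sw]
    refine ⟨emul (einv u) e, ?_⟩
    rw [← h.mul, ← he, ← psi_inv h.toQuo, inv_mul_cancel_left]

theorem mem_of_commute {g : H} {i : Fin 3}
    (hg : g * ψ (pt (i, 0)) = ψ (pt (i, 0)) * g) : ∃ e, g = ψ e :=
  mem_of_fix h (i := i) (img_uniq h (Or.inl (mul_inv_eq_iff_eq_mul.2 hg)))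

theorem exists_rowfix (j : Fin 3) : ∃ l, RowFix ψ l ∧ ∀ p : Pt, p.2 = 0 → (fimg ψ l p).2 = j := by
  have hsplit : ∀ l p, p.2 = 0 → (fimg ψ l p).2 = (fimg ψ l (0, 0)).2 := fun l p hp => by
    rw [(split h l p).2, hp]
  by_cases hj : j = 0
  · exact ⟨1, fun p => by rw [img_one h], fun p hp => by rw [img_one h, hp, hj]⟩
  obtain ⟨l, hl, hl0⟩ : ∃ l, RowFix ψ l ∧ (fimg ψ l (0, 0)).2 ≠ 0 := by
    by_contra hno
    push Not at hno
    haveI := rowSub_normal h
    have hle : IsPGroup 2 (rowSub h) := isPGroup_two_of_odd fun x hx ho => by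
      obtain ⟨e, rfl⟩ := mem_of_fix h (i := 0) (Prod.ext (hx _) (hno x hx) :
        fimg ψ x (0, 0) = (0, 0))
      exact orderOf_eq_one_iff.1 (Nat.eq_one_of_dvd_coprimes
        (Nat.Coprime.pow_right 2 (Nat.coprime_two_right.2 ho)) dvd_rfl
        (orderOf_dvd_of_pow_eq_one (psi_pow h.toQuo e)))
    have h1 := (h.core_iff _).1 (CfsgLib.Base.le_pCore (N := rowSub h) hle
      (rowfix_psi h ((false, false, true, false), t0)))
    revert h1
    decide +kernel
  rcases sw_two _ j hl0 hj with e | e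
  · exact ⟨l, hl, fun p hp => (hsplit l p hp).trans e.symm⟩
  · refine ⟨ψ ((false, false, true, false), t0) * l,
      rowfix_mul h (rowfix_psi h ((false, false, true, false), t0)) hl,
      fun p hp => ?_⟩
    rw [img_mul h, img_psi h]
    rw [if_pos (by decide +kernel)]
    exact (congrArg sw (hsplit l p hp)).trans e.symm

theorem to_first (p : Pt) : ∃ l, fimg ψ l p = (p.1, 0) := by
  obtain ⟨l, hl, hl2⟩ := exists_rowfix h p.2
  refine ⟨l⁻¹, ?_⟩
  conv_lhs => rw [show p = fimg ψ l (p.1, 0) from Prod.ext (hl (p.1, 0)).symm (hl2 (p.1, 0) rfl).symm]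
  rw [img_inv_left h]

/-- An element fixing the first column normalizes the elementary subgroup of order sixteen. -/
theorem A_of_col {g : H} (hg : ∀ i, (fimg ψ g (i, 0)).2 = 0) (v : Vec) :
    ∃ w, g * ψ (v, t0) * g⁻¹ = ψ (w, t0) := by
  have hA : ∀ a b : Vec, emul ((a, t0) : El) (b, t0) = emul ((b, t0) : El) (a, t0) := by
    decide +kernel
  have hcomm : ∀ i, g * ψ (v, t0) * g⁻¹ * ψ (pt (i, 0)) = ψ (pt (i, 0)) * (g * ψ (v, t0) * g⁻¹) := by
    intro i
    obtain ⟨r, hr⟩ := Finite.injective_iff_surjective.1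
      (show Function.Injective fun a => (fimg ψ g (a, (0 : Fin 3))).1 from fun a b e => by
        exact congrArg Prod.fst (img_inj h g (Prod.ext e ((hg a).trans (hg b).symm)))) i
    have hr' : fimg ψ g (r, 0) = (i, 0) := Prod.ext hr (hg r)
    obtain ⟨a, ha⟩ : ∃ a : Vec, g * ψ (a, t0) * g⁻¹ = ψ (pt (i, 0)) := by
      rcases img_spec h g (r, 0) with e | e <;> rw [hr'] at e
      · obtain ⟨a, -, -, -, ha⟩ := pt_line_mem r _ (Or.inl rfl)
        exact ⟨a, ha ▸ e⟩
      · obtain ⟨a, -, -, -, ha⟩ := pt_line_mem r _ (Or.inr rfl)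
        refine ⟨a, ha ▸ ?_⟩
        have e2 : g * ψ (ptz (r, 0)) * g⁻¹ = g * ψ (pt (r, 0)) * g⁻¹ * ψ ez := by
          rw [psi_ptz h, conj_mul_ez h]
        rw [e2, e, psi_ptz h, mul_assoc, psi_ez_sq h, mul_one]
    rw [← ha]
    exact (Commute.map (show Commute (ψ (v, t0)) (ψ (a, t0)) from (psi_comm h.toQuo).2 (hA v a))
      (MulAut.conj g).toMonoidHom).eq
  obtain ⟨e, he⟩ := mem_of_commute h (hcomm 0)
  refine ⟨e.1, he.trans (congrArg ψ (Prod.ext rfl ?_))⟩
  refine cent_col0 e fun i => (psi_comm h.toQuo).1 ?_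
  rw [← he]
  exact hcomm i

theorem exists_cycle {g : H} (hg : ¬ RowFix ψ g) :
    ∃ g', ∀ i : Fin 3, fimg ψ g' (i, 0) = (i + 1, 0) := by
  have hπ : Function.Injective fun a => (fimg ψ g (a, (0 : Fin 3))).1 := fun a b e => by
    have := rowpres_all h g⁻¹ _ _ e
    rwa [img_inv_left h, img_inv_left h] at this
  obtain ⟨x, hx⟩ : ∃ x, ∀ i, (fimg ψ x (i, 0)).1 = i + 1 := by
    rcases moves_all _ hπ fun i e => hg (rowfix_of_point h e) with e | e
    · exact ⟨g, e⟩
    · refine ⟨g * g, fun i => ?_⟩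
      rw [img_mul h, (split h g _).1]
      exact e i
  obtain ⟨l, hl, hl2⟩ := exists_rowfix h (fimg ψ x (0, 0)).2
  refine ⟨l⁻¹ * x, fun i => ?_⟩
  rw [img_mul h]
  conv_lhs => rw [show fimg ψ x (i, 0) = fimg ψ l (i + 1, 0) from
    Prod.ext ((hx i).trans (hl (i + 1, 0)).symm) ((split h x (i, 0)).2.trans (hl2 (i + 1, 0) rfl).symm)]
  rw [img_inv_left h]

theorem card_eq : ((∀ g, RowFix ψ g) → Nat.card H = 192) ∧
    ((∃ g, ¬ RowFix ψ g) → Nat.card H = 576) := by
  letI : MulAction H Pt :=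
    { smul := fimg ψ, one_smul := img_one h, mul_smul := img_mul h }
  have hst : (MulAction.stabilizer H ((0, 0) : Pt) : Set H) = Set.range ψ := by
    ext g
    refine ⟨fun hg => ?_, ?_⟩
    · obtain ⟨e, rfl⟩ := mem_of_fix h (i := 0) (show fimg ψ g (0, 0) = (0, 0) from hg)
      exact ⟨e, rfl⟩
    · rintro ⟨e, rfl⟩
      show fimg ψ (ψ e) (0, 0) = (0, 0)
      rw [img_psi h]
      refine Prod.ext rfl ?_
      show (if offH e.1 then sw 0 else (0 : Fin 3)) = 0
      split <;> rfl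
  have h64 : Nat.card ↥(MulAction.stabilizer H ((0, 0) : Pt)) = 64 := by
    rw [← SetLike.coe_sort_coe, hst, Nat.card_congr (Equiv.ofInjective ψ h.inj).symm,
      Nat.card_eq_fintype_card]
    decide +kernel
  have hc : Nat.card H = 64 * (MulAction.orbit H ((0, 0) : Pt)).ncard := by
    rw [← MulAction.index_stabilizer, ← h64, Subgroup.card_mul_index]
  refine ⟨fun hall => ?_, fun ⟨g, hg⟩ => ?_⟩
  · have : MulAction.orbit H ((0, 0) : Pt) = Set.range fun j : Fin 3 => ((0, j) : Pt) := by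
      ext p
      refine ⟨?_, ?_⟩
      · rintro ⟨x, rfl⟩
        exact ⟨(fimg ψ x (0, 0)).2, Prod.ext (hall x (0, 0)).symm rfl⟩
      · rintro ⟨j, rfl⟩
        obtain ⟨l, hl, hl2⟩ := exists_rowfix h j
        exact ⟨l, Prod.ext (hl (0, 0)) (hl2 (0, 0) rfl)⟩
    rw [hc, this, Set.ncard_range_of_injective (fun a b e => congrArg Prod.snd e), Nat.card_fin]
  · obtain ⟨g', hg'⟩ := exists_cycle h hg
    have : MulAction.orbit H ((0, 0) : Pt) = Set.univ := by
      refine Set.eq_univ_of_forall fun p => ?_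
      obtain ⟨l, hl, hl2⟩ := exists_rowfix h p.2
      obtain ⟨a, ha⟩ : ∃ a, fimg ψ a ((0, 0) : Pt) = (p.1, 0) := by
        rcases (by decide : ∀ i : Fin 3, i = 0 ∨ i = 0 + 1 ∨ i = 0 + 1 + 1) p.1 with e | e | e <;>
          rw [e]
        · exact ⟨1, img_one h _⟩
        · exact ⟨g', hg' 0⟩
        · exact ⟨g' * g', by rw [img_mul h, hg', hg']⟩
      refine ⟨l * a, ?_⟩
      show fimg ψ (l * a) (0, 0) = p
      rw [img_mul h, ha]
      exact Prod.ext (hl _) (hl2 _ rfl)
    rw [hc, this, Set.ncard_univ, Nat.card_eq_fintype_card, Fintype.card_prod, Fintype.card_fin]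

end ShapeAux

end CfsgLib.AEightSyl
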