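import Cfsg.Agent.Lib.AEightSyl.ShapeGrid
import Cfsg.Agent.Lib.AEightSyl.Pieces
import Cfsg.Agent.Lib.StrongTwoClasses.Tools

/-!
# Piece C: passing between the centralizer of `z` and its quotient by the odd core
-/

set_option autoImplicit false
set_option linter.style.haveILetI false
set_option linter.unusedSectionVars false
set_option synthInstance.maxSize 4096

namespace CfsgLib.AEightSyl

open Cfsg Subgroup CfsgLib.L34Sylow CfsgLib.StrongTwoClasses

universe u

namespace ShapeAux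

variable {G : Type u} [Group G] [Finite G] {S : Sylow 2 G} {φ : El → G} (hS : Setup S φ)
include hS

theorem S_le : (S : Subgroup G) ≤ cz (zc φ) := by
  intro s hs
  obtain ⟨e, rfl⟩ := hS.surj s hs
  rw [mem_centralizer_singleton_iff, hS.mul, hS.mul, (e1_mul e).2.2]

theorem mem_cz (e : El) : φ e ∈ cz (zc φ) := S_le hS (hS.mem e)

theorem phi_one : φ e1 = 1 := by
  have h1 := hS.mul e1 e1
  rw [(e1_mul e1).1] at h1
  exact mul_eq_right.1 h1

omit hS in
/-- The quotient of the centralizer of `z` by its odd core. -/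
abbrev Hq (φ : El → G) : Type u := ↥(cz (zc φ)) ⧸ oddCore ↥(cz (zc φ))

/-- The coordinates in the quotient. -/
def psi : El → Hq φ := fun e => QuotientGroup.mk ⟨φ e, mem_cz hS e⟩

omit hS in
theorem mem_core_of_mk {x : ↥(cz (zc φ))} (h : (x : Hq φ) = 1) : (x : G) ∈ core (zc φ) :=
  ⟨x, (QuotientGroup.eq_one_iff x).1 h, rfl⟩

omit hS in
theorem eq_one_of_core {x : G} (hx : x ∈ core (zc φ)) {k : ℕ} (hk : x ^ 2 ^ k = 1) : x = 1 := by
  have h1 : Odd (orderOf x) := Signalizer2.odd_orderOf (odd_card_core _) hx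
  exact orderOf_eq_one_iff.1 (Nat.eq_one_of_dvd_coprimes
    (Nat.Coprime.pow_right k (Nat.coprime_two_right.2 h1)) dvd_rfl (orderOf_dvd_of_pow_eq_one hk))

theorem quo : Quo (psi hS) := by
  haveI : Fact (Nat.Prime 2) := ⟨Nat.prime_two⟩
  let SH : Sylow 2 ↥(cz (zc φ)) := S.subtype (S_le hS)
  let S' : Sylow 2 (Hq φ) := SH.mapSurjective
    (f := QuotientGroup.mk' (oddCore ↥(cz (zc φ)))) (QuotientGroup.mk'_surjective _)
  have hS' : ∀ x : Hq φ, x ∈ (S' : Subgroup (Hq φ)) → ∃ e, psi hS e = x := by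
    rintro _ ⟨⟨x, hx⟩, hxS, rfl⟩
    obtain ⟨e, he⟩ := hS.surj x hxS
    exact ⟨e, congrArg QuotientGroup.mk (Subtype.ext he :
      (⟨φ e, mem_cz hS e⟩ : ↥(cz (zc φ))) = ⟨x, hx⟩)⟩
  refine ⟨fun e f => ?_, fun e f hef => ?_, fun g => ?_, ?_, fun g hg => ?_, fun K hK => ?_⟩
  · show (QuotientGroup.mk _ : Hq φ) * QuotientGroup.mk _ = QuotientGroup.mk _
    rw [← QuotientGroup.mk_mul]
    exact congrArg QuotientGroup.mk (Subtype.ext (hS.mul e f))
  · have h1 : ((φ e)⁻¹ * φ f) ∈ core (zc φ) := mem_core_of_mk (φ := φ)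
      (x := (⟨φ e, mem_cz hS e⟩ : ↥(cz (zc φ)))⁻¹ * ⟨φ f, mem_cz hS f⟩)
      (by rw [QuotientGroup.mk_mul, QuotientGroup.mk_inv, inv_mul_eq_one]; exact hef)
    obtain ⟨k, hk⟩ := S.2 ⟨_, mul_mem (inv_mem (hS.mem e)) (hS.mem f)⟩
    exact hS.inj (inv_mul_eq_one.1 (eq_one_of_core h1 (congrArg Subtype.val hk :)))
  · obtain ⟨x, rfl⟩ := QuotientGroup.mk_surjective g
    show (QuotientGroup.mk _ : Hq φ) * QuotientGroup.mk _ = QuotientGroup.mk _ * QuotientGroup.mk _
    rw [← QuotientGroup.mk_mul, ← QuotientGroup.mk_mul]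
    exact congrArg QuotientGroup.mk (Subtype.ext (mem_centralizer_singleton_iff.1 x.2))
  · haveI : Group.IsSolvable ↥(cz (zc φ)) := hS.sol
    haveI : Group.IsSolvable (Hq φ) := Group.isSolvable_of_surjective (QuotientGroup.mk'_surjective _)
    exact CfsgLib.Base.centralizer_pCore_le_of_isSolvable
      (CfsgLib.Base.pPrimeCore_quotient_pPrimeCore 2 _)
  · exact hS' g (CfsgLib.Base.pCore_le_sylow S' hg)
  · have hle : (S' : Subgroup (Hq φ)) ≤ K := fun x hx => by
      obtain ⟨e, rfl⟩ := hS' x hx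
      exact hK e
    rw [← Nat.not_even_iff_odd, even_iff_two_dvd]
    exact fun hd => S'.not_dvd_index (hd.trans (Subgroup.index_dvd_of_le hle))

/-- Two elements of the centralizer with one image differ by an element of the odd core. -/
theorem lift_eq {g : ↥(cz (zc φ))} {e : El} (h : (g : Hq φ) = psi hS e) :
    (g : G) * (φ e)⁻¹ ∈ core (zc φ) :=
  mem_core_of_mk (φ := φ) (x := g * (⟨φ e, mem_cz hS e⟩ : ↥(cz (zc φ)))⁻¹)
    (by rw [QuotientGroup.mk_mul, QuotientGroup.mk_inv, mul_inv_eq_one]; exact h)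

/-- The Frattini argument. -/
theorem frattini {X : Subgroup G} (hX : X ≤ S) (g : ↥(cz (zc φ)))
    (h : ∀ e, φ e ∈ X → ∃ e', φ e' ∈ X ∧
      (g : Hq φ) * psi hS e * (g : Hq φ)⁻¹ = psi hS e') :
    ∃ o ∈ core (zc φ), ∃ n ∈ normalizer (X : Set G) ⊓ cz (zc φ), (g : G) = o * n := by
  haveI : Fact (Nat.Prime 2) := ⟨Nat.prime_two⟩
  have hXn : X ≤ normalizer (core (zc φ) : Set G) :=
    (hX.trans (S_le hS)).trans (centralizer_le_normalizer_core _)
  obtain ⟨o, ho, n, hn, e⟩ := exists_mul_of_conj_le (S.2.to_le hX) (odd_card_core (zc φ)) hXn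
    (g := (g : G)) fun x hx => by
      obtain ⟨e, rfl⟩ := hS.surj x (hX hx)
      obtain ⟨e', he', h'⟩ := h e hx
      have h1 := lift_eq hS (g := g * ⟨φ e, mem_cz hS e⟩ * g⁻¹) (e := e') (by
        rw [QuotientGroup.mk_mul, QuotientGroup.mk_mul, QuotientGroup.mk_inv]; exact h')
      have e2 : (g : G) * φ e * (g : G)⁻¹ = ((g : G) * φ e * (g : G)⁻¹ * (φ e')⁻¹) * φ e' := by
        group
      rw [e2]
      exact mul_mem (mem_sup_right h1) (mem_sup_left he')
  refine ⟨o, ho, n, ⟨hn, ?_⟩, e⟩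
  have : n = o⁻¹ * g := by rw [e]; group
  rw [this]
  exact (cz (zc φ)).mul_mem ((cz (zc φ)).inv_mem (centralizerPPrimeCore_le _ ho)) g.2

/-- An element of the odd core normalizing a two-subgroup of `S` centralizes it. -/
theorem core_centralize {X : Subgroup G} (hX : X ≤ S) {o : G} (ho : o ∈ core (zc φ))
    (hn : o ∈ normalizer (X : Set G)) : o ∈ centralizer (X : Set G) := by
  refine mem_centralizer_iff.2 fun x hx => ?_
  have h1 : o * x * o⁻¹ * x⁻¹ ∈ X := mul_mem ((mem_normalizer_iff.1 hn x).1 hx) (inv_mem hx)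
  have h2 : o * x * o⁻¹ * x⁻¹ ∈ core (zc φ) := by
    have := (mem_normalizer_iff.1 (centralizer_le_normalizer_core _ (S_le hS (hX hx))) o⁻¹).1
      (inv_mem ho)
    have e : o * x * o⁻¹ * x⁻¹ = o * (x * o⁻¹ * x⁻¹) := by group
    rw [e]
    exact mul_mem ho this
  obtain ⟨k, hk⟩ := S.2 ⟨_, hX h1⟩
  have h3 := eq_one_of_core h2 (congrArg Subtype.val hk :)
  exact (mul_inv_eq_iff_eq_mul.1 (mul_inv_eq_one.1 h3)).symm

/-- Two involutions with one image are conjugate in the centralizer. -/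
theorem conj_of_eq {x y : ↥(cz (zc φ))} (hx : x * x = 1) (hy : y * y = 1)
    (h : (x : Hq φ) = y) : ∃ k : ↥(cz (zc φ)), k * x * k⁻¹ = y := by
  refine exists_conj_of_odd_mul hx hy (Signalizer2.odd_orderOf
    (CfsgLib.Base.odd_card_oddCore _) ((QuotientGroup.eq_one_iff _).1 ?_))
  rw [QuotientGroup.mk_mul, h, ← QuotientGroup.mk_mul, hy, QuotientGroup.mk_one]

theorem relIndex_eq : (core (zc φ)).relIndex (cz (zc φ)) = Nat.card (Hq φ) := by
  rw [Subgroup.relIndex, L34Sylow.core, Cfsg.centralizerPPrimeCore, Subgroup.subgroupOf,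
    Subgroup.comap_map_eq_self_of_injective (Subgroup.subtype_injective _), Subgroup.index_eq_card]

end ShapeAux

end CfsgLib.AEightSyl
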