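import Cfsg.Agent.Lib.AEightSyl.ShapeCheck
import Cfsg.Agent.Lib.Base.Cores

/-!
# Piece C: a soluble group with trivial odd core and this Sylow two-subgroup, central involution `z`

Either the elementary subgroup of order sixteen is normal, or the extraspecial subgroup of order
thirty-two is the largest normal two-subgroup.
-/

set_option autoImplicit false
set_option linter.style.haveILetI false
set_option linter.unusedSectionVars false
set_option synthInstance.maxSize 4096

namespace CfsgLib.AEightSyl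

open Cfsg Subgroup

universe u

namespace ShapeAux

variable {H : Type u} [Group H]

/-- The quotient of the centralizer of `z` by its odd core, in coordinates. -/
structure Quo (ψ : El → H) : Prop where
  mul : ∀ e f, ψ e * ψ f = ψ (emul e f)
  inj : Function.Injective ψ
  central : ∀ g : H, g * ψ ez = ψ ez * g
  cent : centralizer (pCore 2 H : Set H) ≤ pCore 2 H
  core_mem : ∀ g ∈ pCore 2 H, ∃ e, ψ e = g
  odd_index : ∀ K : Subgroup H, (∀ e, ψ e ∈ K) → Odd K.index

theorem sq_commute {g y : H} (ho : Odd (orderOf g)) (h : g * g * y = y * (g * g)) :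
    g * y = y * g := by
  obtain ⟨k, hk⟩ := ho
  have e : g = (g * g) ^ (k + 1) := by
    rw [← sq, ← pow_mul, show 2 * (k + 1) = orderOf g + 1 by omega, pow_succ, pow_orderOf_eq_one,
      one_mul]
  rw [e]
  exact (Commute.pow_left h (k + 1)).eq

theorem odd_fix {g x l : H} (ho : Odd (orderOf g)) (hc : g * l = l * g) {k : ℕ}
    (hl : l ^ 2 ^ k = 1) (h : g * x * g⁻¹ = l * x) : g * x = x * g := by
  have key : ∀ n : ℕ, g ^ n * x * (g ^ n)⁻¹ = l ^ n * x := by
    intro n
    induction n with
    | zero => simp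
    | succ n ih =>
      have e : g ^ (n + 1) * x * (g ^ (n + 1))⁻¹ = g * (g ^ n * x * (g ^ n)⁻¹) * g⁻¹ := by
        rw [pow_succ']; group
      rw [e, ih, ← mul_assoc g, (Commute.pow_right hc n).eq,
        show l ^ n * g * x * g⁻¹ = l ^ n * (g * x * g⁻¹) by group, h, ← mul_assoc, ← pow_succ]
  have h1 := key (orderOf g)
  rw [pow_orderOf_eq_one, one_mul, inv_one, mul_one, eq_comm, mul_eq_right] at h1
  have hl1 : l = 1 := orderOf_eq_one_iff.1 (Nat.eq_one_of_dvd_coprimes
    (Nat.Coprime.pow_right k (Nat.coprime_two_right.2 ho)) (orderOf_dvd_of_pow_eq_one h1)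
    (orderOf_dvd_of_pow_eq_one hl))
  rw [hl1, one_mul] at h
  exact mul_inv_eq_iff_eq_mul.1 h

theorem isPGroup_two_of_odd [Finite H] {K : Subgroup H}
    (h : ∀ g ∈ K, Odd (orderOf g) → g = 1) : IsPGroup 2 K := by
  rintro ⟨g, hg⟩
  obtain ⟨k, m, hm, hgm⟩ := Nat.exists_eq_two_pow_mul_odd (orderOf_pos g).ne'
  refine ⟨k, Subtype.ext ?_⟩
  simp only [SubmonoidClass.mk_pow, OneMemClass.coe_one]
  refine h _ (pow_mem hg _) ?_
  rw [orderOf_pow' _ (Nat.two_pow_pos k).ne', hgm, Nat.gcd_mul_right_left,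
    Nat.mul_div_cancel_left _ (Nat.two_pow_pos k)]
  exact hm

/-- A subset closed under the operations of a finite group is a subgroup. -/
def finSub [Finite H] (P : H → Prop) (h1 : P 1) (hm : ∀ a b, P a → P b → P (a * b)) :
    Subgroup H where
  carrier := {g | P g}
  one_mem' := h1
  mul_mem' := fun ha hb => hm _ _ ha hb
  inv_mem' := fun {g} hg => by
    show P g⁻¹
    have e : g⁻¹ = g ^ (orderOf g - 1) := by
      refine inv_eq_of_mul_eq_one_right ?_
      rw [← pow_succ', Nat.sub_add_cancel (orderOf_pos g), pow_orderOf_eq_one]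
    rw [e]
    exact (show ∀ n : ℕ, P (g ^ n) from fun n => by
      induction n with
      | zero => simpa using h1
      | succ n ih => rw [pow_succ]; exact hm _ _ ih hg) _

variable {ψ : El → H} (h : Quo ψ)
include h

theorem psi_one : ψ e1 = 1 := by
  have h1 := h.mul e1 e1
  rw [(e1_mul e1).1] at h1
  exact mul_eq_right.1 h1

theorem psi_inv (e : El) : (ψ e)⁻¹ = ψ (einv e) :=
  inv_eq_of_mul_eq_one_right (by rw [h.mul, (emul_einv e).1, psi_one h])

theorem psi_conj (f e : El) : ψ f * ψ e * (ψ f)⁻¹ = ψ (econj f e) := by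
  rw [psi_inv h, h.mul, h.mul]
  rfl

theorem psi_comm {e f : El} : ψ e * ψ f = ψ f * ψ e ↔ emul e f = emul f e := by
  rw [h.mul, h.mul]
  exact h.inj.eq_iff

theorem psi_pow (e : El) : ψ e ^ 2 ^ 2 = 1 := by
  have h4 : ∀ e : El, emul (emul e e) (emul e e) = e1 := by decide +kernel
  rw [show (2 : ℕ) ^ 2 = 2 * 2 from rfl, pow_mul, sq, sq, h.mul, h.mul, h4, psi_one h]

theorem core_normal {g q : H} (hq : q ∈ pCore 2 H) : g * q * g⁻¹ ∈ pCore 2 H :=
  (inferInstance : (pCore 2 H).Normal).conj_mem q hq g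

/-- An element moving everything in the two-core within cosets of `z` lies in it. -/
theorem mem_core_of_chain [Finite H] {g : H}
    (hg : ∀ q ∈ pCore 2 H, g * q * g⁻¹ = q ∨ g * q * g⁻¹ = ψ ez * q) : g ∈ pCore 2 H := by
  set P : H → Prop := fun x => ∀ q ∈ pCore 2 H, x * q * x⁻¹ = q ∨ x * q * x⁻¹ = ψ ez * q with hP
  have hz : ψ ez * ψ ez = 1 := by
    rw [h.mul, show emul ez ez = e1 by decide +kernel, psi_one h]
  have hm : ∀ a b, P a → P b → P (a * b) := by
    intro a b ha hb q hq
    have e : a * b * q * (a * b)⁻¹ = a * (b * q * b⁻¹) * a⁻¹ := by group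
    rcases hb q hq with h1 | h1 <;> rw [e, h1]
    · exact ha q hq
    · have e2 : a * (ψ ez * q) * a⁻¹ = ψ ez * (a * q * a⁻¹) := by
        rw [← mul_assoc a, h.central a]; group
      rw [e2]
      rcases ha q hq with h2 | h2 <;> rw [h2]
      · exact Or.inr rfl
      · rw [← mul_assoc, hz, one_mul]; exact Or.inl rfl
  let K : Subgroup H := finSub P (fun q _ => Or.inl (by group)) hm
  haveI hK : K.Normal := by
    refine ⟨fun x hx c q hq => ?_⟩
    have e : c * x * c⁻¹ * q * (c * x * c⁻¹)⁻¹ = c * (x * (c⁻¹ * q * c) * x⁻¹) * c⁻¹ := by group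
    have hq' : c⁻¹ * q * c ∈ pCore 2 H := by simpa using core_normal h (g := c⁻¹) hq
    rcases hx _ hq' with h1 | h1 <;> rw [e, h1]
    · exact Or.inl (by group)
    · exact Or.inr (by rw [← mul_assoc c, h.central c]; group)
  refine CfsgLib.Base.le_pCore (N := K) (isPGroup_two_of_odd fun x hx ho => ?_) hg
  have hxC : x ∈ centralizer (pCore 2 H : Set H) := mem_centralizer_iff.2 fun q hq => by
    rcases hx q hq with h1 | h1
    · exact (mul_inv_eq_iff_eq_mul.1 h1).symm
    · exact (odd_fix ho (h.central x) (k := 1) (by rw [pow_one, sq, hz]) h1).symm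
  obtain ⟨e, rfl⟩ := h.core_mem x (h.cent hxC)
  exact orderOf_eq_one_iff.1 (Nat.eq_one_of_dvd_coprimes
    (Nat.Coprime.pow_right 2 (Nat.coprime_two_right.2 ho)) dvd_rfl
    (orderOf_dvd_of_pow_eq_one (psi_pow h e)))

theorem fixed_of_rigid [Finite H] {P : List El} (hmem : ∀ e, e ∈ P ↔ ψ e ∈ pCore 2 H) (hnd : P.Nodup)
    (hr : rigid P = true) {g : H} (ho : Odd (orderOf g)) :
    g ∈ centralizer (pCore 2 H : Set H) := by
  have hσ0 : ∀ e ∈ P, ∃ e', ψ e' = g * ψ e * g⁻¹ := fun e he =>
    h.core_mem _ (core_normal h ((hmem e).1 he))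
  choose! σ hσ using hσ0
  have hσP : ∀ e ∈ P, σ e ∈ P := fun e he => (hmem _).2 (by
    rw [hσ e he]; exact core_normal h ((hmem e).1 he))
  have hσi : ∀ a ∈ P, ∀ b ∈ P, σ a = σ b → a = b := fun a ha b hb e => h.inj (by
    have := congrArg ψ e
    rw [hσ a ha, hσ b hb] at this
    simpa using this)
  have hσm : ∀ a ∈ P, ∀ b ∈ P, emul a b ∈ P ∧ σ (emul a b) = emul (σ a) (σ b) := by
    intro a ha b hb
    have hab : emul a b ∈ P := (hmem _).2 (by
      rw [← h.mul]; exact mul_mem ((hmem a).1 ha) ((hmem b).1 hb))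
    refine ⟨hab, h.inj ?_⟩
    rw [hσ _ hab, ← h.mul, ← h.mul, hσ a ha, hσ b hb]
    group
  have hperm : (P.map σ).Perm P := by
    refine List.perm_of_nodup_nodup_toFinset_eq (hnd.map_on hσi) hnd ?_
    refine Finset.eq_of_subset_of_card_le (fun x hx => ?_) ?_
    · rw [List.mem_toFinset, List.mem_map] at hx
      obtain ⟨a, ha, rfl⟩ := hx
      rw [List.mem_toFinset]
      exact hσP a ha
    · rw [List.toFinset_card_of_nodup hnd, List.toFinset_card_of_nodup (hnd.map_on hσi),
        List.length_map]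
  have heq : ∀ a ∈ P, ∀ b ∈ P, (σ a == σ b) = (a == b) := fun a ha b hb => by
    rw [Bool.eq_iff_iff, beq_iff_eq, beq_iff_eq]
    exact ⟨hσi a ha b hb, fun e => e ▸ rfl⟩
  have hfix1 : ∀ e, e = e1 ∨ e = ez → e ∈ P → σ e = e := by
    intro e he heP
    refine h.inj ?_
    rw [hσ e heP]
    rcases he with rfl | rfl
    · rw [psi_one h]; group
    · rw [h.central g]; group
  have hkey : ∀ x ∈ P, key P (σ x) = key P x := by
    intro x hx
    obtain ⟨hxx, hxx'⟩ := hσm x hx x hx
    have hsq : ∀ c, (c = e1 ∨ c = ez) → c ∈ P → (emul (σ x) (σ x) == c) = (emul x x == c) := by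
      intro c hc hcP
      rw [← hxx', ← heq _ hxx c hcP, hfix1 c hc hcP]
    have he1P : e1 ∈ P := (hmem _).2 (by rw [psi_one h]; exact one_mem _)
    have hezP : ez ∈ P := by
      refine (hmem _).2 (mem_core_of_chain h fun q _ => Or.inl ?_)
      rw [← h.central q]; group
    simp only [key]
    refine congrArg₂ Prod.mk (hsq e1 (Or.inl rfl) he1P)
      (congrArg₂ Prod.mk (hsq ez (Or.inr rfl) hezP) (congrArg₂ Prod.mk ?_ ?_))
    · rw [← hperm.countP_eq, List.countP_map]
      refine List.countP_congr fun r hr => ?_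
      simp only [Function.comp_apply]
      rw [← (hσm r hr r hr).2, heq _ (hσm r hr r hr).1 x hx]
    · rw [← hperm.countP_eq, List.countP_map]
      refine List.countP_congr fun r hr => ?_
      simp only [Function.comp_apply]
      rw [← (hσm r hr x hx).2, ← (hσm x hx r hr).2, heq _ (hσm r hr x hx).1 _ (hσm x hx r hr).1]
  have hstep : ∀ F : List El, (∀ f ∈ F, f ∈ P ∧ σ f = f) → ∀ f ∈ step P F, f ∈ P ∧ σ f = f := by
    intro F hF x hx
    obtain ⟨hxP, hx⟩ := List.mem_filter.1 hx
    refine ⟨hxP, ?_⟩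
    by_contra hne
    have hxF : F.contains x = false := by
      rw [Bool.eq_false_iff]
      exact fun hc => hne (hF x (List.contains_iff_mem.1 hc)).2
    have hmemC : ∀ y ∈ P, σ y ≠ y → key P y = key P x →
        y ∈ P.filter fun w => key P w == key P x && !F.contains w := by
      intro y hy hy' hk
      rw [List.mem_filter, Bool.and_eq_true, beq_iff_eq, Bool.not_eq_true', Bool.eq_false_iff]
      exact ⟨hy, hk, fun hc => hy' (hF y (List.contains_iff_mem.1 hc)).2⟩
    have h2 : σ (σ x) ≠ σ x := fun e => hne (hσi _ (hσP x hxP) _ hxP e)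
    have hC1 := hmemC x hxP hne rfl
    have hC2 := hmemC _ (hσP x hxP) h2 (hkey x hxP)
    have hback : σ (σ x) = x → False := by
      intro e
      refine hne (h.inj ?_)
      rw [hσ x hxP]
      refine mul_inv_eq_iff_eq_mul.2 (sq_commute ho ?_)
      have e2 := congrArg ψ e
      rw [hσ _ (hσP x hxP), hσ x hxP] at e2
      refine mul_inv_eq_iff_eq_mul.1 (Eq.trans ?_ e2)
      group
    rw [hxF, Bool.false_or, grows, Bool.or_eq_true, decide_eq_true_iff] at hx
    rcases hx with hlen | hall
    · have h3 : σ (σ (σ x)) ≠ σ (σ x) := fun e =>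
        h2 (hσi _ (hσP _ (hσP x hxP)) _ (hσP x hxP) e)
      have hC3 := hmemC _ (hσP _ (hσP x hxP)) h3 (by rw [hkey _ (hσP x hxP), hkey x hxP])
      have hsub : ({x, σ x, σ (σ x)} : Finset El) ⊆
          (P.filter fun w => key P w == key P x && !F.contains w).toFinset := by
        intro y hy
        simp only [Finset.mem_insert, Finset.mem_singleton] at hy
        rw [List.mem_toFinset]
        rcases hy with rfl | rfl | rfl <;> assumption
      have h4 := (Finset.card_le_card hsub).trans ((List.toFinset_card_le _).trans hlen)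
      rw [Finset.card_insert_of_notMem (by
        simp only [Finset.mem_insert, Finset.mem_singleton]
        exact fun e => e.elim (fun e => hne e.symm) (fun e => hback e.symm)),
        Finset.card_pair (Ne.symm h2)] at h4
      omega
    · rw [List.all_eq_true] at hall
      obtain ⟨f, hf, e⟩ := List.any_eq_true.1 (hall _ hC2)
      rw [beq_iff_eq] at e
      obtain ⟨hfP, hff⟩ := hF f hf
      have hgf : g * ψ f = ψ f * g := by
        have e3 := hσ f hfP
        rw [hff] at e3
        exact (mul_inv_eq_iff_eq_mul.1 e3.symm)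
      refine hne (h.inj ?_)
      rw [hσ x hxP]
      refine mul_inv_eq_iff_eq_mul.2 (odd_fix ho hgf (psi_pow h f) ?_)
      rw [← hσ x hxP, ← e, h.mul]
  have hbase : ∀ f ∈ [e1, ez], f ∈ P ∧ σ f = f := by
    intro f hf
    have hfe : f = e1 ∨ f = ez := by simpa using hf
    have hfP : f ∈ P := (hmem _).2 (by
      rcases hfe with rfl | rfl
      · rw [psi_one h]; exact one_mem _
      · refine mem_core_of_chain h fun q _ => Or.inl ?_
        rw [← h.central q]; group)
    exact ⟨hfP, hfix1 f hfe hfP⟩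
  have hall := hstep _ (hstep _ (hstep _ hbase))
  rw [rigid, List.all_eq_true] at hr
  refine mem_centralizer_iff.2 fun q hq => ?_
  obtain ⟨e, rfl⟩ := h.core_mem q hq
  have hff := (hall e (List.contains_iff_mem.1 (hr e ((hmem e).2 hq)))).2
  have e3 := hσ e ((hmem e).2 hq)
  rw [hff] at e3
  exact (mul_inv_eq_iff_eq_mul.1 e3.symm).symm

theorem core_cases [Finite H] : (∀ v, ψ (v, t0) ∈ pCore 2 H) ∨
    ∀ e, ψ e ∈ pCore 2 H ↔ offH e.1 = false := by
  classical
  by_cases hoff : ∃ u, ψ u ∈ pCore 2 H ∧ offH u.1 = true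
  swap
  · push Not at hoff
    refine Or.inr fun e => ⟨fun he => by simpa using hoff e he, fun he => ?_⟩
    refine mem_core_of_chain h fun q hq => ?_
    obtain ⟨p, rfl⟩ := h.core_mem q hq
    have hp : offH p.1 = false := by simpa using hoff p hq
    rw [mul_inv_eq_iff_eq_mul, mul_inv_eq_iff_eq_mul]
    rcases Q_comm e p he hp with h1 | h1
    · exact Or.inl ((psi_comm h).2 h1)
    · refine Or.inr ?_
      rw [mul_assoc (ψ ez), h.mul, h.mul, h.mul, h1, (e1_mul _).2.2]
  obtain ⟨u, hu, huo⟩ := hoff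
  by_cases h4 : ∀ v, ψ (v, t0) ∈ pCore 2 H
  · exact Or.inl h4
  exfalso
  have hemul : ∀ {a b : El}, ψ a ∈ pCore 2 H → ψ b ∈ pCore 2 H → ψ (emul a b) ∈ pCore 2 H :=
    fun ha hb => h.mul _ _ ▸ mul_mem ha hb
  have hinv : ∀ {a : El}, ψ a ∈ pCore 2 H → ψ (einv a) ∈ pCore 2 H :=
    fun ha => psi_inv h _ ▸ inv_mem ha
  have hcj : ∀ (f : El) {a : El}, ψ a ∈ pCore 2 H → ψ (econj f a) ∈ pCore 2 H :=
    fun f _ ha => psi_conj h f _ ▸ core_normal h ha
  have hg1 : ψ (gens u).1 ∈ pCore 2 H := hemul (hcj (v0, flag 0) hu) (hinv hu)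
  have hg2 : ψ (gens u).2.1 ∈ pCore 2 H := hemul (hcj (v0, flag 1) hu) (hinv hu)
  have hg3 : ψ (gens u).2.2 ∈ pCore 2 H := hemul (hcj (v0, flag 1) hg1) (hinv hg1)
  have hpick : ∀ (i : Bool) {a : El}, ψ a ∈ pCore 2 H → ψ (pick i a) ∈ pCore 2 H := by
    intro i a ha
    cases i
    · show ψ e1 ∈ _
      rw [psi_one h]; exact one_mem _
    · exact ha
  have hH3 : ∀ e, tri e = (false, false, false) → ψ e ∈ pCore 2 H := by
    intro e he
    obtain ⟨i, j, k, rfl⟩ := gens_span u huo e he
    exact hemul (hemul (hpick i hg1) (hpick j hg2)) (hpick k hg3)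
  have hdep : ∀ {a b : El}, tri a = tri b → ψ a ∈ pCore 2 H → ψ b ∈ pCore 2 H := by
    intro a b hab ha
    have e : ψ (emul b (einv a)) * ψ a = ψ b := by
      rw [← h.mul, mul_assoc, h.mul (einv a), (emul_einv a).2, psi_one h, mul_one]
    rw [← e]
    exact mul_mem (hH3 _ (same_tri a b hab)) ha
  let D : Bool × Bool × Bool → Bool := fun t => decide (∃ e, tri e = t ∧ ψ e ∈ pCore 2 H)
  let b : Bits := ⟨D (false, false, false), D (false, false, true), D (false, true, false),
    D (false, true, true), D (true, false, false), D (true, false, true), D (true, true, false),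
    D (true, true, true)⟩
  have hhas : ∀ t, b.has t = D t := by
    rintro ⟨a, s, t⟩
    cases a <;> cases s <;> cases t <;> rfl
  have hmem : ∀ e, e ∈ pre b ↔ ψ e ∈ pCore 2 H := by
    intro e
    rw [pre, List.mem_filter, hhas]
    refine ⟨fun hh => ?_, fun he => ⟨els_mem e, decide_eq_true ⟨e, rfl, he⟩⟩⟩
    obtain ⟨f, hf, hfP⟩ := of_decide_eq_true hh.2
    exact hdep hf hfP
  have hb4 : D (true, false, false) = false := by
    rw [Bool.eq_false_iff]
    intro hh
    obtain ⟨f, hf, hfP⟩ := of_decide_eq_true hh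
    refine h4 fun v => ?_
    rcases Bool.eq_false_or_eq_true (offH v) with hv | hv
    · exact hdep (hf.trans (by simp [tri, hv, t0])) hfP
    · exact hH3 _ (by simp [tri, hv, t0])
  have hcand : candidate b = true := by
    simp only [candidate, Bool.and_eq_true, Bool.not_eq_true', List.all_eq_true, Bool.or_eq_true,
      Bool.and_eq_false_iff, hhas, hb4, and_true]
    refine ⟨⟨decide_eq_true ⟨e1, by decide +kernel, hH3 _ (by decide +kernel)⟩, ?_⟩, ?_⟩
    · have hD : D (tri u) = true := decide_eq_true ⟨u, rfl, hu⟩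
      obtain ⟨v, ⟨s, t⟩⟩ := u
      simp only [tri, huo] at hD
      show ((D (true, false, false) = true ∨ D (true, false, true) = true) ∨ D (true, true, false) = true) ∨ D (true, true, true) = true
      cases s <;> cases t
      · exact Or.inl (Or.inl (Or.inl hD))
      · exact Or.inl (Or.inl (Or.inr hD))
      · exact Or.inl (Or.inr hD)
      · exact Or.inr hD
    · intro t _ w _
      by_cases ht : D t = true
      · by_cases hw : D w = true
        · obtain ⟨a, rfl, ha⟩ := of_decide_eq_true ht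
          obtain ⟨c, rfl, hc⟩ := of_decide_eq_true hw
          exact Or.inr (decide_eq_true ⟨emul a c, tri_mul a c, hemul ha hc⟩)
        · exact Or.inl (Or.inr (by simpa using hw))
      · exact Or.inl (Or.inl (by simpa using ht))
  have hp : IsPGroup 2 (⊤ : Subgroup H) := isPGroup_two_of_odd fun g _ ho => by
    obtain ⟨e, rfl⟩ := h.core_mem g (h.cent (fixed_of_rigid h hmem (els_nodup.filter _)
      (rigid_of_candidate hcand) ho))
    exact orderOf_eq_one_iff.1 (Nat.eq_one_of_dvd_coprimes
      (Nat.Coprime.pow_right 2 (Nat.coprime_two_right.2 ho)) dvd_rfl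
      (orderOf_dvd_of_pow_eq_one (psi_pow h e)))
  exact h4 fun v => CfsgLib.Base.le_pCore (N := (⊤ : Subgroup H)) hp (mem_top _)

/-- When the elementary subgroup of order sixteen lies in the two-core it is normal. -/
theorem A_normal [Finite H] (hA : ∀ v, ψ (v, t0) ∈ pCore 2 H) (g : H) (v : Vec) :
    ∃ w, g * ψ (v, t0) * g⁻¹ = ψ (w, t0) := by
  have h16 : ∀ e : El, emul e e = e1 → e.2 ≠ t0 →
      (els.filter fun f => emul f f == e1 && emul e f == emul f e).length < 16 := by
    decide +kernel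
  have hσ0 : ∀ w : Vec, ∃ e, ψ e = g * ψ (w, t0) * g⁻¹ := fun w =>
    h.core_mem _ (core_normal h (hA w))
  choose σ hσ using hσ0
  have hsq : ∀ w : Vec, emul ((w, t0) : El) (w, t0) = e1 := by decide +kernel
  have hcm : ∀ a b : Vec, emul ((a, t0) : El) (b, t0) = emul ((b, t0) : El) (a, t0) := by
    decide +kernel
  suffices hv : (σ v).2 = t0 by
    refine ⟨(σ v).1, ?_⟩
    rw [← hσ v]
    exact congrArg ψ (Prod.ext rfl hv)
  by_contra hne
  have hσsq : ∀ w, emul (σ w) (σ w) = e1 := fun w => h.inj (by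
    rw [← h.mul, hσ, psi_one h,
      show g * ψ (w, t0) * g⁻¹ * (g * ψ (w, t0) * g⁻¹) = g * (ψ (w, t0) * ψ (w, t0)) * g⁻¹ by group,
      h.mul, hsq, psi_one h]
    group)
  have hσc : ∀ w, emul (σ v) (σ w) = emul (σ w) (σ v) := fun w => h.inj (by
    rw [← h.mul, ← h.mul, hσ, hσ]
    calc g * ψ (v, t0) * g⁻¹ * (g * ψ (w, t0) * g⁻¹)
        = g * (ψ (v, t0) * ψ (w, t0)) * g⁻¹ := by group
      _ = g * (ψ (w, t0) * ψ (v, t0)) * g⁻¹ := by rw [h.mul, h.mul, hcm]
      _ = _ := by group)
  have hinj : Function.Injective σ := fun a b e => by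
    have h2 := congrArg ψ e
    rw [hσ, hσ] at h2
    exact congrArg Prod.fst (h.inj (mul_left_cancel (mul_right_cancel h2)))
  have hsub : Finset.univ.image σ ⊆
      (els.filter fun f => emul f f == e1 && emul (σ v) f == emul f (σ v)).toFinset := by
    intro e he
    obtain ⟨w, -, rfl⟩ := Finset.mem_image.1 he
    rw [List.mem_toFinset, List.mem_filter]
    exact ⟨els_mem _, by rw [hσsq, hσc]; simp⟩
  have h1 := (Finset.card_le_card hsub).trans (List.toFinset_card_le _)
  rw [Finset.card_image_of_injective _ hinj, Finset.card_univ] at h1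
  have h2 := h16 _ (hσsq v) hne
  have h3 : Fintype.card Vec = 16 := by decide +kernel
  omega

end ShapeAux

end CfsgLib.AEightSyl
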