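import Cfsg.Agent.Lib.AEightSyl.Bridge
import Cfsg.Agent.Lib.AEightSyl.Pieces

/-!
# S2918, piece B1: the stabiliser of `z` in the automiser of `A`
-/

set_option autoImplicit false
set_option linter.style.haveILetI false
set_option linter.unusedSimpArgs false
set_option linter.unusedSectionVars false
set_option synthInstance.maxSize 4000

namespace CfsgLib.AEightSyl

open Cfsg Subgroup
open CfsgLib.L34Sylow (cj cz)

universe u

variable {G : Type u} [Group G] [Finite G] {S : Sylow 2 G} {φ : El → G}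

theorem Moves.pow (hS : Setup S φ) (hF : Facts S φ) {n : G} {σ : PV} (h : Moves φ n σ) (a : ℕ) :
    Moves φ (n ^ a) (σ ^ a) := by
  induction a with
  | zero => rw [pow_zero, pow_zero]; exact (moves_one_iff hS hF).2 (one_mem _)
  | succ a ih => rw [pow_succ, pow_succ]; exact ih.mul h

theorem vs_elt (hS : Setup S φ) (hF : Facts S φ) {n : G} {σ : PV} (h : Moves φ n σ) (hV : σ ∈ Vs) :
    ∃ s ∈ S, s⁻¹ * n ∈ centralizer (SA φ : Set G) := by
  rcases mem_Vs.1 hV with rfl | ⟨i, rfl⟩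
  · exact ⟨1, (S : Subgroup G).one_mem, by rw [inv_one, one_mul]; exact (moves_one_iff hS hF).1 h⟩
  · refine ⟨φ (v0, flag i), hS.mem _, (moves_one_iff hS hF).1 ?_⟩
    have h1 := (moves_flag hS v0 i).inv.mul h
    rwa [inv_mul_cancel] at h1

/-- Piece B1. -/
theorem stabZ : StmtStabZ.{u} := by
  intro G _ _ S φ hS hF
  have hX := auto_autX hS hF
  constructor
  · rintro hR n ⟨hn, hnz⟩
    obtain ⟨σ, hσ⟩ := exists_moves hS hF hn
    exact vs_elt hS hF hσ (hX.not_rot ⟨(mem_autX hS hF).2 ⟨n, hn, hσ⟩, (moves_fix hS hσ vz).2 hnz⟩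
      (fun e => hR ((rot_iff hS hF).2 e)))
  · rintro n ⟨hn, hnz⟩
    obtain ⟨σ, hσ⟩ := exists_moves hS hF hn
    exact vs_elt hS hF (hσ.pow hS hF 3)
      (hX.cube_mem ⟨(mem_autX hS hF).2 ⟨n, hn, hσ⟩, (moves_fix hS hσ vz).2 hnz⟩)

end CfsgLib.AEightSyl
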