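import Cfsg.Agent.Lib.AEightSyl.Kill

/-!
# S2918, piece A1: coordinates of a Sylow two-subgroup of type `A₈`
-/

set_option autoImplicit false
set_option linter.style.haveILetI false
set_option linter.unusedSectionVars false
set_option maxRecDepth 100000
set_option synthInstance.maxSize 4000

namespace CfsgLib.AEightSyl

open Cfsg Subgroup CfsgLib.L34Sylow

universe u

namespace Start

theorem el_inv : ∀ e : El, emul (emul e (emul e e)) e = (v0, t0) ∧ emul e (v0, t0) = e ∧
    emul e (vz, t0) = emul (vz, t0) e := by decide +kernel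

/-- The image of an element in the alternating group. -/
def im (e : El) : ↥(alternatingGroup (Fin 8)) :=
  ⟨Kill.elPerm e, Equiv.Perm.mem_alternatingGroup.2 (Kill.elPerm_sign e)⟩

theorem im_mul (e f : El) : im e * im f = im (emul e f) := Subtype.ext (Kill.elPerm_mul e f)

theorem im_one : im (v0, t0) = 1 := by
  have h := im_mul (v0, t0) (v0, t0)
  rw [(el_inv _).2.1] at h
  exact left_eq_mul.1 h.symm

theorem im_inj : Function.Injective im := fun e f h => by
  have h1 : im (emul (emul f (emul f f)) e) = 1 := by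
    rw [← im_mul, h, im_mul, (el_inv f).1, im_one]
  have h2 : emul (emul f (emul f f)) e = (v0, t0) := Kill.elPerm_one _ fun i => by
    have := congrArg (fun p : ↥(alternatingGroup (Fin 8)) => (p : Equiv.Perm (Fin 8)) i) h1
    simpa [im] using this
  exact (show ∀ e f : El, emul (emul f (emul f f)) e = (v0, t0) → e = f by decide +kernel) e f h2

/-- The image is a subgroup of order sixty-four. -/
def imGrp : Subgroup ↥(alternatingGroup (Fin 8)) where
  carrier := Set.range im
  one_mem' := ⟨_, im_one⟩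
  mul_mem' := by rintro _ _ ⟨e, rfl⟩ ⟨f, rfl⟩; exact ⟨_, (im_mul e f).symm⟩
  inv_mem' := by
    rintro _ ⟨e, rfl⟩
    refine ⟨emul e (emul e e), eq_inv_of_mul_eq_one_left ?_⟩
    rw [im_mul, (el_inv e).1, im_one]

theorem card_imGrp : Nat.card imGrp = 64 := by
  show Nat.card (Set.range im) = 64
  rw [Nat.card_range_of_injective im_inj, Nat.card_eq_fintype_card]
  rfl

end Start

/-- Piece A1. -/
theorem start : StmtStart.{u} := by
  intro G _ _ hO2 hcore2 hodd S hS hsol
  classical
  haveI : Fact (Nat.Prime 2) := ⟨Nat.prime_two⟩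
  have hp : IsPGroup 2 Start.imGrp :=
    IsPGroup.of_card (n := 6) (by rw [Start.card_imGrp]; norm_num)
  have hi : ¬ 2 ∣ Start.imGrp.index := by
    intro hd
    have h := Subgroup.card_mul_index Start.imGrp
    rw [Start.card_imGrp, nat_card_alternatingGroup, Nat.card_fin,
      show Nat.factorial 8 / 2 = 64 * 315 from rfl] at h
    rw [Nat.eq_of_mul_eq_mul_left (by norm_num) h] at hd
    norm_num at hd
  obtain ⟨ψ⟩ := hS (hp.toSylow hi)
  let φ : El → G := fun e => ((ψ.symm ⟨Start.im e, e, rfl⟩ : (S : Subgroup G)) : G)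
  have hmem : ∀ e, φ e ∈ (S : Subgroup G) := fun e => SetLike.coe_mem _
  have hinj : Function.Injective φ := fun e f h =>
    Start.im_inj (congrArg Subtype.val (ψ.symm.injective (Subtype.ext h)))
  have hmul : ∀ e f, φ e * φ f = φ (emul e f) := fun e f => by
    show ((ψ.symm ⟨Start.im e, e, rfl⟩ : (S : Subgroup G)) : G) *
      ((ψ.symm ⟨Start.im f, f, rfl⟩ : (S : Subgroup G)) : G) = _
    rw [← Subgroup.coe_mul, ← map_mul]
    exact congrArg (fun r => ((ψ.symm r : (S : Subgroup G)) : G)) (Subtype.ext (Start.im_mul e f))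
  have hsurj : ∀ g ∈ (S : Subgroup G), ∃ e, φ e = g := fun g hg => by
    obtain ⟨e, he⟩ := (ψ ⟨g, hg⟩).2
    refine ⟨e, ?_⟩
    exact (congrArg (fun r => ((ψ.symm r : (S : Subgroup G)) : G))
      (Subtype.ext he : _ = ψ ⟨g, hg⟩)).trans (by rw [MulEquiv.symm_apply_apply])
  have h1 : φ (v0, t0) = 1 := by
    have h := hmul (v0, t0) (v0, t0)
    rw [(Start.el_inv _).2.1] at h
    exact left_eq_mul.1 h.symm
  refine ⟨φ, hmem, hsurj, hinj, hmul, hO2, hcore2, hodd, hsol _ (hmem _) ?_ ?_⟩
  · intro s hs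
    obtain ⟨e, rfl⟩ := hsurj s hs
    rw [hmul, hmul, (Start.el_inv e).2.2]
  · refine orderOf_eq_prime ?_ fun h => ?_
    · rw [sq, hmul, show emul (vz, t0) (vz, t0) = (v0, t0) by decide, h1]
    · exact absurd (hinj (h.trans h1.symm)) (by decide)

end CfsgLib.AEightSyl
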